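import Mathlib
import Groth.Prelude.Def_Grpd

/-!
# Groupoid schemes: elementary facts on points and on T-points
-/

set_option autoImplicit false

universe u

open AlgebraicGeometry CategoryTheory CategoryTheory.Limits

noncomputable section

namespace Groth.GrpdBasic

variable {S : Scheme.{u}} (G : Grpd.GroupoidScheme S)

/-- composition of T-points -/
def comp {T : Scheme.{u}} (α β : T ⟶ G.R) (h : α ≫ G.s = β ≫ G.t) : T ⟶ G.R :=
  pullback.lift α β h ≫ G.c

theorem comp_congr {T : Scheme.{u}} {α α' β β' : T ⟶ G.R} (h : α ≫ G.s = β ≫ G.t)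
    (hα : α = α') (hβ : β = β') :
    comp G α β h = comp G α' β' (by rw [← hα, ← hβ, h]) := by subst hα; subst hβ; rfl

theorem comp_comp_c {T : Scheme.{u}} (p : T ⟶ pullback G.s G.t) :
    p ≫ G.c = comp G (p ≫ pullback.fst _ _) (p ≫ pullback.snd _ _)
      (by simp [pullback.condition]) := by
  rw [comp]
  congr 1
  apply pullback.hom_ext
  · rw [pullback.lift_fst]
  · rw [pullback.lift_snd]

theorem precomp_comp {T' T : Scheme.{u}} (f : T' ⟶ T) (α β : T ⟶ G.R) (h : α ≫ G.s = β ≫ G.t) :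
    f ≫ comp G α β h = comp G (f ≫ α) (f ≫ β) (by simp [h]) := by
  rw [comp, comp, ← Category.assoc]
  congr 1
  apply pullback.hom_ext
  · rw [Category.assoc, pullback.lift_fst, pullback.lift_fst]
  · rw [Category.assoc, pullback.lift_snd, pullback.lift_snd]

theorem c_s : G.c ≫ G.s = pullback.snd G.s G.t ≫ G.s := by
  have := G.comp_s (pullback.fst G.s G.t) (pullback.snd G.s G.t) pullback.condition
  rwa [show pullback.lift (pullback.fst G.s G.t) (pullback.snd G.s G.t) pullback.condition = 𝟙 _ by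
    apply pullback.hom_ext <;> simp, Category.id_comp] at this

theorem c_t : G.c ≫ G.t = pullback.fst G.s G.t ≫ G.t := by
  have := G.comp_t (pullback.fst G.s G.t) (pullback.snd G.s G.t) pullback.condition
  rwa [show pullback.lift (pullback.fst G.s G.t) (pullback.snd G.s G.t) pullback.condition = 𝟙 _ by
    apply pullback.hom_ext <;> simp, Category.id_comp] at this

theorem exists_comp_point (r r' : G.R) (h : G.s r = G.t r') :
    ∃ r'' : G.R, G.t r'' = G.t r ∧ G.s r'' = G.s r' := by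
  obtain ⟨p, hp1, hp2⟩ := Scheme.Pullback.exists_preimage_pullback r r' h
  refine ⟨G.c p, ?_, ?_⟩
  · rw [← Scheme.Hom.comp_apply, c_t, Scheme.Hom.comp_apply, hp1]
  · rw [← Scheme.Hom.comp_apply, c_s, Scheme.Hom.comp_apply, hp2]

theorem orbit_equivalence :
    Equivalence fun x y : G.U => ∃ r : G.R, G.t r = x ∧ G.s r = y := by
  refine ⟨fun x => ⟨G.e x, ?_, ?_⟩, ?_, ?_⟩
  · rw [← Scheme.Hom.comp_apply, G.e_t]; rfl
  · rw [← Scheme.Hom.comp_apply, G.e_s]; rfl
  · rintro x y ⟨r, rfl, rfl⟩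
    exact ⟨G.i r, by rw [← Scheme.Hom.comp_apply, G.i_t], by rw [← Scheme.Hom.comp_apply, G.i_s]⟩
  · rintro x y z ⟨r, rfl, hr⟩ ⟨r', hr', rfl⟩
    exact exists_comp_point G r r' (hr.trans hr'.symm)

theorem preimage_saturation (W : Set G.U) :
    ⇑G.s ⁻¹' (⇑G.t '' (⇑G.s ⁻¹' W)) = ⇑G.t ⁻¹' (⇑G.t '' (⇑G.s ⁻¹' W)) := by
  have hE := orbit_equivalence G
  ext r
  constructor
  · rintro ⟨r', hr', e⟩
    obtain ⟨r'', h1, h2⟩ := hE.trans ⟨r, rfl, rfl⟩ ⟨r', e, rfl⟩
    exact ⟨r'', by rw [Set.mem_preimage, h2]; exact hr', h1⟩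
  · rintro ⟨r', hr', e⟩
    obtain ⟨r'', h1, h2⟩ := hE.trans (hE.symm ⟨r, rfl, rfl⟩) ⟨r', e, rfl⟩
    exact ⟨r'', by rw [Set.mem_preimage, h2]; exact hr', h1⟩

end Groth.GrpdBasic
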