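import Mathlib
import Groth.Prelude.Def_Grpd
import Groth.Agent.GitQuot.GrpdBasic

/-!
# Groupoid schemes: calculus of arrows with values in a scheme, shear isomorphisms
-/

set_option autoImplicit false

universe u

open AlgebraicGeometry CategoryTheory CategoryTheory.Limits

noncomputable section

namespace Groth.GrpdBasic

variable {S : Scheme.{u}} (G : Grpd.GroupoidScheme S) {T : Scheme.{u}}

@[simp, reassoc]
theorem comp_s (α β : T ⟶ G.R) (h : α ≫ G.s = β ≫ G.t) : comp G α β h ≫ G.s = β ≫ G.s :=
  G.comp_s α β h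

@[simp, reassoc]
theorem comp_t (α β : T ⟶ G.R) (h : α ≫ G.s = β ≫ G.t) : comp G α β h ≫ G.t = α ≫ G.t :=
  G.comp_t α β h

theorem comp_assoc (α β γ : T ⟶ G.R) (h₁ : α ≫ G.s = β ≫ G.t) (h₂ : β ≫ G.s = γ ≫ G.t) :
    comp G (comp G α β h₁) γ (by rw [comp_s, h₂]) = comp G α (comp G β γ h₂) (by rw [comp_t, h₁]) :=
  G.assoc α β γ h₁ h₂

theorem comp_unit (α : T ⟶ G.R) {u : T ⟶ G.U} (hu : α ≫ G.s = u) :
    comp G α (u ≫ G.e) (by rw [Category.assoc, G.e_t, Category.comp_id, hu]) = α := by
  subst hu
  simpa only [comp, Category.assoc] using G.comp_e α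

theorem unit_comp (α : T ⟶ G.R) {u : T ⟶ G.U} (hu : α ≫ G.t = u) :
    comp G (u ≫ G.e) α (by rw [Category.assoc, G.e_s, Category.comp_id, hu]) = α := by
  subst hu
  simpa only [comp, Category.assoc] using G.e_comp α

theorem comp_inv (α : T ⟶ G.R) :
    comp G α (α ≫ G.i) (by rw [Category.assoc, G.i_t]) = (α ≫ G.t) ≫ G.e := by
  exact (G.comp_i α).trans (Category.assoc _ _ _).symm

theorem inv_comp (α : T ⟶ G.R) :
    comp G (α ≫ G.i) α (by rw [Category.assoc, G.i_s]) = (α ≫ G.s) ≫ G.e := by
  exact (G.i_comp α).trans (Category.assoc _ _ _).symm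

theorem inv_comp_cancel (α β : T ⟶ G.R) (h : α ≫ G.s = β ≫ G.t) :
    comp G (α ≫ G.i) (comp G α β h) (by rw [Category.assoc, G.i_s, comp_t]) = β := by
  rw [← comp_assoc G (α ≫ G.i) α β (by rw [Category.assoc, G.i_s]) h,
    comp_congr G _ (inv_comp G α) rfl]
  exact unit_comp G β h.symm

theorem comp_inv_comp_cancel (α β : T ⟶ G.R) (h : (α ≫ G.i) ≫ G.s = β ≫ G.t) :
    comp G α (comp G (α ≫ G.i) β h) (by rw [comp_t, Category.assoc, G.i_t]) = β := by
  rw [← comp_assoc G α (α ≫ G.i) β (by rw [Category.assoc, G.i_t]) h,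
    comp_congr G _ (comp_inv G α) rfl]
  exact unit_comp G β (by rw [← h, Category.assoc, G.i_s])

theorem comp_cancel_inv (α β : T ⟶ G.R) (h : α ≫ G.s = β ≫ G.t) :
    comp G (comp G α β h) (β ≫ G.i) (by rw [comp_s, Category.assoc, G.i_t]) = α := by
  rw [comp_assoc G α β (β ≫ G.i) h (by rw [Category.assoc, G.i_t]),
    comp_congr G _ rfl (comp_inv G β)]
  exact comp_unit G α h

theorem comp_inv_cancel (α β : T ⟶ G.R) (h : α ≫ G.s = (β ≫ G.i) ≫ G.t) :
    comp G (comp G α (β ≫ G.i) h) β (by rw [comp_s, Category.assoc, G.i_s]) = α := by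
  rw [comp_assoc G α (β ≫ G.i) β h (by rw [Category.assoc, G.i_s]),
    comp_congr G _ rfl (inv_comp G β)]
  exact comp_unit G α (by rw [h, Category.assoc, G.i_t])

theorem i_i : G.i ≫ G.i = 𝟙 G.R := by
  have key : comp G ((G.i ≫ G.i)) (comp G G.i (𝟙 G.R) (by rw [G.i_s, Category.id_comp]))
      (by rw [comp_t, Category.assoc, G.i_s]) = 𝟙 G.R :=
    inv_comp_cancel G G.i (𝟙 G.R) (by rw [G.i_s, Category.id_comp])
  have e : comp G G.i (𝟙 G.R) (by rw [G.i_s, Category.id_comp]) = (𝟙 G.R ≫ G.s) ≫ G.e := by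
    have := inv_comp G (𝟙 G.R)
    rw [comp_congr G _ (Category.id_comp G.i) rfl] at this
    exact this
  rw [comp_congr G _ rfl e] at key
  rwa [comp_unit G (G.i ≫ G.i) (by rw [Category.assoc, G.i_s, G.i_t, Category.id_comp])] at key

instance isIso_i : IsIso G.i := ⟨G.i, i_i G, i_i G⟩

@[simp, reassoc]
theorem j_fst : G.j ≫ pullback.fst G.pU G.pU = G.t := pullback.lift_fst _ _ _

@[simp, reassoc]
theorem j_snd : G.j ≫ pullback.snd G.pU G.pU = G.s := pullback.lift_snd _ _ _

@[simp, reassoc]
theorem diag_fst : G.diag ≫ pullback.fst G.pU G.pU = 𝟙 G.U := pullback.lift_fst _ _ _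

@[simp, reassoc]
theorem diag_snd : G.diag ≫ pullback.snd G.pU G.pU = 𝟙 G.U := pullback.lift_snd _ _ _

/-- Left translation by the family of arrows `a`: `(z, x) ↦ (z, a z ∘ x)`. -/
def shearA {Z : Scheme.{u}} (a : Z ⟶ G.R) :
    pullback (a ≫ G.s) G.t ≅ pullback (a ≫ G.t) G.t where
  hom := pullback.lift (pullback.fst _ _)
    (comp G (pullback.fst (a ≫ G.s) G.t ≫ a) (pullback.snd _ _) (by rw [Category.assoc]; exact pullback.condition))
    (by rw [comp_t, Category.assoc])
  inv := pullback.lift (pullback.fst _ _)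
    (comp G ((pullback.fst (a ≫ G.t) G.t ≫ a) ≫ G.i) (pullback.snd _ _)
      (by rw [Category.assoc, Category.assoc, G.i_s]; exact pullback.condition))
    (by rw [comp_t, Category.assoc, Category.assoc, G.i_t])
  hom_inv_id := by
    apply pullback.hom_ext
    · rw [Category.assoc, pullback.lift_fst, pullback.lift_fst, Category.id_comp]
    · rw [Category.assoc, pullback.lift_snd, Category.id_comp, precomp_comp]
      refine Eq.trans ?_ (inv_comp_cancel G (pullback.fst (a ≫ G.s) G.t ≫ a) (pullback.snd _ _)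
        (by rw [Category.assoc]; exact pullback.condition))
      apply comp_congr
      · simp only [← Category.assoc]; rw [pullback.lift_fst]
      · rw [pullback.lift_snd]
  inv_hom_id := by
    apply pullback.hom_ext
    · rw [Category.assoc, pullback.lift_fst, pullback.lift_fst, Category.id_comp]
    · rw [Category.assoc, pullback.lift_snd, Category.id_comp, precomp_comp]
      refine Eq.trans ?_ (comp_inv_comp_cancel G (pullback.fst (a ≫ G.t) G.t ≫ a) (pullback.snd _ _)
        (by rw [Category.assoc, Category.assoc, G.i_s]; exact pullback.condition))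
      apply comp_congr
      · simp only [← Category.assoc]; rw [pullback.lift_fst]
      · rw [pullback.lift_snd]

@[simp, reassoc]
theorem shearA_hom_fst {Z : Scheme.{u}} (a : Z ⟶ G.R) :
    (shearA G a).hom ≫ pullback.fst _ _ = pullback.fst _ _ := pullback.lift_fst _ _ _

@[reassoc]
theorem shearA_hom_snd {Z : Scheme.{u}} (a : Z ⟶ G.R) :
    (shearA G a).hom ≫ pullback.snd _ _ = comp G (pullback.fst (a ≫ G.s) G.t ≫ a) (pullback.snd _ _)
      (by rw [Category.assoc]; exact pullback.condition) := pullback.lift_snd _ _ _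

@[reassoc]
theorem shearA_inv_snd {Z : Scheme.{u}} (a : Z ⟶ G.R) :
    (shearA G a).inv ≫ pullback.snd _ _ = comp G ((pullback.fst (a ≫ G.t) G.t ≫ a) ≫ G.i) (pullback.snd _ _)
      (by rw [Category.assoc, Category.assoc, G.i_s]; exact pullback.condition) := pullback.lift_snd _ _ _

@[simp, reassoc]
theorem shearA_inv_fst {Z : Scheme.{u}} (a : Z ⟶ G.R) :
    (shearA G a).inv ≫ pullback.fst _ _ = pullback.fst _ _ := pullback.lift_fst _ _ _

/-- `(α, β) ↦ (α ∘ β, β)` -/
def shearS : pullback G.s G.t ≅ pullback G.s G.s where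
  hom := pullback.lift G.c (pullback.snd _ _) (c_s G)
  inv := pullback.lift
    (comp G (pullback.fst G.s G.s) (pullback.snd G.s G.s ≫ G.i)
      (by rw [Category.assoc, G.i_t]; exact pullback.condition))
    (pullback.snd _ _) (by rw [comp_s, Category.assoc, G.i_s])
  hom_inv_id := by
    apply pullback.hom_ext
    · rw [Category.assoc, pullback.lift_fst, Category.id_comp, precomp_comp]
      refine Eq.trans ?_ (comp_cancel_inv G (pullback.fst G.s G.t) (pullback.snd _ _) pullback.condition)
      apply comp_congr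
      · rw [pullback.lift_fst, comp, show pullback.lift (pullback.fst G.s G.t) (pullback.snd G.s G.t) pullback.condition = 𝟙 _ by
          apply pullback.hom_ext <;> simp, Category.id_comp]
      · rw [pullback.lift_snd_assoc]
    · rw [Category.assoc, pullback.lift_snd, pullback.lift_snd, Category.id_comp]
  inv_hom_id := by
    apply pullback.hom_ext
    · rw [Category.assoc, pullback.lift_fst, Category.id_comp, comp_comp_c]
      refine Eq.trans ?_ (comp_inv_cancel G (pullback.fst G.s G.s) (pullback.snd _ _)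
        (by rw [Category.assoc, G.i_t]; exact pullback.condition))
      apply comp_congr
      · rw [pullback.lift_fst]
      · rw [pullback.lift_snd]
    · rw [Category.assoc, pullback.lift_snd, pullback.lift_snd, Category.id_comp]

theorem isPullback_c_snd : IsPullback G.c (pullback.snd G.s G.t) G.s G.s :=
  IsPullback.of_iso_pullback ⟨c_s G⟩ (shearS G) (pullback.lift_fst _ _ _) (pullback.lift_snd _ _ _)

theorem c_eq_comp : G.c = comp G (pullback.fst G.s G.t) (pullback.snd G.s G.t) pullback.condition := by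
  simpa using comp_comp_c G (𝟙 _)

end Groth.GrpdBasic
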