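import Mathlib
import Groth.Prelude.Def_Grpd
import Groth.Agent.GitQuot.GrpdShear

/-!
# Groupoid schemes over the spectrum of a field
-/

set_option autoImplicit false

universe u

open AlgebraicGeometry CategoryTheory CategoryTheory.Limits

noncomputable section

namespace Groth.GrpdBasic

theorem subsingleton_of_iso_field {X : Scheme.{u}} (k : Type u) [Field k]
    (e : X ≅ Spec (CommRingCat.of k)) : Subsingleton X :=
  (Scheme.homeoOfIso e).injective.subsingleton

theorem isIntegral_of_iso_field {X : Scheme.{u}} (k : Type u) [Field k]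
    (e : X ≅ Spec (CommRingCat.of k)) : IsIntegral X := by
  have : Nonempty X := ⟨e.inv (IsLocalRing.closedPoint k)⟩
  exact IsIntegral.of_isIso e.inv

theorem universallyOpen_of_field {X Y : Scheme.{u}} (k : Type u) [Field k]
    (e : Y ≅ Spec (CommRingCat.of k)) (f : X ⟶ Y) : UniversallyOpen f := by
  have := subsingleton_of_iso_field k e
  have := isIntegral_of_iso_field k e
  infer_instance

/-- Over a field, the image under a projection of an open set cut out by any condition on the other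
factor is open. -/
theorem isOpen_image_snd_inter {X Y B : Scheme.{u}} (k : Type u) [Field k]
    (e : B ≅ Spec (CommRingCat.of k)) (f : X ⟶ B) (g : Y ⟶ B)
    {W : Set ↥(pullback f g)} (hW : IsOpen W) (A : Set X) :
    IsOpen (⇑(pullback.snd f g) '' (W ∩ ⇑(pullback.fst f g) ⁻¹' A)) := by
  rw [isOpen_iff_forall_mem_open]
  rintro _ ⟨q, ⟨hqW, hqA⟩, rfl⟩
  let z := pullback.fst f g q
  let ι : Spec (X.residueField z) ⟶ X := X.fromSpecResidueField z
  let m := pullback.map (ι ≫ f) g f g ι (𝟙 Y) (𝟙 B) (by simp) (by simp)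
  have := universallyOpen_of_field k e (ι ≫ f)
  refine ⟨pullback.snd (ι ≫ f) g '' (⇑m ⁻¹' W), ?_, ?_, ?_⟩
  · rintro _ ⟨p, hp, rfl⟩
    refine ⟨m p, ⟨hp, ?_⟩, ?_⟩
    · rw [Set.mem_preimage, ← Scheme.Hom.comp_apply, pullback.lift_fst, Scheme.Hom.comp_apply,
        Scheme.fromSpecResidueField_apply]
      exact hqA
    · rw [← Scheme.Hom.comp_apply, pullback.lift_snd, Category.comp_id]
  · exact (Scheme.Hom.isOpenMap (pullback.snd (ι ≫ f) g)) _ (hW.preimage m.continuous)
  · have hm : q ∈ Set.range m := by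
      rw [Scheme.Pullback.range_map]
      refine ⟨?_, ⟨pullback.snd f g q, rfl⟩⟩
      rw [Set.mem_preimage, Scheme.range_fromSpecResidueField]
      rfl
    obtain ⟨p, hp⟩ := hm
    refine ⟨p, by rw [Set.mem_preimage, hp]; exact hqW, ?_⟩
    rw [← hp, ← Scheme.Hom.comp_apply, pullback.lift_snd, Category.comp_id]

theorem isOpen_image_fst_inter {X Y B : Scheme.{u}} (k : Type u) [Field k]
    (e : B ≅ Spec (CommRingCat.of k)) (f : X ⟶ B) (g : Y ⟶ B)
    {W : Set ↥(pullback f g)} (hW : IsOpen W) (A : Set Y) :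
    IsOpen (⇑(pullback.fst f g) '' (W ∩ ⇑(pullback.snd f g) ⁻¹' A)) := by
  have h := isOpen_image_snd_inter k e g f (hW.preimage (pullbackSymmetry g f).hom.continuous) A
  convert h using 1
  have e1 : ∀ p, pullback.fst f g ((pullbackSymmetry g f).hom p) = pullback.snd g f p := fun p => by
    rw [← Scheme.Hom.comp_apply, pullbackSymmetry_hom_comp_fst]
  have e2 : ∀ p, pullback.snd f g ((pullbackSymmetry g f).hom p) = pullback.fst g f p := fun p => by
    rw [← Scheme.Hom.comp_apply, pullbackSymmetry_hom_comp_snd]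
  have hs := (Scheme.homeoOfIso (pullbackSymmetry g f)).surjective
  ext y
  constructor
  · rintro ⟨q, ⟨hq, hqA⟩, rfl⟩
    obtain ⟨p, rfl⟩ := hs q
    exact ⟨p, ⟨hq, by rw [Set.mem_preimage, ← e2]; exact hqA⟩, (e1 p).symm⟩
  · rintro ⟨p, ⟨hp, hpA⟩, rfl⟩
    exact ⟨(pullbackSymmetry g f).hom p, ⟨hp, by rw [Set.mem_preimage, e2]; exact hpA⟩, e1 p⟩

/-- Over a field, a point both of whose projections lie in the closures of `A`, `B` is in the
closure of the product of `A` and `B`. -/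
theorem mem_closure_pullback {X Y B : Scheme.{u}} (k : Type u) [Field k]
    (e : B ≅ Spec (CommRingCat.of k)) (f : X ⟶ B) (g : Y ⟶ B) (A : Set X) (C : Set Y)
    {p : ↥(pullback f g)} (h₁ : pullback.fst f g p ∈ closure A) (h₂ : pullback.snd f g p ∈ closure C) :
    p ∈ closure (⇑(pullback.fst f g) ⁻¹' A ∩ ⇑(pullback.snd f g) ⁻¹' C) := by
  rw [mem_closure_iff]
  intro W hW hp
  obtain ⟨_, ⟨q, ⟨hqW, hqC⟩, rfl⟩, hqA⟩ :=
    mem_closure_iff.1 h₁ _ (isOpen_image_fst_inter k e f g hW (closure C)) ⟨p, ⟨hp, h₂⟩, rfl⟩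
  obtain ⟨_, ⟨q', ⟨hqW', hqA'⟩, rfl⟩, hqC'⟩ :=
    mem_closure_iff.1 hqC _ (isOpen_image_snd_inter k e f g hW A) ⟨q, ⟨hqW, hqA⟩, rfl⟩
  exact ⟨q', hqW', hqA', hqC'⟩

variable {S : Scheme.{u}} (G : Grpd.GroupoidScheme S)

/-- composition with a family of arrows is open, over a field -/
theorem isOpenMap_translate (k : Type u) [Field k] (eU : G.U ≅ Spec (CommRingCat.of k))
    {Z : Scheme.{u}} (a : Z ⟶ G.R) :
    IsOpenMap ⇑(comp G (pullback.fst (a ≫ G.s) G.t ≫ a) (pullback.snd _ _)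
      (by rw [Category.assoc]; exact pullback.condition)) := by
  rw [← shearA_hom_snd]
  have := universallyOpen_of_field k eU (a ≫ G.t)
  exact Scheme.Hom.isOpenMap _

/-- composition is open, over a field -/
theorem isOpenMap_c (k : Type u) [Field k] (eU : G.U ≅ Spec (CommRingCat.of k)) : IsOpenMap ⇑G.c := by
  let φ : pullback G.s G.t ⟶ pullback G.t G.t :=
    pullback.lift (pullback.fst _ _) G.c (c_t G).symm
  let ψ : pullback G.t G.t ⟶ pullback G.s G.t :=
    pullback.lift (pullback.fst _ _) (comp G (pullback.fst G.t G.t ≫ G.i) (pullback.snd _ _)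
      (by rw [Category.assoc, G.i_s]; exact pullback.condition)) (by rw [comp_t, Category.assoc, G.i_t])
  have : IsIso φ := by
    refine ⟨ψ, ?_, ?_⟩
    · apply pullback.hom_ext
      · rw [Category.assoc, pullback.lift_fst, pullback.lift_fst, Category.id_comp]
      · rw [Category.assoc, pullback.lift_snd, Category.id_comp, precomp_comp]
        refine Eq.trans ?_ (inv_comp_cancel G (pullback.fst G.s G.t) (pullback.snd _ _) pullback.condition)
        apply comp_congr
        · simp [φ, pullback.lift_fst_assoc]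
        · rw [pullback.lift_snd, c_eq_comp]
    · apply pullback.hom_ext
      · rw [Category.assoc, pullback.lift_fst, pullback.lift_fst, Category.id_comp]
      · rw [Category.assoc, pullback.lift_snd, Category.id_comp, comp_comp_c]
        refine Eq.trans ?_ (comp_inv_comp_cancel G (pullback.fst G.t G.t) (pullback.snd _ _)
          (by rw [Category.assoc, G.i_s]; exact pullback.condition))
        apply comp_congr
        · rw [pullback.lift_fst]
        · rw [pullback.lift_snd]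
  have := universallyOpen_of_field k eU G.t
  rw [show G.c = φ ≫ pullback.snd G.t G.t from (pullback.lift_snd _ _ _).symm]
  exact Scheme.Hom.isOpenMap _

/-- The closure of the image of a morphism of groupoids is stable under composition, over a field. -/
theorem comp_mem_closure {G₁ G₂ : Grpd.GroupoidScheme S} (f : Grpd.GroupoidScheme.Hom G₁ G₂)
    [IsIso f.fU] (k : Type u) [Field k] (eU : G₂.U ≅ Spec (CommRingCat.of k))
    (p : ↥(pullback G₂.s G₂.t)) (h₁ : pullback.fst G₂.s G₂.t p ∈ closure (Set.range ⇑f.fR))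
    (h₂ : pullback.snd G₂.s G₂.t p ∈ closure (Set.range ⇑f.fR)) :
    G₂.c p ∈ closure (Set.range ⇑f.fR) := by
  refine map_mem_closure G₂.c.continuous (mem_closure_pullback k eU G₂.s G₂.t _ _ h₁ h₂) ?_
  rintro q ⟨hq₁, hq₂⟩
  have : q ∈ Set.range ⇑(pullback.map G₁.s G₁.t G₂.s G₂.t f.fR f.fR f.fU f.comm_s.symm f.comm_t.symm) := by
    rw [Scheme.Pullback.range_map]; exact ⟨hq₁, hq₂⟩
  obtain ⟨q₁, rfl⟩ := this
  refine ⟨G₁.c q₁, ?_⟩
  have hc := f.comm_c (pullback.fst G₁.s G₁.t) (pullback.snd _ _) pullback.condition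
  rw [show pullback.lift (pullback.fst G₁.s G₁.t) (pullback.snd G₁.s G₁.t) pullback.condition = 𝟙 _ by
    apply pullback.hom_ext <;> simp, Category.id_comp] at hc
  rw [← Scheme.Hom.comp_apply, ← Scheme.Hom.comp_apply, hc]

end Groth.GrpdBasic

namespace Groth.GrpdBasic

/-- `f.fR` is surjective on points over the field, so an arrow whose image lies in the range lifts
after extending the field. -/
theorem exists_lift_of_mem_range {X Y W : Scheme.{u}} (g : X ⟶ Y) (h : W ⟶ Y) (z : W)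
    (hr : h z ∈ Set.range g) :
    ∃ (L : Type u) (_ : Field L) (e : Spec (CommRingCat.of L) ⟶ W)
      (h' : Spec (CommRingCat.of L) ⟶ X), h' ≫ g = e ≫ h := by
  obtain ⟨x, hx⟩ := hr
  obtain ⟨p, -, -⟩ := Scheme.Pullback.exists_preimage_pullback (f := g) (g := h) x z hx
  exact ⟨(pullback g h).residueField p, inferInstance,
    (pullback g h).fromSpecResidueField p ≫ pullback.snd g h,
    (pullback g h).fromSpecResidueField p ≫ pullback.fst g h,
    by simp [pullback.condition]⟩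

variable {S : Scheme.{u}}

theorem inv_mem_range {G₁ G₂ : Grpd.GroupoidScheme S} (f : Grpd.GroupoidScheme.Hom G₁ G₂) :
    G₁.i ≫ f.fR = f.fR ≫ G₂.i := by
  have hcomp : ∀ {T : Scheme.{u}} (α β : T ⟶ G₁.R) (h : α ≫ G₁.s = β ≫ G₁.t),
      comp G₁ α β h ≫ f.fR = comp G₂ (α ≫ f.fR) (β ≫ f.fR)
        (by rw [Category.assoc, Category.assoc, f.comm_s, f.comm_t, ← Category.assoc, ← Category.assoc, h]) :=
    fun α β h => f.comm_c α β h
  have hu : G₁.e ≫ f.fR = f.fU ≫ G₂.e := by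
    -- the idempotent `G₁.e ≫ f.fR` is a unit
    have hs : (G₁.e ≫ f.fR) ≫ G₂.s = f.fU := by
      rw [Category.assoc, f.comm_s, ← Category.assoc, G₁.e_s, Category.id_comp]
    have ht : (G₁.e ≫ f.fR) ≫ G₂.t = f.fU := by
      rw [Category.assoc, f.comm_t, ← Category.assoc, G₁.e_t, Category.id_comp]
    have h := hcomp G₁.e G₁.e (by rw [G₁.e_s, G₁.e_t])
    have hee : comp G₁ G₁.e G₁.e (by rw [G₁.e_s, G₁.e_t]) = G₁.e := by
      have := comp_unit G₁ G₁.e (u := 𝟙 _) G₁.e_s
      rwa [comp_congr G₁ _ rfl (Category.id_comp G₁.e)] at this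
    rw [hee] at h
    have h2 := inv_comp_cancel G₂ (G₁.e ≫ f.fR) (G₁.e ≫ f.fR) (by rw [hs, ht])
    rw [comp_congr G₂ _ rfl h.symm] at h2
    rw [← h2, inv_comp, hs]
  have hs : (G₁.i ≫ f.fR) ≫ G₂.s = f.fR ≫ G₂.t := by
    rw [Category.assoc, f.comm_s, ← Category.assoc, G₁.i_s, f.comm_t]
  have h := hcomp G₁.i (𝟙 _) (by rw [G₁.i_s, Category.id_comp])
  have hi : comp G₁ G₁.i (𝟙 _) (by rw [G₁.i_s, Category.id_comp]) = G₁.s ≫ G₁.e := by
    have := inv_comp G₁ (𝟙 G₁.R)
    rw [comp_congr G₁ _ (Category.id_comp G₁.i) rfl] at this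
    exact this.trans (congrArg (· ≫ G₁.e) (Category.id_comp G₁.s))
  have e1 : (f.fR ≫ G₂.s) ≫ G₂.e = (G₁.s ≫ G₁.e) ≫ f.fR := by
    rw [f.comm_s, Category.assoc, ← hu, Category.assoc]
  rw [hi, ← e1, comp_congr G₂ _ rfl (Category.id_comp f.fR)] at h
  have h2 := comp_cancel_inv G₂ (G₁.i ≫ f.fR) f.fR hs
  rw [comp_congr G₂ _ h.symm rfl] at h2
  rw [← h2]
  exact unit_comp G₂ (f.fR ≫ G₂.i) (by rw [Category.assoc, G₂.i_t])

theorem isClosed_range_of_isLocallyClosed {G₁ G₂ : Grpd.GroupoidScheme S}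
    (f : Grpd.GroupoidScheme.Hom G₁ G₂) [IsIso f.fU] (k : Type u) [Field k]
    (eU : G₂.U ≅ Spec (CommRingCat.of k)) (hlc : IsLocallyClosed (Set.range f.fR)) :
    IsClosed (Set.range f.fR) := by
  obtain ⟨O, C, hO, hC, hHOC⟩ := hlc
  set H := Set.range f.fR with hH
  refine isClosed_of_closure_subset fun x hx => ?_
  -- everything takes place over the residue field of `x`
  let α := G₂.R.fromSpecResidueField x
  let P₁ := pullback (α ≫ G₂.s) G₂.t
  let P₂ := pullback (α ≫ G₂.t) G₂.t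
  let θ : P₁ ⟶ P₂ := (shearA G₂ α).hom
  let η : P₂ ⟶ P₁ := (shearA G₂ α).inv
  have := universallyOpen_of_field k eU (α ≫ G₂.s)
  have := universallyOpen_of_field k eU (α ≫ G₂.t)
  have hinv : ∀ y ∈ closure H, G₂.i y ∈ closure H := fun y hy =>
    map_mem_closure G₂.i.continuous hy (by
      rintro _ ⟨y₁, rfl⟩
      exact ⟨G₁.i y₁, by rw [← Scheme.Hom.comp_apply, inv_mem_range, Scheme.Hom.comp_apply]⟩)
  have hαx : ∀ z : Spec (G₂.R.residueField x), α z = x := fun z => Scheme.fromSpecResidueField_apply ..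
  let π₁ : P₁ ⟶ G₂.R := pullback.snd (α ≫ G₂.s) G₂.t
  let π₂ : P₂ ⟶ G₂.R := pullback.snd (α ≫ G₂.t) G₂.t
  have hθ : ∀ q : P₁, π₁ q ∈ closure H → π₂ (θ q) ∈ closure H := by
    intro q hq
    rw [← Scheme.Hom.comp_apply, show θ ≫ π₂ = _ from shearA_hom_snd G₂ α, comp, Scheme.Hom.comp_apply]
    refine comp_mem_closure f k eU _ ?_ ?_
    · rw [← Scheme.Hom.comp_apply, pullback.lift_fst, Scheme.Hom.comp_apply, hαx]; exact hx
    · rw [← Scheme.Hom.comp_apply, pullback.lift_snd]; exact hq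
  have hη : ∀ q : P₂, π₂ q ∈ closure H → π₁ (η q) ∈ closure H := by
    intro q hq
    rw [← Scheme.Hom.comp_apply, show η ≫ π₁ = _ from shearA_inv_snd G₂ α, comp, Scheme.Hom.comp_apply]
    refine comp_mem_closure f k eU _ ?_ ?_
    · rw [← Scheme.Hom.comp_apply, pullback.lift_fst, Scheme.Hom.comp_apply, Scheme.Hom.comp_apply, hαx]
      exact hinv x hx
    · rw [← Scheme.Hom.comp_apply, pullback.lift_snd]; exact hq
  have hdense : closure (⇑(pullback.snd (α ≫ G₂.s) G₂.t) ⁻¹' H) = ⇑(pullback.snd (α ≫ G₂.s) G₂.t) ⁻¹' closure H :=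
    ((Scheme.Hom.isOpenMap _).preimage_closure_eq_closure_preimage (Scheme.Hom.continuous _) H).symm
  -- a point of `P₂` over `H`
  obtain ⟨h₀, hh₀⟩ : H.Nonempty := ⟨_, G₁.e ((asIso f.fU).inv (eU.inv (IsLocalRing.closedPoint k))), rfl⟩
  have hsub := subsingleton_of_iso_field k eU
  obtain ⟨q₂, -, hq₂⟩ := Scheme.Pullback.exists_preimage_pullback (f := α ≫ G₂.t) (g := G₂.t)
    (IsLocalRing.closedPoint (G₂.R.residueField x)) h₀ (Subsingleton.elim _ _)
  have hq₂H : π₂ q₂ ∈ H := hq₂ ▸ hh₀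
  have hθη : θ (η q₂) = q₂ := by
    rw [← Scheme.Hom.comp_apply, show η ≫ θ = 𝟙 _ from (shearA G₂ α).inv_hom_id]; rfl
  have hmem : η q₂ ∈ closure (⇑(pullback.snd (α ≫ G₂.s) G₂.t) ⁻¹' H) := by
    rw [hdense]; exact hη q₂ (subset_closure hq₂H)
  obtain ⟨q, hqO, hqH⟩ := mem_closure_iff.1 hmem
    ((fun p => π₂ (θ p)) ⁻¹' O)
    (hO.preimage ((Scheme.Hom.continuous _).comp (Scheme.Hom.continuous θ)))
    (show π₂ (θ (η q₂)) ∈ O by
      rw [hθη]; exact (hHOC.subset hq₂H).1)
  have hqC : π₂ (θ q) ∈ C := by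
    refine closure_minimal ?_ hC (hθ q (subset_closure hqH))
    rw [hHOC]; exact Set.inter_subset_right
  have hθH : π₂ (θ q) ∈ H := hHOC ▸ ⟨hqO, hqC⟩
  -- cancel
  let ι := P₁.fromSpecResidueField q
  let a := (ι ≫ pullback.fst _ _) ≫ α
  let b := ι ≫ pullback.snd (α ≫ G₂.s) G₂.t
  have hab : a ≫ G₂.s = b ≫ G₂.t := by simp [a, b, pullback.condition]
  let γ := comp G₂ a b hab
  have hγ : γ = ι ≫ θ ≫ π₂ := by
    rw [show θ ≫ π₂ = _ from shearA_hom_snd G₂ α, precomp_comp]
    apply comp_congr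
    · simp [a]
    · rfl
  let zq : Spec (P₁.residueField q) := IsLocalRing.closedPoint _
  obtain ⟨L, _, e, γ₁, he⟩ := exists_lift_of_mem_range f.fR γ zq (by
    rw [hγ, Scheme.Hom.comp_apply, Scheme.Hom.comp_apply, Scheme.fromSpecResidueField_apply]; exact hθH)
  let zL : Spec (CommRingCat.of L) := IsLocalRing.closedPoint L
  obtain ⟨M, _, e', b₁, he'⟩ := exists_lift_of_mem_range f.fR (e ≫ b) zL (by
    rw [Scheme.Hom.comp_apply, Scheme.Hom.comp_apply, Scheme.fromSpecResidueField_apply]; exact hqH)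
  have hsb : (e' ≫ γ₁) ≫ G₁.s = (b₁ ≫ G₁.i) ≫ G₁.t := by
    rw [← cancel_mono f.fU, Category.assoc (b₁), G₁.i_t, Category.assoc, Category.assoc,
      Category.assoc b₁, ← f.comm_s, reassoc_of% he, reassoc_of% he', comp_s]
  let zM : Spec (CommRingCat.of M) := IsLocalRing.closedPoint M
  refine ⟨comp G₁ (e' ≫ γ₁) (b₁ ≫ G₁.i) hsb zM, ?_⟩
  have hc : comp G₁ (e' ≫ γ₁) (b₁ ≫ G₁.i) hsb ≫ f.fR = e' ≫ e ≫ a := by
    refine (f.comm_c _ _ hsb).trans ?_
    refine Eq.trans ?_ (comp_cancel_inv G₂ (e' ≫ e ≫ a) (e' ≫ e ≫ b) (by simp [hab]))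
    apply comp_congr
    · rw [Category.assoc, he, ← precomp_comp G₂ e' (e ≫ a) (e ≫ b) (by simp [hab]), ← precomp_comp G₂ e a b hab]
    · rw [Category.assoc, inv_mem_range, ← Category.assoc, he']
  rw [← Scheme.Hom.comp_apply, hc]
  simp only [a, Scheme.Hom.comp_apply]
  exact hαx _

end Groth.GrpdBasic
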