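import Mathlib
import Groth.Agent.DescentBase.SmoothSource
import Groth.Agent.FlatMorOne.FlatLocusModelFlat

/-! Finite type and finite presentation descend on the source along fppf maps (after the smooth case in
`Groth.Agent.DescentBase.SmoothSource`). -/

set_option autoImplicit false

open TensorProduct Groth.DescentBase

namespace Groth.GitQuot.FppfSource

universe u

/-- A flat finitely presented model over a ring of finite type over `ℤ`. -/
theorem exists_flat_model (B C : Type u) [CommRing B] [CommRing C] [Algebra B C] [Module.Flat B C]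
    [Algebra.FinitePresentation B C] :
    ∃ (B₀ : Type u) (_ : CommRing B₀) (_ : Algebra B₀ B) (C₀ : Type u) (_ : CommRing C₀) (_ : Algebra B₀ C₀),
      Module.Flat B₀ C₀ ∧ Algebra.FinitePresentation B₀ C₀ ∧ Algebra.FiniteType ℤ B₀ ∧
        Nonempty (C ≃ₐ[B] B ⊗[B₀] C₀) := by
  obtain ⟨B₀, _, _, C₀, _, _, _, _, _, _, hZ, hft, hflat, hpush⟩ := Groth.FlatMorOne.exists_flat_model_algebra B C
  have : IsNoetherianRing B₀ := Algebra.FiniteType.isNoetherianRing ℤ B₀
  exact ⟨B₀, inferInstance, inferInstance, C₀, inferInstance, inferInstance, hflat,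
    Algebra.FinitePresentation.of_finiteType.1 hft, hZ, ⟨(Algebra.IsPushout.equiv B₀ B C₀ C).symm⟩⟩

section

variable (A B C : Type u) [CommRing A] [CommRing B] [CommRing C] [Algebra A B] [Algebra B C]
  [Algebra A C] [IsScalarTower A B C] [Algebra.FinitePresentation B C]

omit [Algebra A B] [Algebra A C] [IsScalarTower A B C] [Algebra.FinitePresentation B C] in
theorem map_eq_top_of_ff [Module.FaithfullyFlat B C] {B₀ C₀ : Type u} [CommRing B₀]
    [CommRing C₀] [Algebra B₀ B] [Algebra B₀ C₀] (e : C ≃ₐ[B] B ⊗[B₀] C₀) (J : Ideal B₀)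
    (hJ : ∀ p : PrimeSpectrum B₀, p ∈ Set.range (PrimeSpectrum.comap (algebraMap B₀ C₀)) → ¬ J ≤ p.asIdeal) :
    J.map (algebraMap B₀ B) = ⊤ := by
  by_contra hne
  obtain ⟨m, hm, hmJ⟩ := Ideal.exists_le_maximal _ hne
  obtain ⟨P, hP⟩ := PrimeSpectrum.comap_surjective_of_faithfullyFlat (B := C) (⟨m, hm.isPrime⟩ : PrimeSpectrum B)
  let r : C₀ →+* C := (e.symm.toAlgHom.toRingHom).comp (Algebra.TensorProduct.includeRight : C₀ →ₐ[B₀] B ⊗[B₀] C₀).toRingHom
  have hr : r.comp (algebraMap B₀ C₀) = (algebraMap B C).comp (algebraMap B₀ B) := by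
    refine RingHom.ext fun z => ?_
    have h1 : e.symm (algebraMap B₀ B z ⊗ₜ[B₀] (1 : C₀)) = algebraMap B C (algebraMap B₀ B z) :=
      e.symm.commutes _
    simpa [r, Algebra.algebraMap_eq_smul_one, TensorProduct.smul_tmul] using h1
  refine hJ (PrimeSpectrum.comap (algebraMap B₀ B) ⟨m, hm.isPrime⟩) ?_ (Ideal.map_le_iff_le_comap.mp hmJ)
  refine ⟨PrimeSpectrum.comap r P, ?_⟩
  rw [← hP, ← PrimeSpectrum.comap_comp_apply, ← PrimeSpectrum.comap_comp_apply, hr]


/-- Finite type descends on the source along faithfully flat finitely presented maps. -/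
theorem finiteType_of_fppf [Module.FaithfullyFlat B C] [Algebra.FiniteType A C] :
    Algebra.FiniteType A B := by
  classical
  obtain ⟨B₀, _, _, C₀, _, _, hflat, hfp, hB₀, ⟨e⟩⟩ := exists_flat_model B C
  obtain ⟨J, hJ⟩ := exists_ideal_range B₀ C₀
  have htop := map_eq_top_of_ff B C e J (fun p hp => (hJ p).mp hp)
  obtain ⟨T, hT, h1⟩ := Submodule.mem_span_finite_of_mem_span
    (show (1 : B) ∈ Submodule.span B (algebraMap B₀ B '' J) from
      ((Ideal.eq_top_iff_one _).mp htop : (1 : B) ∈ J.map (algebraMap B₀ B)))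
  obtain ⟨w, -, hw⟩ := Submodule.mem_span_finset.mp h1
  obtain ⟨s, hs⟩ := (Algebra.FiniteType.out : (⊤ : Subalgebra A C).FG)
  choose S hS using fun c : C => TensorProduct.exists_finset (R := B₀) (e c)
  obtain ⟨t₀, ht₀⟩ := hB₀.out
  let t : Finset B := t₀.image (algebraMap B₀ B) ∪ (T.image w) ∪ s.biUnion fun c => (S c).image Prod.fst
  let B₁ : Subalgebra A B := Algebra.adjoin A (t : Set B)
  have hsub : ∀ z ∈ t, z ∈ B₁ := fun z hz => Algebra.subset_adjoin (Finset.mem_coe.mpr hz)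
  have hle : ∀ x : B₀, algebraMap B₀ B x ∈ B₁ := by
    intro x
    have hx : x ∈ Algebra.adjoin ℤ (t₀ : Set B₀) := ht₀ ▸ Algebra.mem_top
    exact Algebra.adjoin_le (S := subalgebraOfSubring (B₁.toSubring.comap (algebraMap B₀ B))) (fun z hz =>
      hsub _ (Finset.mem_union_left _ (Finset.mem_union_left _ (Finset.mem_image_of_mem _ hz)))) hx
  let _ : Algebra B₀ B₁ := ((algebraMap B₀ B).codRestrict B₁ hle).toAlgebra
  have : IsScalarTower B₀ B₁ B := IsScalarTower.of_algebraMap_eq fun _ => rfl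
  have hJ₁ : J.map (algebraMap B₀ B₁) = ⊤ := by
    rw [Ideal.eq_top_iff_one]
    choose g hg hg' using fun z : T => hT z.2
    let one' : B₁ := ∑ z : T, (⟨w z, hsub _ (Finset.mem_union_left _ (Finset.mem_union_right _
      (Finset.mem_image_of_mem w z.2)))⟩ : B₁) * algebraMap B₀ B₁ (g z)
    have : one' = 1 := by
      apply Subtype.ext
      rw [OneMemClass.coe_one, ← hw, ← Finset.sum_coe_sort T]
      simp only [one', AddSubmonoidClass.coe_finsetSum, MulMemClass.coe_mul, smul_eq_mul]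
      exact Finset.sum_congr rfl fun z _ => congrArg (w z * ·) (hg' z)
    rw [← this]
    exact Ideal.sum_mem _ fun z _ => Ideal.mul_mem_left _ _ (Ideal.mem_map_of_mem _ (hg z))
  let N : Submodule B₁ B := LinearMap.range (Algebra.linearMap B₁ B)
  let incl : (B₁ ⊗[B₀] C₀) →ₐ[B₀] B ⊗[B₀] C₀ :=
    Algebra.TensorProduct.map (IsScalarTower.toAlgHom B₀ B₁ B) (AlgHom.id B₀ C₀)
  have hsurj : Function.Surjective incl := by
    have : SMulCommClass B₀ A B₁ := ⟨fun r s x => by simp only [Algebra.smul_def]; ring⟩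
    have : SMulCommClass B₀ A B := ⟨fun r s x => by simp only [Algebra.smul_def]; ring⟩
    have : IsScalarTower A B (B ⊗[B₀] C₀) := TensorProduct.isScalarTower_left
    let eA : C →ₐ[A] B ⊗[B₀] C₀ := (e.toAlgHom.restrictScalars A)
    let inclA : (B₁ ⊗[B₀] C₀) →ₐ[A] B ⊗[B₀] C₀ :=
      { incl.toRingHom with commutes' := fun _ => rfl }
    have hall : ∀ c : C, e c ∈ inclA.range := by
      intro c
      have hc : c ∈ (⊤ : Subalgebra A C) := Algebra.mem_top
      rw [← hs] at hc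
      refine (Algebra.adjoin_le (S := inclA.range.comap eA) ?_ hc)
      intro c hc
      change e c ∈ inclA.range
      rw [hS c]
      refine Subalgebra.sum_mem _ fun z hz => ?_
      exact ⟨(⟨z.1, hsub _ (Finset.mem_union_right _ (Finset.mem_biUnion.mpr
        ⟨c, hc, Finset.mem_image_of_mem _ hz⟩))⟩ : B₁) ⊗ₜ z.2, rfl⟩
    intro z
    obtain ⟨c, rfl⟩ := e.surjective z
    exact hall c
  have hN : N = ⊤ := by
    refine eq_top_of_lTensor_surjective J (fun p => (hJ p).mpr) hJ₁ N fun z => ?_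
    obtain ⟨y, hy⟩ := hsurj ((TensorProduct.comm B₀ C₀ B) z)
    let r : B₁ →ₗ[B₀] N.restrictScalars B₀ := (Algebra.linearMap B₁ B).rangeRestrict.restrictScalars B₀
    refine ⟨LinearMap.lTensor C₀ r ((TensorProduct.comm B₀ B₁ C₀) y), ?_⟩
    rw [← LinearMap.lTensor_comp_apply]
    apply (TensorProduct.comm B₀ C₀ B).injective
    rw [← hy]
    clear hy
    induction y with
    | zero => simp
    | tmul a b => rfl
    | add a b ha hb => simp only [map_add, ha, hb]
  refine ⟨⟨t, ?_⟩⟩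
  rw [eq_top_iff]
  intro z _
  obtain ⟨y, rfl⟩ : z ∈ N := hN ▸ Submodule.mem_top
  exact y.2

set_option synthInstance.maxHeartbeats 200000 in
set_option maxHeartbeats 800000 in
/-- Finite presentation descends on the source along faithfully flat finitely presented maps. -/
theorem finitePresentation_of_fppf [Module.FaithfullyFlat B C] [Algebra.FinitePresentation A C] :
    Algebra.FinitePresentation A B := by
  classical
  have hft : Algebra.FiniteType A B := finiteType_of_fppf A B C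
  obtain ⟨n, π, hπ⟩ := Algebra.FiniteType.iff_quotient_mvPolynomial''.mp hft
  obtain ⟨B₀, _, _, C₀, _, _, hflat, hfp, hB₀, ⟨e⟩⟩ := exists_flat_model B C
  obtain ⟨J, hJ⟩ := exists_ideal_range B₀ C₀
  have htop := map_eq_top_of_ff B C e J (fun p hp => (hJ p).mp hp)
  obtain ⟨T, hT, h1⟩ := Submodule.mem_span_finite_of_mem_span
    (show (1 : B) ∈ Submodule.span B (algebraMap B₀ B '' J) from
      ((Ideal.eq_top_iff_one _).mp htop : (1 : B) ∈ J.map (algebraMap B₀ B)))
  obtain ⟨w, -, hw⟩ := Submodule.mem_span_finset.mp h1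
  choose g hg hg' using fun z : T => hT z.2
  obtain ⟨m, σ, hσ⟩ := Algebra.FiniteType.iff_quotient_mvPolynomial''.mp hB₀
  choose lift hlift using hπ
  let ψ : MvPolynomial (Fin m) ℤ →ₐ[ℤ] MvPolynomial (Fin n) A :=
    MvPolynomial.aeval fun i => lift (algebraMap B₀ B (σ (MvPolynomial.X i)))
  have hψ : ∀ z, π (ψ z) = algebraMap B₀ B (σ z) := by
    intro z
    have : π.toRingHom.comp ψ.toRingHom = (algebraMap B₀ B).comp σ.toRingHom :=
      MvPolynomial.ringHom_ext (fun r => by simp) fun i => by simp [ψ, hlift]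
    exact RingHom.congr_fun this z
  choose gl hgl using fun z : T => hσ (g z)
  obtain ⟨K, hK⟩ := (IsNoetherian.noetherian (RingHom.ker σ.toRingHom) : (RingHom.ker σ.toRingHom).FG)
  let Jb : Ideal (MvPolynomial (Fin n) A) := Ideal.span (ψ '' K) ⊔
    Ideal.span {1 - ∑ z : T, lift (w z) * ψ (gl z)}
  have hJbfg : Jb.FG := Submodule.FG.sup ⟨K.image ψ, by rw [Finset.coe_image]⟩ ⟨{_}, by rw [Finset.coe_singleton]⟩
  have hJb : Jb ≤ RingHom.ker π := by
    refine sup_le (Ideal.span_le.mpr ?_) (Ideal.span_le.mpr ?_)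
    · rintro _ ⟨z, hz, rfl⟩
      have : z ∈ RingHom.ker σ.toRingHom := hK ▸ Ideal.subset_span hz
      change π (ψ z) = 0
      rw [hψ, show σ z = 0 from this, map_zero]
    · rintro _ rfl
      change π _ = 0
      rw [map_sub, map_one, map_sum, sub_eq_zero]
      conv_lhs => rw [← hw, ← Finset.sum_coe_sort T]
      exact Finset.sum_congr rfl fun z _ => by
        rw [map_mul, hlift, hψ, hgl, smul_eq_mul]
        exact congrArg (w z * ·) (hg' z).symm
  let B₁ := MvPolynomial (Fin n) A ⧸ Jb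
  have : Algebra.FinitePresentation A B₁ := Algebra.FinitePresentation.quotient hJbfg
  let χ : B₀ →+* B₁ := (RingHom.liftOfSurjective σ.toRingHom hσ)
    ⟨(Ideal.Quotient.mk Jb).comp ψ.toRingHom, by
      rw [← hK, Ideal.span_le]
      exact fun z hz => Ideal.Quotient.eq_zero_iff_mem.mpr
        (Ideal.mem_sup_left (Ideal.subset_span ⟨z, hz, rfl⟩))⟩
  have hχ : ∀ z, χ (σ z) = Ideal.Quotient.mk Jb (ψ z) := fun z =>
    RingHom.liftOfSurjective_comp_apply _ _ _ _
  let _ : Algebra B₀ B₁ := χ.toAlgebra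
  let π₁ : B₁ →ₐ[A] B := Ideal.Quotient.liftₐ Jb π fun a ha => hJb ha
  have hπ₁ : Function.Surjective π₁ := fun b => ⟨Ideal.Quotient.mk Jb (lift b), hlift b⟩
  have hπ₁χ : ∀ z, π₁ (χ z) = algebraMap B₀ B z := by
    intro z; obtain ⟨z, rfl⟩ := hσ z
    rw [hχ]; exact hψ z
  let π₁' : B₁ →ₐ[B₀] B := { π₁.toRingHom with commutes' := hπ₁χ }
  have hJ₁ : J.map (algebraMap B₀ B₁) = ⊤ := by
    rw [Ideal.eq_top_iff_one]
    have h2 : (1 : B₁) = ∑ z : T, Ideal.Quotient.mk Jb (lift (w z)) * χ (g z) := by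
      rw [← (Ideal.Quotient.mk Jb).map_one, ← sub_eq_zero]
      simp_rw [← hgl, hχ]
      simp only [← map_mul, ← map_sum, ← map_sub]
      exact Ideal.Quotient.eq_zero_iff_mem.mpr (Ideal.mem_sup_right (Ideal.subset_span rfl))
    rw [h2]
    exact Ideal.sum_mem _ fun z _ => Ideal.mul_mem_left _ _ (Ideal.mem_map_of_mem _ (hg z))
  have : SMulCommClass B₀ A B₁ := ⟨fun r s x => by simp only [Algebra.smul_def]; ring⟩
  have : SMulCommClass B₀ A B := ⟨fun r s x => by simp only [Algebra.smul_def]; ring⟩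
  have : IsScalarTower A B₁ (B₁ ⊗[B₀] C₀) := TensorProduct.isScalarTower_left
  have : IsScalarTower A B (B ⊗[B₀] C₀) := TensorProduct.isScalarTower_left
  have : Algebra.FinitePresentation B₁ (B₁ ⊗[B₀] C₀) := inferInstance
  have : Algebra.FinitePresentation A (B₁ ⊗[B₀] C₀) :=
    Algebra.FinitePresentation.trans A B₁ (B₁ ⊗[B₀] C₀)
  let φ : (B₁ ⊗[B₀] C₀) →ₐ[B₀] B ⊗[B₀] C₀ := Algebra.TensorProduct.map π₁' (AlgHom.id B₀ C₀)
  have hφc : ∀ a : A, φ (algebraMap A _ a) = algebraMap A _ a := by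
    intro a
    change φ (algebraMap A B₁ a ⊗ₜ[B₀] (1 : C₀)) = algebraMap A B a ⊗ₜ[B₀] (1 : C₀)
    change π₁' (algebraMap A B₁ a) ⊗ₜ[B₀] (1 : C₀) = _
    exact congrArg (fun z : B => z ⊗ₜ[B₀] (1 : C₀)) (π₁.commutes a)
  let φA : (B₁ ⊗[B₀] C₀) →ₐ[A] B ⊗[B₀] C₀ := { φ.toRingHom with commutes' := hφc }
  have hφ : Function.Surjective φA :=
    TensorProduct.map_surjective (g := π₁'.toLinearMap) (g' := (LinearMap.id : C₀ →ₗ[B₀] C₀)) hπ₁ Function.surjective_id
  have : Algebra.FinitePresentation A (B ⊗[B₀] C₀) :=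
    Algebra.FinitePresentation.equiv (e.restrictScalars A)
  obtain ⟨F, hF⟩ := Algebra.FinitePresentation.ker_fG_of_surjective (A := B₁ ⊗[B₀] C₀) (B := B ⊗[B₀] C₀) φA hφ
  -- every kernel element comes from the kernel of `π₁`
  let I₁ : Submodule B₁ B₁ := RingHom.ker π₁
  let ι := ((I₁.restrictScalars B₀).subtype.lTensor C₀)
  let comm' : C₀ ⊗[B₀] B₁ ≃ₗ[B₀] B₁ ⊗[B₀] C₀ := TensorProduct.comm B₀ C₀ B₁
  have hker : ∀ f : F, ∃ y, comm' (ι y) = (f : B₁ ⊗[B₀] C₀) := by
    intro f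
    have hf : φA (f : B₁ ⊗[B₀] C₀) = 0 := RingHom.mem_ker.mp (hF ▸ Ideal.subset_span f.2)
    have hex := lTensor_exact C₀ (LinearMap.exact_subtype_ker_map π₁'.toLinearMap)
      (hπ₁ : Function.Surjective π₁'.toLinearMap)
    obtain ⟨y, hy⟩ := (hex (comm'.symm (f : B₁ ⊗[B₀] C₀))).mp (by
      apply (TensorProduct.comm B₀ C₀ B).injective
      rw [map_zero, ← hf]
      induction (f : B₁ ⊗[B₀] C₀) with
      | zero => simp
      | tmul a b => simp [comm', φA, φ] <;> rfl
      | add a b ha hb => simp only [map_add, ha, hb])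
    exact ⟨y, comm'.eq_symm_apply.mp hy⟩
  choose y hy using hker
  choose S hS using fun f : F => TensorProduct.exists_finset (R := B₀) (y f)
  let G : Finset B₁ := Finset.univ.biUnion fun f : F => (S f).image fun z => (z.2 : B₁)
  let I₂ : Ideal B₁ := Ideal.span G
  have hI₂ : I₂ ≤ RingHom.ker π₁ := by
    rw [Ideal.span_le]
    intro z hz
    obtain ⟨f, -, hf⟩ := Finset.mem_biUnion.mp (Finset.mem_coe.mp hz)
    obtain ⟨z', -, rfl⟩ := Finset.mem_image.mp hf
    exact z'.2.2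
  let N : Submodule B₁ I₁ := Submodule.comap I₁.subtype I₂
  have hmem : ∀ f : F, (f : B₁ ⊗[B₀] C₀) ∈ I₂.map (Algebra.TensorProduct.includeLeftRingHom : B₁ →+* B₁ ⊗[B₀] C₀) := by
    intro f
    rw [← hy f, hS f, map_sum, map_sum]
    refine Ideal.sum_mem _ fun z hz => ?_
    have : (z.2 : B₁) ∈ I₂ := Ideal.subset_span (Finset.mem_coe.mpr
      (Finset.mem_biUnion.mpr ⟨f, Finset.mem_univ _, Finset.mem_image_of_mem _ hz⟩))
    have h3 : comm' (ι (z.1 ⊗ₜ[B₀] z.2)) = ((1 : B₁) ⊗ₜ[B₀] z.1) * ((z.2 : B₁) ⊗ₜ[B₀] (1 : C₀)) := by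
      simp [comm', ι]
    rw [h3]
    exact Ideal.mul_mem_left _ _ (Ideal.mem_map_of_mem _ this)
  have hinj : Function.Injective ι :=
    Module.Flat.lTensor_preserves_injective_linearMap _ Subtype.val_injective
  let j := ι ∘ₗ (N.restrictScalars B₀).subtype.lTensor C₀
  -- the range of `j` is an ideal containing the kernel
  have hj : ∀ x : B₁ ⊗[B₀] C₀, x ∈ I₂.map (Algebra.TensorProduct.includeLeftRingHom : B₁ →+* B₁ ⊗[B₀] C₀) →
      ∃ y, comm' (j y) = x := by
    intro x hx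
    refine Submodule.span_induction (p := fun x _ => ∀ r, ∃ y, comm' (j y) = r * x) ?_ ?_ ?_ ?_ hx 1
      |>.imp fun y hy => hy.trans (one_mul x)
    · rintro _ ⟨i, hi, rfl⟩ r
      induction r with
      | zero => exact ⟨0, by simp⟩
      | tmul a c =>
        exact ⟨c ⊗ₜ[B₀] (⟨⟨a * i, hI₂ (I₂.mul_mem_left a hi)⟩, I₂.mul_mem_left a hi⟩ : N),
          by simp [Algebra.TensorProduct.includeLeftRingHom]; rfl⟩
      | add a b ha hb =>
        obtain ⟨ya, hya⟩ := ha; obtain ⟨yb, hyb⟩ := hb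
        exact ⟨ya + yb, by rw [map_add, map_add, hya, hyb, add_mul]⟩
    · exact fun r => ⟨0, by simp⟩
    · intro a b _ _ ha hb r
      obtain ⟨ya, hya⟩ := ha r; obtain ⟨yb, hyb⟩ := hb r
      exact ⟨ya + yb, by rw [map_add, map_add, hya, hyb, mul_add]⟩
    · intro r' a _ ha r
      obtain ⟨ya, hya⟩ := ha (r * r')
      exact ⟨ya, by rw [hya, smul_eq_mul, mul_assoc]⟩
  have hN : N = ⊤ := by
    refine eq_top_of_lTensor_surjective J (fun p => (hJ p).mpr) hJ₁ N fun z => ?_
    have hz : comm' (ι z) ∈ RingHom.ker φA := by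
      rw [RingHom.mem_ker]
      change φ (comm' (ι z)) = 0
      induction z with
      | zero => erw [map_zero ι, map_zero comm', map_zero φ]
      | tmul c i =>
        have : π₁ (i : B₁) = 0 := i.2
        change π₁ (i : B₁) ⊗ₜ[B₀] c = 0
        rw [this, zero_tmul]
      | add a b ha hb => erw [map_add ι, map_add comm', map_add φ, ha, hb, add_zero]
    have hle : Ideal.span (F : Set (B₁ ⊗[B₀] C₀)) ≤
        I₂.map (Algebra.TensorProduct.includeLeftRingHom : B₁ →+* B₁ ⊗[B₀] C₀) :=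
      Ideal.span_le.mpr fun f hf => hmem ⟨f, hf⟩
    obtain ⟨y, hy⟩ := hj _ (hle (hF.ge hz))
    exact ⟨y, hinj (comm'.injective hy)⟩
  have hkerfg : (RingHom.ker π₁).FG := by
    refine ⟨G, le_antisymm hI₂ fun z hz => ?_⟩
    have : (⟨z, hz⟩ : I₁) ∈ N := hN ▸ Submodule.mem_top
    exact this
  exact Algebra.FinitePresentation.of_surjective hπ₁ hkerfg

end

end Groth.GitQuot.FppfSource
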