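import Mathlib
import Groth.Agent.GitQuot.FppfSource
import Groth.Agent.DescentBase.SourceLocal

/-! Finite type and finite presentation descend on the source along fppf surjections of schemes. -/

set_option autoImplicit false
set_option backward.isDefEq.respectTransparency.types false

open CategoryTheory CategoryTheory.Limits AlgebraicGeometry

namespace Groth.GitQuot.FppfSource

universe u

variable {X' X Y : Scheme.{u}} (f : X' ⟶ X) (g : X ⟶ Y)

/-- Locally of finite type descends on the source along fppf surjections. -/
theorem locallyOfFiniteType_of_fppf [Flat f] [LocallyOfFinitePresentation f] [Surjective f]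
    [LocallyOfFiniteType (f ≫ g)] : LocallyOfFiniteType g :=
  have : HasRingHomProperty (@Flat ⊓ @LocallyOfFinitePresentation : MorphismProperty Scheme.{u})
      (fun f => RingHom.Flat f ∧ RingHom.FinitePresentation f) := HasRingHomProperty.inf
  Groth.DescentBase.of_comp_of_isOpenMap
    (Pf := @Flat ⊓ @LocallyOfFinitePresentation) (Pg := @LocallyOfFiniteType)
    (fun R S T _ _ _ φ ψ hψ hs hφ => by
      algebraize [φ, ψ, ψ.comp φ]
      have : Algebra.FiniteType R T := hφ
      have : Module.Flat S T := hψ.1
      have : Algebra.FinitePresentation S T := hψ.2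
      have := Groth.DescentBase.faithfullyFlat_of (S := S) (T := T) hs
      exact finiteType_of_fppf R S T)
    f g ⟨‹_›, ‹_›⟩ ‹_› f.isOpenMap f.surjective

/-- Locally of finite presentation descends on the source along fppf surjections. -/
theorem locallyOfFinitePresentation_of_fppf [Flat f] [LocallyOfFinitePresentation f] [Surjective f]
    [LocallyOfFinitePresentation (f ≫ g)] : LocallyOfFinitePresentation g :=
  have : HasRingHomProperty (@Flat ⊓ @LocallyOfFinitePresentation : MorphismProperty Scheme.{u})
      (fun f => RingHom.Flat f ∧ RingHom.FinitePresentation f) := HasRingHomProperty.inf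
  Groth.DescentBase.of_comp_of_isOpenMap
    (Pf := @Flat ⊓ @LocallyOfFinitePresentation) (Pg := @LocallyOfFinitePresentation)
    (fun R S T _ _ _ φ ψ hψ hs hφ => by
      algebraize [φ, ψ, ψ.comp φ]
      have : Algebra.FinitePresentation R T := hφ
      have : Module.Flat S T := hψ.1
      have : Algebra.FinitePresentation S T := hψ.2
      have := Groth.DescentBase.faithfullyFlat_of (S := S) (T := T) hs
      exact finitePresentation_of_fppf R S T)
    f g ⟨‹_›, ‹_›⟩ ‹_› f.isOpenMap f.surjective

end Groth.GitQuot.FppfSource

namespace Groth.GitQuot.FppfSource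

universe u

/-- Quasi-compactness cancels a surjection on the left. -/
theorem quasiCompact_of_surjective_comp {X Y Z : Scheme.{u}} (f : X ⟶ Y) (g : Y ⟶ Z) [Surjective f]
    [QuasiCompact (f ≫ g)] : QuasiCompact g := by
  constructor
  intro U hU hU'
  have h := QuasiCompact.isCompact_preimage (f := f ≫ g) U hU hU'
  have h2 := h.image f.continuous
  rwa [Scheme.Hom.comp_base, TopCat.coe_comp, Set.preimage_comp,
    Set.image_preimage_eq _ f.surjective] at h2

/-- Quasi-separatedness cancels a quasi-compact surjection on the left. -/
theorem quasiSeparated_of_surjective_comp {X Y Z : Scheme.{u}} (f : X ⟶ Y) (g : Y ⟶ Z) [Surjective f]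
    [QuasiCompact f] [QuasiSeparated (f ≫ g)] : QuasiSeparated g := by
  have h1 : QuasiCompact (pullback.map (f ≫ g) (f ≫ g) g g f f (𝟙 Z) (by simp) (by simp)) :=
    MorphismProperty.pullbackMap (P := @QuasiCompact) ‹_› ‹_› rfl rfl
  have h2 : pullback.diagonal (f ≫ g) ≫ pullback.map (f ≫ g) (f ≫ g) g g f f (𝟙 Z) (by simp) (by simp) =
      f ≫ pullback.diagonal g := by
    apply pullback.hom_ext <;>
      simp only [pullback.map, Category.assoc, pullback.lift_fst, pullback.lift_snd,
        pullback.diagonal_fst_assoc, pullback.diagonal_snd_assoc, pullback.diagonal_fst,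
        pullback.diagonal_snd, Category.comp_id]
  have h3 : QuasiCompact (f ≫ pullback.diagonal g) := h2 ▸ inferInstance
  exact ⟨quasiCompact_of_surjective_comp f _⟩

end Groth.GitQuot.FppfSource
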