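import Mathlib
import Groth.Prelude.Def_Grpd
import Groth.Agent.GitQuot.GrpdBasic

/-!
# Affine groupoid schemes on rings of global functions
-/

set_option autoImplicit false

universe u

open AlgebraicGeometry CategoryTheory CategoryTheory.Limits TensorProduct

noncomputable section

namespace Groth.GrpdBasic

/-- In a pushout square of rings, a basis of one leg stays linearly independent over the other. -/
theorem coeff_eq_zero_of_isPushout {A B₁ B₂ P : CommRingCat.{u}} (σ : A ⟶ B₁) (τ : A ⟶ B₂)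
    (p₁ : B₁ ⟶ P) (p₂ : B₂ ⟶ P) (h : IsPushout σ τ p₁ p₂) {I : Type u}
    (bb : letI := σ.hom.toAlgebra; Module.Basis I A B₁) (β : I →₀ B₂)
    (hβ : letI := σ.hom.toAlgebra; β.sum (fun i m => p₁.hom (bb i) * p₂.hom m) = 0) : β = 0 := by
  letI := σ.hom.toAlgebra
  letI := τ.hom.toAlgebra
  classical
  let il : B₁ ⟶ CommRingCat.of (B₁ ⊗[A] B₂) := CommRingCat.ofHom Algebra.TensorProduct.includeLeftRingHom
  let ir : B₂ ⟶ CommRingCat.of (B₁ ⊗[A] B₂) :=
    CommRingCat.ofHom Algebra.TensorProduct.includeRight.toRingHom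
  have hw : σ ≫ il = τ ≫ ir := (CommRingCat.isPushout_tensorProduct A B₁ B₂).w
  let d : P ⟶ CommRingCat.of (B₁ ⊗[A] B₂) := h.desc il ir hw
  have h₁ : ∀ x, d.hom (p₁.hom x) = x ⊗ₜ[A] (1 : B₂) := fun x =>
    congrArg (fun f : B₁ ⟶ CommRingCat.of (B₁ ⊗[A] B₂) => f.hom x) (h.inl_desc il ir hw)
  have h₂ : ∀ x, d.hom (p₂.hom x) = (1 : B₁) ⊗ₜ[A] x := fun x =>
    congrArg (fun f : B₂ ⟶ CommRingCat.of (B₁ ⊗[A] B₂) => f.hom x) (h.inr_desc il ir hw)
  have he : (TensorProduct.equivFinsuppOfBasisLeft bb).symm β = 0 := by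
    rw [TensorProduct.equivFinsuppOfBasisLeft_symm_apply]
    have := congrArg d.hom hβ
    rw [map_zero, map_finsuppSum] at this
    refine Eq.trans ?_ this
    refine Finsupp.sum_congr fun i _ => ?_
    rw [map_mul, h₁, h₂, Algebra.TensorProduct.tmul_mul_tmul, mul_one, one_mul]
  have := congrArg (TensorProduct.equivFinsuppOfBasisLeft bb) he
  rwa [LinearEquiv.apply_symm_apply, map_zero] at this

variable {S : Scheme.{u}} (G : Grpd.GroupoidScheme S)

theorem e_s_appTop (a : Γ(G.U, ⊤)) : G.e.appTop.hom (G.s.appTop.hom a) = a := by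
  have := congrArg (fun f : G.U ⟶ G.U => f.appTop.hom a) G.e_s
  simp only [Scheme.Hom.comp_appTop] at this
  exact this

theorem e_t_appTop (a : Γ(G.U, ⊤)) : G.e.appTop.hom (G.t.appTop.hom a) = a := by
  have := congrArg (fun f : G.U ⟶ G.U => f.appTop.hom a) G.e_t
  simp only [Scheme.Hom.comp_appTop] at this
  exact this

theorem c_t_appTop (a : Γ(G.U, ⊤)) : G.c.appTop.hom (G.t.appTop.hom a) =
    (pullback.fst G.s G.t).appTop.hom (G.t.appTop.hom a) := by
  have := congrArg (fun f : pullback G.s G.t ⟶ G.U => f.appTop.hom a) (c_t G)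
  simp only [Scheme.Hom.comp_appTop] at this
  exact this

theorem c_s_appTop (a : Γ(G.U, ⊤)) : G.c.appTop.hom (G.s.appTop.hom a) =
    (pullback.snd G.s G.t).appTop.hom (G.s.appTop.hom a) := by
  have := congrArg (fun f : pullback G.s G.t ⟶ G.U => f.appTop.hom a) (c_s G)
  simp only [Scheme.Hom.comp_appTop] at this
  exact this

theorem fst_s_appTop (a : Γ(G.U, ⊤)) : (pullback.fst G.s G.t).appTop.hom (G.s.appTop.hom a) =
    (pullback.snd G.s G.t).appTop.hom (G.t.appTop.hom a) := by
  have := congrArg (fun f : pullback G.s G.t ⟶ G.U => f.appTop.hom a) (pullback.condition (f := G.s) (g := G.t))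
  simp only [Scheme.Hom.comp_appTop] at this
  exact this

theorem isPushout_appTop [IsAffine G.U] [IsAffine G.R] :
    IsPushout G.s.appTop G.t.appTop (pullback.fst G.s G.t).appTop (pullback.snd G.s G.t).appTop :=
  isPushout_appTop_of_isPullback (IsPullback.of_hasPullback G.s G.t)

/-- If `t♯ x_i` is a basis of `Γ(R)` over `Γ(U)` via `s♯`, the coordinates of `t♯ a` are invariant. -/
theorem repr_t_mem_invariants [IsAffine G.U] [IsAffine G.R] {I : Type u} (x : I → Γ(G.U, ⊤))
    (b : letI := G.s.appTop.hom.toAlgebra; Module.Basis I Γ(G.U, ⊤) Γ(G.R, ⊤))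
    (hb : letI := G.s.appTop.hom.toAlgebra; ∀ i, b i = G.t.appTop.hom (x i)) (a : Γ(G.U, ⊤)) :
    letI := G.s.appTop.hom.toAlgebra
    (∀ i, b.repr (G.t.appTop.hom a) i ∈ G.invariants) ∧
      (b.repr (G.t.appTop.hom a)).sum (fun i c => c * x i) = a := by
  letI := G.s.appTop.hom.toAlgebra
  set f := b.repr (G.t.appTop.hom a) with hf
  have hta : G.t.appTop.hom a = f.sum (fun i c => G.s.appTop.hom c * G.t.appTop.hom (x i)) := by
    conv_lhs => rw [← b.linearCombination_repr (G.t.appTop.hom a)]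
    rw [Finsupp.linearCombination_apply, hf]
    exact Finsupp.sum_congr fun i _ => by rw [hb]; rfl
  constructor
  · set p₁ := (pullback.fst G.s G.t).appTop.hom
    set p₂ := (pullback.snd G.s G.t).appTop.hom
    have e₁ : p₁ (G.t.appTop.hom a) = f.sum (fun i c => p₂ (G.t.appTop.hom c) * p₁ (b i)) := by
      rw [hta, map_finsuppSum]
      exact Finsupp.sum_congr fun i _ => by rw [map_mul, fst_s_appTop, hb]
    have e₂ : p₁ (G.t.appTop.hom a) = f.sum (fun i c => p₂ (G.s.appTop.hom c) * p₁ (b i)) := by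
      rw [← c_t_appTop, hta, map_finsuppSum]
      exact Finsupp.sum_congr fun i _ => by rw [map_mul, c_t_appTop, c_s_appTop, hb]
    have hz := coeff_eq_zero_of_isPushout _ _ _ _ (isPushout_appTop G) b
      (f.mapRange (fun c => G.s.appTop.hom c - G.t.appTop.hom c) (by simp)) (by
        rw [Finsupp.sum_mapRange_index (fun i => by simp)]
        refine Eq.trans ?_ (sub_eq_zero.2 (e₂.symm.trans e₁))
        rw [← Finsupp.sum_sub]
        exact Finsupp.sum_congr fun i _ => by rw [map_sub]; ring)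
    intro i
    have := congrArg (fun g : I →₀ Γ(G.R, ⊤) => g i) hz
    simp only [Finsupp.mapRange_apply, Finsupp.coe_zero, Pi.zero_apply, sub_eq_zero] at this
    exact this
  · have := congrArg G.e.appTop.hom hta
    rw [e_t_appTop, map_finsuppSum] at this
    refine Eq.trans ?_ this.symm
    exact Finsupp.sum_congr fun i _ => by rw [map_mul, e_s_appTop, e_t_appTop]

end Groth.GrpdBasic
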