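import Mathlib
import Groth.Prelude.Def_Grpd
import Groth.Agent.GitQuot.AffGpd.Mono
import Groth.Agent.GitQuot.AffGpd.OfScheme

/-!
# Affine finite locally free equivalence relations
-/

set_option autoImplicit false

universe u

open AlgebraicGeometry CategoryTheory CategoryTheory.Limits TensorProduct

noncomputable section

namespace Groth.AffGpd

variable {S : Scheme.{u}} (G : Grpd.GroupoidScheme S) [IsAffine G.U] [IsAffine G.R]
  [IsFinite G.s] [Flat G.s] [LocallyOfFinitePresentation G.s] [Mono G.j]

/-- **Affine finite locally free equivalence relations are effective.** -/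
theorem mono_toQuot :
    (IsFinite G.toQuot ∧ Flat G.toQuot ∧ LocallyOfFinitePresentation G.toQuot) ∧
      IsPullback G.t G.s G.toQuot G.toQuot := by
  let A : CommRingCat.{u} := Γ(G.U, ⊤)
  let B : CommRingCat.{u} := Γ(G.R, ⊤)
  let H := ofScheme G
  let C := H.inv
  letI : Algebra C H.B := (H.σ.hom.comp H.inv.subtype).toAlgebra
  have hB : ∀ c, algebraMap C H.B c = H.σ.hom (algebraMap C H.A c) := fun _ => rfl
  have hinj : Function.Injective (algebraMap C H.A) := Subtype.val_injective
  have hrange : ∀ a, a ∈ H.inv ↔ a ∈ Set.range (algebraMap C H.A) :=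
    fun a => ⟨fun ha => ⟨⟨a, ha⟩, rfl⟩, by rintro ⟨c, rfl⟩; exact c.2⟩
  -- the pair is surjective
  let π : CommRingCat.of (H.A ⊗[C] H.A) ⟶ H.B := CommRingCat.ofHom (H.pair hB hrange).toRingHom
  have hepi : Epi π := by
    constructor
    intro T g₁ g₂ h
    have hg : ∀ x, g₁.hom ((H.pair hB hrange) x) = g₂.hom ((H.pair hB hrange) x) := fun x =>
      congrArg (fun f : CommRingCat.of (H.A ⊗[C] H.A) ⟶ T => f.hom x) h
    have hσ : G.s.appTop ≫ g₁ = G.s.appTop ≫ g₂ := CommRingCat.hom_ext (RingHom.ext fun a => by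
      have := hg (a ⊗ₜ 1)
      simp only [pair_tmul, map_one, mul_one] at this
      exact this)
    have hτ : G.t.appTop ≫ g₁ = G.t.appTop ≫ g₂ := CommRingCat.hom_ext (RingHom.ext fun a => by
      have := hg (1 ⊗ₜ a)
      simp only [pair_tmul, map_one, one_mul] at this
      exact this)
    let m : (Γ(G.R, ⊤) ⟶ T) → (Spec T ⟶ G.R) := fun g => Spec.map g ≫ G.R.isoSpec.inv
    suffices m g₁ = m g₂ from Spec.map_injective ((cancel_mono G.R.isoSpec.inv).1 this)
    have hm : ∀ (f : G.R ⟶ G.U) (g : Γ(G.R, ⊤) ⟶ T), m g ≫ f = Spec.map (f.appTop ≫ g) ≫ G.U.isoSpec.inv := by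
      intro f g
      simp only [m, Category.assoc, ← Scheme.isoSpec_inv_naturality, Spec.map_comp]
    rw [← cancel_mono G.j]
    apply pullback.hom_ext
    · simp only [Category.assoc, Grpd.GroupoidScheme.j, pullback.lift_fst]
      rw [hm, hm, hτ]
    · simp only [Category.assoc, Grpd.GroupoidScheme.j, pullback.lift_snd]
      rw [hm, hm, hσ]
  have hfin : π.hom.Finite := by
    let l : H.A →+* H.A ⊗[C] H.A := Algebra.TensorProduct.includeLeftRingHom
    refine RingHom.Finite.of_comp_finite (f := l) ?_
    have : π.hom.comp l = H.σ.hom := RingHom.ext fun a => by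
      change H.pair hB hrange (a ⊗ₜ 1) = _
      rw [pair_tmul, map_one, mul_one]
    rw [this]
    exact H.D.finite
  have hsurj : Function.Surjective (H.pair hB hrange) := RingHom.surjective_of_epi_of_finite π hfin
  have hspan : ∀ b, b ∈ (letI := H.σ.hom.toAlgebra; Submodule.span H.A (Set.range H.τ.hom)) := by
    intro b
    letI := H.σ.hom.toAlgebra
    obtain ⟨z, rfl⟩ := hsurj b
    induction z using TensorProduct.induction_on with
    | zero => rw [map_zero]; exact zero_mem _
    | add x y hx hy => rw [map_add]; exact add_mem hx hy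
    | tmul a a' =>
      rw [pair_tmul]
      exact Submodule.smul_mem _ a (Submodule.subset_span ⟨a', rfl⟩)
  have hflat : Module.Flat C H.A := H.flat_objects hB hinj hrange hspan
  obtain ⟨hfinA, hfpA⟩ := H.finite_finitePresentation_objects hB hinj hrange hspan
  have hbij := H.pair_bijective hB hinj hrange hspan
  let inc : CommRingCat.of G.invariants ⟶ A := CommRingCat.ofHom G.invariants.subtype
  have : IsIso G.U.toSpecΓ := G.U.isoSpec.isIso_hom
  refine ⟨⟨?_, ?_, ?_⟩, ?_⟩
  · have : IsFinite (Spec.map inc) := by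
      rw [IsFinite.SpecMap_iff]
      exact hfinA
    exact inferInstanceAs (IsFinite (G.U.toSpecΓ ≫ Spec.map inc))
  · have : Flat (Spec.map inc) := Flat.SpecMap_iff.2 hflat
    exact inferInstanceAs (Flat (G.U.toSpecΓ ≫ Spec.map inc))
  · have : LocallyOfFinitePresentation (Spec.map inc) := by
      rw [LocallyOfFinitePresentation.SpecMap_iff]
      exact hfpA
    exact inferInstanceAs (LocallyOfFinitePresentation (G.U.toSpecΓ ≫ Spec.map inc))
  · let e : CommRingCat.of (H.A ⊗[C] H.A) ≅ H.B := (RingEquiv.ofBijective _ hbij).toCommRingCatIso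
    have hpo : IsPushout inc inc G.s.appTop G.t.appTop := by
      refine (CommRingCat.isPushout_tensorProduct C H.A H.A).of_iso (Iso.refl _) (Iso.refl _) (Iso.refl _) e
        ?_ ?_ ?_ ?_
      · simp; rfl
      · simp; rfl
      · refine CommRingCat.hom_ext (RingHom.ext fun a => ?_)
        change H.pair hB hrange (a ⊗ₜ 1) = _
        rw [pair_tmul, map_one, mul_one]
        rfl
      · refine CommRingCat.hom_ext (RingHom.ext fun a => ?_)
        change H.pair hB hrange (1 ⊗ₜ a) = _
        rw [pair_tmul, map_one, one_mul]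
        rfl
    refine (isPullback_SpecMap_of_isPushout _ _ _ _ hpo).flip.of_iso G.R.isoSpec.symm G.U.isoSpec.symm
      G.U.isoSpec.symm (Iso.refl _) (Scheme.isoSpec_inv_naturality G.t) (Scheme.isoSpec_inv_naturality G.s) ?_ ?_
    all_goals
      rw [Iso.refl_hom, Category.comp_id, Iso.symm_hom, Grpd.GroupoidScheme.toQuot, ← Category.assoc,
        show G.U.isoSpec.inv ≫ G.U.toSpecΓ = 𝟙 _ from G.U.isoSpec.inv_hom_id, Category.id_comp]

end Groth.AffGpd
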