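import Mathlib

/-!
# Geometric quotients of a pair of morphisms: coequalizers in schemes

`IsQuot s t p` : `p` is surjective, open, its fibres are the orbits and on a basis of opens of the
target it is a coequalizer against affine schemes. Then it is a coequalizer in schemes.
-/

set_option autoImplicit false

universe u

open AlgebraicGeometry CategoryTheory CategoryTheory.Limits

noncomputable section

namespace Groth.Quot

variable {R U Y : Scheme.{u}} (s t : R ⟶ U) (p : U ⟶ Y)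

/-- `g` has equal values on related points of `U'`. -/
def Inv {U' Z : Scheme.{u}} (ι : U' ⟶ U) (g : U' ⟶ Z) : Prop :=
  ∀ (T : Scheme.{u}) (a b : T ⟶ U') (r : T ⟶ R), r ≫ t = a ≫ ι → r ≫ s = b ≫ ι → a ≫ g = b ≫ g

/-- Over the open immersion `jY`, `q` is a coequalizer against affine schemes. -/
structure DescAt {U' V' : Scheme.{u}} (jY : V' ⟶ Y) (jU : U' ⟶ U) (q : U' ⟶ V') : Prop where
  isY : IsOpenImmersion jY
  isU : IsOpenImmersion jU
  w : q ≫ jY = jU ≫ p
  range : Set.range jU = ⇑p ⁻¹' Set.range jY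
  desc : ∀ (Z : Scheme.{u}) [IsAffine Z] (g : U' ⟶ Z), Inv s t jU g → ∃! g' : V' ⟶ Z, q ≫ g' = g

/-- A geometric quotient. -/
structure IsQuot : Prop where
  w : t ≫ p = s ≫ p
  surj : Function.Surjective p
  isOpen : IsOpenMap p
  fibre : ∀ u v, p u = p v → ∃ r, t r = u ∧ s r = v
  basis : ∀ (V : Set Y), IsOpen V → ∀ y ∈ V, ∃ (U' V' : Scheme.{u}) (jY : V' ⟶ Y) (jU : U' ⟶ U)
    (q : U' ⟶ V'), DescAt s t p jY jU q ∧ y ∈ Set.range jY ∧ Set.range jY ⊆ V

variable {s t p}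

theorem inv_of_comp_eq {U' V' Z : Scheme.{u}} {jY : V' ⟶ Y} {jU : U' ⟶ U} {q : U' ⟶ V'}
    (hw : t ≫ p = s ≫ p) (h : DescAt s t p jY jU q) (g : V' ⟶ Z) : Inv s t jU (q ≫ g) := by
  intro T a b r ha hb
  have := h.isY
  have e : a ≫ q = b ≫ q := by
    rw [← cancel_mono jY, Category.assoc, Category.assoc, h.w, ← Category.assoc, ← ha, ← Category.assoc,
      ← hb, Category.assoc, Category.assoc, hw]
  rw [← Category.assoc, e, Category.assoc]

/-- Morphisms out of an open of the quotient are detected upstairs. -/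
theorem IsQuot.hom_ext (h : IsQuot s t p) {P Z : Scheme.{u}} (j : P ⟶ Y) [IsOpenImmersion j]
    {f₁ f₂ : P ⟶ Z} (e : pullback.fst j p ≫ f₁ = pullback.fst j p ≫ f₂) : f₁ = f₂ := by
  refine Scheme.hom_ext_of_forall _ _ fun x => ?_
  have hsurj : Function.Surjective (pullback.fst j p) := by
    intro y
    obtain ⟨u, hu⟩ := h.surj (j y)
    obtain ⟨z, hz, -⟩ := Scheme.Pullback.exists_preimage_pullback y u hu.symm
    exact ⟨z, hz⟩
  have hpt : ∀ y, f₁ y = f₂ y := by
    intro y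
    obtain ⟨z, rfl⟩ := hsurj y
    rw [← Scheme.Hom.comp_apply, e, Scheme.Hom.comp_apply]
  obtain ⟨Z₀, hZ₀, hxZ, -⟩ :=
    exists_isAffineOpen_mem_and_subset (x := f₁ x) (U := ⊤) trivial
  have : IsAffine Z₀.toScheme := hZ₀
  obtain ⟨U', V', jY, jU, q, hd, hy, hsub⟩ := h.basis (j '' (⇑f₁ ⁻¹' (Z₀ : Set Z)))
    (j.isOpenEmbedding.isOpenMap _ (Z₀.2.preimage f₁.continuous)) (j x) ⟨x, hxZ, rfl⟩
  have := hd.isY
  have := hd.isU
  have hrange : Set.range jY ⊆ Set.range j := hsub.trans (Set.image_subset_range _ _)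
  let k := IsOpenImmersion.lift j jY hrange
  have hk : k ≫ j = jY := IsOpenImmersion.lift_fac _ _ _
  have : IsOpenImmersion k := by
    have : IsOpenImmersion (k ≫ j) := by rw [hk]; infer_instance
    exact IsOpenImmersion.of_comp k j
  have hkZ : ∀ v, f₁ (k v) ∈ Z₀ := by
    intro v
    obtain ⟨x', hx', hxv⟩ := hsub ⟨v, rfl⟩
    have : x' = k v := j.isOpenEmbedding.injective (by rw [hxv, ← hk, Scheme.Hom.comp_apply])
    exact this ▸ hx'
  have hl : ∀ f : P ⟶ Z, (∀ y, f y = f₁ y) → Set.range (k ≫ f) ⊆ Set.range Z₀.ι := by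
    rintro f hf _ ⟨v, rfl⟩
    rw [Scheme.Opens.range_ι, Scheme.Hom.comp_apply, hf]
    exact hkZ v
  let g₁ := IsOpenImmersion.lift Z₀.ι (k ≫ f₁) (hl f₁ fun _ => rfl)
  let g₂ := IsOpenImmersion.lift Z₀.ι (k ≫ f₂) (hl f₂ fun y => (hpt y).symm)
  have hq : q ≫ g₂ = q ≫ g₁ := by
    rw [← cancel_mono Z₀.ι, Category.assoc, Category.assoc, IsOpenImmersion.lift_fac,
      IsOpenImmersion.lift_fac]
    let m : U' ⟶ pullback j p := pullback.lift (q ≫ k) jU (by rw [Category.assoc, hk, hd.w])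
    rw [show q ≫ k ≫ f₂ = m ≫ pullback.fst j p ≫ f₂ by rw [pullback.lift_fst_assoc, Category.assoc],
      ← e, pullback.lift_fst_assoc, Category.assoc]
  obtain ⟨g', -, huniq⟩ := hd.desc Z₀ (q ≫ g₁) (inv_of_comp_eq h.w hd g₁)
  have heq : k ≫ f₁ = k ≫ f₂ := by
    rw [← IsOpenImmersion.lift_fac Z₀.ι (k ≫ f₁) (hl f₁ fun _ => rfl),
      ← IsOpenImmersion.lift_fac Z₀.ι (k ≫ f₂) (hl f₂ fun y => (hpt y).symm)]
    exact congrArg (· ≫ Z₀.ι) ((huniq g₁ rfl).trans (huniq g₂ hq).symm)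
  refine ⟨k.opensRange, ?_, ?_⟩
  · obtain ⟨v, hv⟩ := hy
    exact ⟨v, j.isOpenEmbedding.injective (by rw [← Scheme.Hom.comp_apply, hk, hv])⟩
  · rw [← cancel_epi k.isoOpensRange.hom]
    simpa using heq

theorem IsQuot.epi (h : IsQuot s t p) {Z : Scheme.{u}} {f₁ f₂ : Y ⟶ Z} (e : p ≫ f₁ = p ≫ f₂) :
    f₁ = f₂ :=
  h.hom_ext (𝟙 Y) (by
    rw [show pullback.fst (𝟙 Y) p = pullback.snd (𝟙 Y) p ≫ p by
      rw [← pullback.condition, Category.comp_id], Category.assoc, Category.assoc, e])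

/-- The factorisation of an invariant morphism through a quotient. -/
theorem IsQuot.exists_desc (h : IsQuot s t p) {Z : Scheme.{u}} (g : U ⟶ Z) (hg : t ≫ g = s ≫ g) :
    ∃ f : Y ⟶ Z, p ≫ f = g := by
  classical
  choose u hu using h.surj
  let g₀ : Y → Z := fun y => g (u y)
  have hg₀ : ∀ v, g₀ (p v) = g v := by
    intro v
    obtain ⟨r, ht, hs⟩ := h.fibre (u (p v)) v (hu _)
    rw [show g₀ (p v) = g (u (p v)) from rfl, ← ht, ← hs, ← Scheme.Hom.comp_apply, hg,
      Scheme.Hom.comp_apply]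
  have hcont : Continuous g₀ := by
    rw [(h.isOpen.isQuotientMap p.continuous h.surj).continuous_iff,
      show g₀ ∘ ⇑p = ⇑g from funext hg₀]
    exact g.continuous
  have hloc : ∀ y, ∃ (U' V' : Scheme.{u}) (jY : V' ⟶ Y) (jU : U' ⟶ U) (q : U' ⟶ V'),
      DescAt s t p jY jU q ∧ y ∈ Set.range jY ∧ ∃ f : V' ⟶ Z, q ≫ f = jU ≫ g := by
    intro y
    obtain ⟨Z₀, hZ₀, hyZ, -⟩ :=
      exists_isAffineOpen_mem_and_subset (x := g₀ y) (U := ⊤) trivial
    have : IsAffine Z₀.toScheme := hZ₀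
    obtain ⟨U', V', jY, jU, q, hd, hy, hsub⟩ :=
      h.basis (g₀ ⁻¹' (Z₀ : Set Z)) (Z₀.2.preimage hcont) y hyZ
    refine ⟨U', V', jY, jU, q, hd, hy, ?_⟩
    have hr : Set.range (jU ≫ g) ⊆ Set.range Z₀.ι := by
      rintro _ ⟨v, rfl⟩
      rw [Scheme.Opens.range_ι, Scheme.Hom.comp_apply, ← hg₀]
      exact hsub (hd.range.subset ⟨v, rfl⟩)
    obtain ⟨f, hf, -⟩ := hd.desc Z₀ (IsOpenImmersion.lift Z₀.ι (jU ≫ g) hr) (by
      intro T a b r ha hb
      rw [← cancel_mono Z₀.ι, Category.assoc, Category.assoc, IsOpenImmersion.lift_fac,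
        ← Category.assoc, ← ha, ← Category.assoc, ← hb, Category.assoc, Category.assoc, hg])
    exact ⟨f ≫ Z₀.ι, by rw [← Category.assoc, hf, IsOpenImmersion.lift_fac]⟩
  choose U' V' jY jU q hd hy f hf using hloc
  have := fun y => (hd y).isY
  have := fun y => (hd y).isU
  let 𝒰 : Y.OpenCover :=
    { I₀ := Y
      X := V'
      f := jY
      mem₀ := by
        rw [Scheme.presieve₀_mem_precoverage_iff]
        exact ⟨fun y => ⟨y, hy y⟩, fun y => (hd y).isY⟩ }
  have key : ∀ (y : Y) {P : Scheme.{u}} (i : P ⟶ V' y),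
      pullback.fst (i ≫ jY y) p ≫ i ≫ f y = pullback.snd (i ≫ jY y) p ≫ g := by
    intro y P i
    have hr : Set.range (pullback.snd (i ≫ jY y) p) ⊆ Set.range (jU y) := by
      rintro _ ⟨z, rfl⟩
      rw [(hd y).range, Set.mem_preimage, ← Scheme.Hom.comp_apply, ← pullback.condition,
        ← Category.assoc, Scheme.Hom.comp_apply]
      exact ⟨_, rfl⟩
    let l := IsOpenImmersion.lift (jU y) (pullback.snd (i ≫ jY y) p) hr
    have hl : l ≫ jU y = pullback.snd (i ≫ jY y) p := IsOpenImmersion.lift_fac _ _ _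
    have e : pullback.fst (i ≫ jY y) p ≫ i = l ≫ q y := by
      rw [← cancel_mono (jY y), Category.assoc, Category.assoc, (hd y).w, ← Category.assoc l, hl,
        pullback.condition]
    rw [← Category.assoc, e, Category.assoc, hf, ← Category.assoc, hl]
  refine ⟨𝒰.glueMorphisms f fun y y' => ?_, ?_⟩
  · change pullback.fst (jY y) (jY y') ≫ f y = pullback.snd (jY y) (jY y') ≫ f y'
    refine h.hom_ext (pullback.fst (jY y) (jY y') ≫ jY y) ?_
    rw [key y]
    have k2 := key y' (pullback.snd (jY y) (jY y'))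
    have hcond : pullback.fst (jY y) (jY y') ≫ jY y = pullback.snd (jY y) (jY y') ≫ jY y' :=
      pullback.condition
    generalize pullback.snd (jY y) (jY y') ≫ jY y' = j' at hcond k2
    subst hcond
    exact k2.symm
  · refine Scheme.hom_ext_of_forall _ _ fun v => ⟨(jU (p v)).opensRange, ?_, ?_⟩
    · change v ∈ Set.range (jU (p v))
      rw [(hd (p v)).range]
      exact hy (p v)
    · rw [← cancel_epi (jU (p v)).isoOpensRange.hom, Scheme.Hom.isoOpensRange_hom_ι_assoc,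
        Scheme.Hom.isoOpensRange_hom_ι_assoc, ← hf, ← Category.assoc, ← (hd (p v)).w, Category.assoc]
      congr 1
      exact 𝒰.ι_glueMorphisms f _ (p v)

/-- **A geometric quotient is a coequalizer in schemes.** -/
theorem IsQuot.nonempty_isColimit (h : IsQuot s t p) : Nonempty (IsColimit (Cofork.ofπ p h.w)) :=
  ⟨Cofork.IsColimit.mk _ (fun c => (h.exists_desc c.π c.condition).choose)
    (fun c => (h.exists_desc c.π c.condition).choose_spec)
    (fun c _ hm => h.epi (hm.trans (h.exists_desc c.π c.condition).choose_spec.symm))⟩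

/-- Being a quotient is local on the target. -/
theorem IsQuot.of_openCover (w : t ≫ p = s ≫ p) (surj : Function.Surjective p)
    (isOpen : IsOpenMap p) (fibre : ∀ u v, p u = p v → ∃ r, t r = u ∧ s r = v)
    (H : ∀ y : Y, ∃ O : Set Y, IsOpen O ∧ y ∈ O ∧ ∀ (V : Set Y), IsOpen V → V ⊆ O → ∀ z ∈ V,
      ∃ (U' V' : Scheme.{u}) (jY : V' ⟶ Y) (jU : U' ⟶ U) (q : U' ⟶ V'),
        DescAt s t p jY jU q ∧ z ∈ Set.range jY ∧ Set.range jY ⊆ V) :
    IsQuot s t p where
  w := w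
  surj := surj
  isOpen := isOpen
  fibre := fibre
  basis V hV y hy := by
    obtain ⟨O, hO, hyO, hbasis⟩ := H y
    obtain ⟨U', V', jY, jU, q, hd, hy', hsub⟩ :=
      hbasis (V ∩ O) (hV.inter hO) Set.inter_subset_right y ⟨hy, hyO⟩
    exact ⟨U', V', jY, jU, q, hd, hy', hsub.trans Set.inter_subset_left⟩

/-- Any coequalizer is isomorphic to a given quotient. -/
theorem IsQuot.exists_iso (h : IsQuot s t p) {Y' : Scheme.{u}} {p' : U ⟶ Y'} {w' : t ≫ p' = s ≫ p'}
    (hc : IsColimit (Cofork.ofπ p' w')) : ∃ e : Y ≅ Y', p ≫ e.hom = p' :=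
  ⟨IsColimit.coconePointUniqueUpToIso h.nonempty_isColimit.some hc,
    IsColimit.comp_coconePointUniqueUpToIso_hom h.nonempty_isColimit.some hc WalkingParallelPair.one⟩

end Groth.Quot
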