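import Mathlib
import Groth.Prelude.Def_Grpd
import Groth.Agent.GitQuot.GrpdShear
import Groth.Agent.GitQuot.AffGpd.DualSys
import Groth.Agent.GitQuot.AffGpd.Norm

/-!
# Invariant affine opens of a groupoid with finite locally free source map
-/

set_option autoImplicit false

universe u

open AlgebraicGeometry CategoryTheory CategoryTheory.Limits

noncomputable section

namespace Groth.GrpdBasic

theorem mem_basicOpen_iff_notMem {X : Scheme.{u}} {D : X.Opens} (hD : IsAffineOpen D) (y : X) (hy : y ∈ D)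
    (c : Γ(X, D)) : y ∈ X.basicOpen c ↔ c ∉ (hD.primeIdealOf ⟨y, hy⟩).asIdeal := by
  have := SetLike.ext_iff.1 (hD.fromSpec_preimage_basicOpen c) (hD.primeIdealOf ⟨y, hy⟩)
  have e : hD.fromSpec (hD.primeIdealOf ⟨y, hy⟩) = y := hD.fromSpec_primeIdealOf ⟨y, hy⟩
  refine Iff.trans ⟨fun h => ?_, fun h => ?_⟩ this
  · change hD.fromSpec (hD.primeIdealOf ⟨y, hy⟩) ∈ X.basicOpen c
    rw [e]; exact h
  · change hD.fromSpec (hD.primeIdealOf ⟨y, hy⟩) ∈ X.basicOpen c at h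
    rw [e] at h; exact h

theorem exists_dualSys_of_finLocFree {X Y : Scheme.{u}} (f : X ⟶ Y) [IsAffine Y] [IsFinite f] [Flat f]
    [LocallyOfFinitePresentation f] : ∃ n, Nonempty (AffGpd.DualSys f.appTop n) := by
  have : IsAffine X := isAffine_of_isAffineHom f
  refine AffGpd.DualSys.exists_of_projective f.finite_appTop ?_
  algebraize [f.appTop.hom]
  have : Module.Flat Γ(Y, ⊤) Γ(X, ⊤) := f.flat_appTop
  have : Module.Finite Γ(Y, ⊤) Γ(X, ⊤) := f.finite_appTop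
  have hfp : f.appTop.hom.FinitePresentation :=
    (HasRingHomProperty.iff_of_isAffine (P := @LocallyOfFinitePresentation)).1 inferInstance
  have : Algebra.FinitePresentation Γ(Y, ⊤) Γ(X, ⊤) := hfp
  have : Module.FinitePresentation Γ(Y, ⊤) Γ(X, ⊤) := .of_finite_of_finitePresentation _ _
  exact Module.Flat.projective_of_finitePresentation

/-- Over an affine open `D`, the points whose fibre avoids the zeros of a function on the source form an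
affine open. -/
theorem exists_affineOpen_forall_fibre {X Y : Scheme.{u}} (f : X ⟶ Y) [IsFinite f] [Flat f]
    [LocallyOfFinitePresentation f] (D : Y.Opens) (hD : IsAffineOpen D) (b : Γ(X, f ⁻¹ᵁ D)) :
    ∃ W : Y.Opens, IsAffineOpen W ∧ ∀ y, y ∈ W ↔ y ∈ D ∧ ∀ x, f x = y → x ∈ X.basicOpen b := by
  have hX : IsAffineOpen (f ⁻¹ᵁ D) := hD.preimage f
  have happ : (f.app D).hom.Finite ∧ (f.app D).hom.Flat ∧ (f.app D).hom.FinitePresentation := by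
    have e : f.appLE D (f ⁻¹ᵁ D) le_rfl = f.app D := f.appLE_eq_app
    refine ⟨f.finite_app D hD, ?_, ?_⟩
    · rw [← e]; exact HasRingHomProperty.appLE @Flat f inferInstance ⟨D, hD⟩ ⟨_, hX⟩ le_rfl
    · rw [← e]; exact HasRingHomProperty.appLE @LocallyOfFinitePresentation f inferInstance ⟨D, hD⟩ ⟨_, hX⟩ le_rfl
  obtain ⟨n, ⟨𝒟⟩⟩ : ∃ n, Nonempty (AffGpd.DualSys (f.app D) n) := by
    refine AffGpd.DualSys.exists_of_projective happ.1 ?_
    algebraize [(f.app D).hom]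
    have : Module.Flat Γ(Y, D) Γ(X, f ⁻¹ᵁ D) := happ.2.1
    have : Module.Finite Γ(Y, D) Γ(X, f ⁻¹ᵁ D) := happ.1
    have : Algebra.FinitePresentation Γ(Y, D) Γ(X, f ⁻¹ᵁ D) := happ.2.2
    have : Module.FinitePresentation Γ(Y, D) Γ(X, f ⁻¹ᵁ D) := .of_finite_of_finitePresentation _ _
    exact Module.Flat.projective_of_finitePresentation
  refine ⟨Y.basicOpen (𝒟.nrm b), hD.basicOpen _, fun y => ?_⟩
  have hmem : ∀ (y : Y) (hy : y ∈ D) (c : Γ(Y, D)), y ∈ Y.basicOpen c ↔ c ∉ (hD.primeIdealOf ⟨y, hy⟩).asIdeal := by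
    intro y hy c
    exact mem_basicOpen_iff_notMem hD y hy c
  have hmemX : ∀ (x : X) (hx : f x ∈ D) (c : Γ(X, f ⁻¹ᵁ D)),
      x ∈ X.basicOpen c ↔ c ∉ (hX.primeIdealOf ⟨x, hx⟩).asIdeal :=
    fun x hx c => mem_basicOpen_iff_notMem hX x hx c
  have hcomap : ∀ (x : X) (hx : f x ∈ D),
      (hX.primeIdealOf ⟨x, hx⟩).comap (f.app D).hom = hD.primeIdealOf ⟨f x, hx⟩ := by
    intro x hx
    have := IsAffineOpen.comap_primeIdealOf_appLE D hD (f ⁻¹ᵁ D) hX le_rfl (f := f) (x := x) hx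
    rwa [Scheme.Hom.appLE_eq_app] at this
  constructor
  · intro hy
    have hyD : y ∈ D := Y.basicOpen_le _ hy
    refine ⟨hyD, ?_⟩
    rintro x rfl
    rw [hmemX x hyD]
    exact (𝒟.nrm_notMem_iff _ b).1 ((hmem _ hyD _).1 hy) _ (hX.primeIdealOf ⟨x, hyD⟩).isPrime
      (congrArg PrimeSpectrum.asIdeal (hcomap x hyD))
  · rintro ⟨hyD, h⟩
    rw [hmem y hyD, 𝒟.nrm_notMem_iff]
    intro r hr hru
    let x := hX.fromSpec ⟨r, hr⟩
    have hx : x ∈ f ⁻¹ᵁ D := hX.range_fromSpec.subset ⟨_, rfl⟩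
    have hpx : hX.primeIdealOf ⟨x, hx⟩ = ⟨r, hr⟩ :=
      hX.fromSpec.isOpenEmbedding.injective (hX.fromSpec_primeIdealOf ⟨x, hx⟩)
    have hfx : f x = y := by
      have e : hD.primeIdealOf ⟨f x, hx⟩ = hD.primeIdealOf ⟨y, hyD⟩ := by
        rw [← hcomap x hx, hpx]; exact PrimeSpectrum.ext hru
      have := congrArg hD.fromSpec e
      rwa [hD.fromSpec_primeIdealOf, hD.fromSpec_primeIdealOf] at this
    have := (hmemX x hx b).1 (h x hfx)
    rwa [hpx] at this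

variable {S : Scheme.{u}} (G : Grpd.GroupoidScheme S)

/-- **Invariant affine neighbourhoods.** -/
theorem exists_invariant_affineOpen [IsFinite G.s] [Flat G.s] [LocallyOfFinitePresentation G.s]
    (u : G.U) (V : G.U.Opens) (hV : IsAffineOpen V) (huV : ∀ r : G.R, G.s r = u → G.t r ∈ V)
    (O : G.U.Opens := ⊤) (hOinv : G.s ⁻¹ᵁ O = G.t ⁻¹ᵁ O := by simp) (huO : u ∈ O := by trivial) :
    ∃ W : G.U.Opens, IsAffineOpen W ∧ u ∈ W ∧ W ≤ V ⊓ O ∧ G.s ⁻¹ᵁ W = G.t ⁻¹ᵁ W := by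
  classical
  have := isIso_i G
  have : IsFinite G.t := by rw [← G.i_s]; infer_instance
  have hE := orbit_equivalence G
  have hZc : IsClosed (⇑G.t '' (⇑G.s ⁻¹' (V : Set G.U)ᶜ)) :=
    G.t.isClosedMap _ (V.2.isClosed_compl.preimage G.s.continuous)
  let W₀ : G.U.Opens := ⟨_, hZc.isOpen_compl⟩
  have hW₀ : ∀ w, w ∈ W₀ ↔ ∀ r : G.R, G.t r = w → G.s r ∈ V := by
    intro w
    change ¬ (∃ r, G.s r ∉ V ∧ G.t r = w) ↔ _
    push Not
    exact forall_congr' fun r => ⟨fun h e => by_contra fun hn => h hn e, fun h hn e => hn (h e)⟩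
  have hW₀' : ∀ w, w ∈ W₀ ↔ ∀ r : G.R, G.s r = w → G.t r ∈ V := by
    intro w
    rw [hW₀]
    constructor
    · intro h r hr
      obtain ⟨r', h1, h2⟩ := hE.symm ⟨r, rfl, hr⟩
      exact h2 ▸ h r' h1
    · intro h r hr
      obtain ⟨r', h1, h2⟩ := hE.symm ⟨r, hr, rfl⟩
      exact h1 ▸ h r' h2
  have hW₀V : W₀ ≤ V := fun w hw => by
    have := (hW₀ w).1 hw (G.e w) (by rw [← Scheme.Hom.comp_apply, G.e_t]; rfl)
    rwa [← Scheme.Hom.comp_apply, G.e_s] at this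
  have hW₀inv : ∀ r, G.s r ∈ W₀ → G.t r ∈ W₀ := by
    intro r hr
    rw [hW₀] at hr ⊢
    intro r' hr'
    obtain ⟨r'', h1, h2⟩ := hE.trans (hE.symm ⟨r, rfl, rfl⟩) ⟨r', hr', rfl⟩
    exact h2 ▸ hr r'' h1
  let W₁ : G.U.Opens := W₀ ⊓ O
  have hW₁inv : ∀ r, G.s r ∈ W₁ → G.t r ∈ W₁ := fun r hr =>
    ⟨hW₀inv r hr.1, (SetLike.ext_iff.1 hOinv r).1 hr.2⟩
  have hfin : (⇑G.t '' (⇑G.s ⁻¹' {u})).Finite := (G.s.finite_preimage_singleton u).image _
  have hO : ∀ v ∈ ⇑G.t '' (⇑G.s ⁻¹' {u}), v ∈ W₁ := by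
    rintro _ ⟨r, hr, rfl⟩
    exact hW₁inv r ⟨(hW₀' _).2 fun r' hr' => huV r' (hr'.trans hr), (show G.s r = u from hr) ▸ huO⟩
  -- choose a function
  let Z : Set (PrimeSpectrum Γ(G.U, V)) := (⇑hV.fromSpec ⁻¹' (W₁ : Set G.U))ᶜ
  have hZ : IsClosed Z := (W₁.2.preimage hV.fromSpec.continuous).isClosed_compl
  let P : Set (PrimeSpectrum Γ(G.U, V)) := ⇑hV.fromSpec ⁻¹' (⇑G.t '' (⇑G.s ⁻¹' {u}))
  have hP : P.Finite := hfin.preimage hV.fromSpec.isOpenEmbedding.injective.injOn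
  have huV' : u ∈ V := by
    have := huV (G.e u) (by rw [← Scheme.Hom.comp_apply, G.e_s]; rfl)
    rwa [← Scheme.Hom.comp_apply, G.e_t] at this
  let p₀ : PrimeSpectrum Γ(G.U, V) := hV.primeIdealOf ⟨u, huV'⟩
  obtain ⟨φ, hφZ, hφP⟩ : ∃ φ ∈ PrimeSpectrum.vanishingIdeal Z, ∀ p ∈ P, φ ∉ p.asIdeal := by
    by_contra hne
    push Not at hne
    have hsub : ((PrimeSpectrum.vanishingIdeal Z : Ideal Γ(G.U, V)) : Set Γ(G.U, V)) ⊆
        ⋃ p ∈ (hP.toFinset : Set (PrimeSpectrum Γ(G.U, V))), (p.asIdeal : Set Γ(G.U, V)) := by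
      intro x hx
      obtain ⟨p, hp, hxp⟩ := hne x hx
      simp only [Set.mem_iUnion]
      exact ⟨p, Finset.mem_coe.2 (hP.mem_toFinset.2 hp), hxp⟩
    rw [Ideal.subset_union_prime (f := fun p : PrimeSpectrum Γ(G.U, V) => p.asIdeal) p₀ p₀
      (fun p _ _ _ => p.isPrime)] at hsub
    obtain ⟨p, hp, hle⟩ := hsub
    have : p ∈ Z := by
      rw [← hZ.closure_eq, ← PrimeSpectrum.zeroLocus_vanishingIdeal_eq_closure]
      exact hle
    exact this (hO _ (hP.mem_toFinset.1 hp))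
  let D := G.U.basicOpen φ
  have hDW₁ : D ≤ W₁ := by
    intro w hw
    have hwV : w ∈ V := G.U.basicOpen_le _ hw
    by_contra hn
    have hpZ : hV.primeIdealOf ⟨w, hwV⟩ ∈ Z := by
      change hV.fromSpec (hV.primeIdealOf ⟨w, hwV⟩) ∉ (W₁ : Set G.U)
      rw [hV.fromSpec_primeIdealOf]
      exact hn
    have hp : φ ∉ (hV.primeIdealOf ⟨w, hwV⟩).asIdeal := (mem_basicOpen_iff_notMem hV w hwV φ).1 hw
    exact hp ((PrimeSpectrum.mem_vanishingIdeal _ _).1 hφZ _ hpZ)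
  have hOD : ∀ r : G.R, G.s r = u → G.t r ∈ D := by
    intro r hr
    have hwV : G.t r ∈ V := huV r hr
    refine (mem_basicOpen_iff_notMem hV _ hwV φ).2 (hφP _ ?_)
    change hV.fromSpec (hV.primeIdealOf ⟨G.t r, hwV⟩) ∈ ⇑G.t '' (⇑G.s ⁻¹' {u})
    rw [hV.fromSpec_primeIdealOf]
    exact ⟨r, hr, rfl⟩
  have huD : u ∈ D := by
    have := hOD (G.e u) (by rw [← Scheme.Hom.comp_apply, G.e_s]; rfl)
    rwa [← Scheme.Hom.comp_apply, G.e_t] at this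
  have hle : G.s ⁻¹ᵁ D ≤ G.t ⁻¹ᵁ V := fun r hr => hW₀V (hW₀inv r (hDW₁ hr).1)
  obtain ⟨W, hWaff, hW⟩ := exists_affineOpen_forall_fibre G.s D (hV.basicOpen φ)
    ((G.t.appLE V (G.s ⁻¹ᵁ D) hle).hom φ)
  have hb : ∀ r, r ∈ G.R.basicOpen ((G.t.appLE V (G.s ⁻¹ᵁ D) hle).hom φ) ↔ G.s r ∈ D ∧ G.t r ∈ D := by
    intro r
    rw [Scheme.basicOpen_appLE]
    exact Iff.rfl
  have hW' : ∀ w, w ∈ W ↔ ∀ x, (∃ r, G.t r = x ∧ G.s r = w) → x ∈ D := by
    intro w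
    rw [hW]
    constructor
    · rintro ⟨-, h⟩ x ⟨r, rfl, hr⟩
      exact ((hb r).1 (h r hr)).2
    · intro h
      have hwD : w ∈ D := h w (hE.refl w)
      exact ⟨hwD, fun r hr => (hb r).2 ⟨hr ▸ hwD, h _ ⟨r, rfl, hr⟩⟩⟩
  refine ⟨W, hWaff, (hW' u).2 (fun x ⟨r, h1, h2⟩ => h1 ▸ hOD r h2),
    fun w hw => ⟨G.U.basicOpen_le φ ((hW w).1 hw).1, (hDW₁ ((hW w).1 hw).1).2⟩, ?_⟩
  ext r
  simp only [TopologicalSpace.Opens.map_coe, Set.mem_preimage, SetLike.mem_coe, hW']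
  constructor
  · intro h x hx
    exact h x (hE.trans hx ⟨r, rfl, rfl⟩)
  · intro h x hx
    exact h x (hE.trans hx (hE.symm ⟨r, rfl, rfl⟩))

end Groth.GrpdBasic
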