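import Mathlib
import Groth.Prelude.Def_Grpd
import Groth.Agent.GitQuot.GrpdShear
import Groth.Agent.GitQuot.IsQuot

/-!
# Restriction of a groupoid to an invariant open, and transport of quotients along open immersions
-/

set_option autoImplicit false

universe u

open AlgebraicGeometry CategoryTheory CategoryTheory.Limits

noncomputable section

namespace Groth.Quot

variable {R U Y R' U' Y' : Scheme.{u}} {s t : R ⟶ U} {p : U ⟶ Y} {s' t' : R' ⟶ U'} {p' : U' ⟶ Y'}

/-- A square inside an open of the quotient, seen in the whole quotient. -/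
theorem DescAt.extend {jU : U' ⟶ U} {jR : R' ⟶ R} {jY : Y' ⟶ Y} [IsOpenImmersion jU] [IsOpenImmersion jY]
    (hs : s' ≫ jU = jR ≫ s) (ht : t' ≫ jU = jR ≫ t)
    (hw : p' ≫ jY = jU ≫ p) (hU : Set.range jU = ⇑p ⁻¹' Set.range jY)
    {U₂ V₂ : Scheme.{u}} {kY : V₂ ⟶ Y'} {kU : U₂ ⟶ U'} {q : U₂ ⟶ V₂}
    (h : DescAt s' t' p' kY kU q) : DescAt s t p (kY ≫ jY) (kU ≫ jU) q where
  isY := by have := h.isY; infer_instance
  isU := by have := h.isU; infer_instance
  w := by rw [← Category.assoc, h.w, Category.assoc, hw, Category.assoc]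
  range := by
    ext x
    constructor
    · rintro ⟨z, rfl⟩
      obtain ⟨v, hv⟩ := h.range.subset ⟨z, rfl⟩
      refine ⟨v, ?_⟩
      rw [Scheme.Hom.comp_apply, hv, ← Scheme.Hom.comp_apply, hw, Scheme.Hom.comp_apply,
        Scheme.Hom.comp_apply]
    · rintro ⟨v, hv⟩
      rw [Scheme.Hom.comp_apply] at hv
      obtain ⟨x', rfl⟩ := hU.symm.subset ⟨_, hv⟩
      have : p' x' = kY v := jY.isOpenEmbedding.injective (by
        rw [hv, ← Scheme.Hom.comp_apply, hw, Scheme.Hom.comp_apply])
      obtain ⟨z, rfl⟩ := h.range.symm.subset ⟨v, this.symm⟩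
      exact ⟨z, Scheme.Hom.comp_apply _ _ _⟩
  desc Z _ g hg := h.desc Z g fun T a b r ha hb => hg T a b (r ≫ jR)
    (by rw [Category.assoc, ← ht, ← Category.assoc, ha, Category.assoc])
    (by rw [Category.assoc, ← hs, ← Category.assoc, hb, Category.assoc])

/-- Restriction of a quotient to an open of the target. -/
theorem IsQuot.restrict (h : IsQuot s t p) {jU : U' ⟶ U} {jR : R' ⟶ R} {jY : Y' ⟶ Y}
    [IsOpenImmersion jU] [IsOpenImmersion jR] [IsOpenImmersion jY]
    (hs : s' ≫ jU = jR ≫ s) (ht : t' ≫ jU = jR ≫ t) (hR : Set.range jR = ⇑s ⁻¹' Set.range jU)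
    (hw : p' ≫ jY = jU ≫ p) (hU : Set.range jU = ⇑p ⁻¹' Set.range jY) : IsQuot s' t' p' where
  w := by
    rw [← cancel_mono jY, Category.assoc, Category.assoc, hw, ← Category.assoc, ht, Category.assoc,
      ← Category.assoc s', hs, Category.assoc, h.w]
  surj y := by
    obtain ⟨u, hu⟩ := h.surj (jY y)
    obtain ⟨u', rfl⟩ := hU.symm.subset ⟨y, hu.symm⟩
    exact ⟨u', jY.isOpenEmbedding.injective (by
      rw [← hu, ← Scheme.Hom.comp_apply, hw, Scheme.Hom.comp_apply])⟩
  isOpen O hO := by
    have e : ⇑jY '' (⇑p' '' O) = ⇑p '' (⇑jU '' O) := by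
      rw [Set.image_image, Set.image_image]
      exact Set.image_congr fun x _ => by rw [← Scheme.Hom.comp_apply, hw, Scheme.Hom.comp_apply]
    rw [jY.isOpenEmbedding.isOpen_iff_image_isOpen, e]
    exact h.isOpen _ (jU.isOpenEmbedding.isOpenMap _ hO)
  fibre u v e := by
    obtain ⟨r, hrt, hrs⟩ := h.fibre (jU u) (jU v) (by
      rw [← Scheme.Hom.comp_apply, ← Scheme.Hom.comp_apply, ← hw, Scheme.Hom.comp_apply,
        Scheme.Hom.comp_apply, e])
    obtain ⟨r', rfl⟩ := hR.symm.subset ⟨v, hrs.symm⟩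
    refine ⟨r', jU.isOpenEmbedding.injective ?_, jU.isOpenEmbedding.injective ?_⟩
    · rw [← hrt, ← Scheme.Hom.comp_apply, ht, Scheme.Hom.comp_apply]
    · rw [← hrs, ← Scheme.Hom.comp_apply, hs, Scheme.Hom.comp_apply]
  basis V hV y hy := by
    obtain ⟨U₂, V₂, kY, kU, q, hd, hy', hsub⟩ :=
      h.basis (⇑jY '' V) (jY.isOpenEmbedding.isOpenMap _ hV) (jY y) ⟨y, hy, rfl⟩
    have := hd.isY
    have := hd.isU
    have hrY : Set.range kY ⊆ Set.range jY := hsub.trans (Set.image_subset_range _ _)
    have hrU : Set.range kU ⊆ Set.range jU := by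
      rw [hd.range, hU]; exact Set.preimage_mono hrY
    let kY' := IsOpenImmersion.lift jY kY hrY
    let kU' := IsOpenImmersion.lift jU kU hrU
    have eY : kY' ≫ jY = kY := IsOpenImmersion.lift_fac _ _ _
    have eU : kU' ≫ jU = kU := IsOpenImmersion.lift_fac _ _ _
    have iY : IsOpenImmersion kY' := by
      have : IsOpenImmersion (kY' ≫ jY) := by rw [eY]; infer_instance
      exact IsOpenImmersion.of_comp kY' jY
    have iU : IsOpenImmersion kU' := by
      have : IsOpenImmersion (kU' ≫ jU) := by rw [eU]; infer_instance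
      exact IsOpenImmersion.of_comp kU' jU
    have eYapp : ∀ v, jY (kY' v) = kY v := fun v => by rw [← Scheme.Hom.comp_apply, eY]
    have eUapp : ∀ v, jU (kU' v) = kU v := fun v => by rw [← Scheme.Hom.comp_apply, eU]
    refine ⟨U₂, V₂, kY', kU', q, ⟨iY, iU, ?_, ?_, ?_⟩, ?_, ?_⟩
    · rw [← cancel_mono jY, Category.assoc, Category.assoc, eY, hw, ← Category.assoc kU', eU, hd.w]
    · ext x
      have hx : jY (p' x) = p (jU x) := by rw [← Scheme.Hom.comp_apply, hw, Scheme.Hom.comp_apply]
      constructor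
      · rintro ⟨z, rfl⟩
        obtain ⟨v, hv⟩ := hd.range.subset ⟨z, rfl⟩
        exact ⟨v, jY.isOpenEmbedding.injective (by rw [eYapp, hv, hx, eUapp])⟩
      · rintro ⟨v, hv⟩
        obtain ⟨z, hz⟩ := hd.range.symm.subset
          (show jU x ∈ ⇑p ⁻¹' Set.range kY from ⟨v, by rw [← eYapp, hv, hx]⟩)
        exact ⟨z, jU.isOpenEmbedding.injective (by rw [eUapp, hz])⟩
    · intro Z _ g hg
      refine hd.desc Z g fun T a b r ha hb => ?_
      have hr : Set.range r ⊆ Set.range jR := by
        rintro _ ⟨z, rfl⟩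
        rw [hR, Set.mem_preimage, ← Scheme.Hom.comp_apply, hb, ← eU, ← Category.assoc, Scheme.Hom.comp_apply]
        exact ⟨_, rfl⟩
      let r' := IsOpenImmersion.lift jR r hr
      have er : r' ≫ jR = r := IsOpenImmersion.lift_fac _ _ _
      refine hg T a b r' ?_ ?_
      · rw [← cancel_mono jU, Category.assoc, ht, ← Category.assoc, er, ha, Category.assoc, eU]
      · rw [← cancel_mono jU, Category.assoc, hs, ← Category.assoc, er, hb, Category.assoc, eU]
    · obtain ⟨v, hv⟩ := hy'
      exact ⟨v, jY.isOpenEmbedding.injective (by rw [eYapp, hv])⟩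
    · rintro _ ⟨v, rfl⟩
      obtain ⟨x, hx, hxv⟩ := hsub ⟨v, rfl⟩
      have : x = kY' v := jY.isOpenEmbedding.injective (by rw [hxv, eYapp])
      exact this ▸ hx

end Groth.Quot

namespace Groth.GrpdBasic

variable {S : Scheme.{u}} (G : Grpd.GroupoidScheme S) (W : G.U.Opens) (hW : G.s ⁻¹ᵁ W = G.t ⁻¹ᵁ W)

/-- The inclusion of the arrows over `W`. -/
abbrev arrowsι : (G.s ⁻¹ᵁ W).toScheme ⟶ G.R := (G.s ⁻¹ᵁ W).ι

include hW in
theorem range_t_subset : Set.range (arrowsι G W ≫ G.t) ⊆ Set.range W.ι := by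
  rintro _ ⟨x, rfl⟩
  rw [Scheme.Opens.range_ι, Scheme.Hom.comp_apply]
  exact (SetLike.ext_iff.1 hW _).1 x.2

theorem range_e_subset : Set.range (W.ι ≫ G.e) ⊆ Set.range (arrowsι G W) := by
  rintro _ ⟨x, rfl⟩
  rw [Scheme.Opens.range_ι, SetLike.mem_coe, Scheme.Hom.mem_preimage, ← Scheme.Hom.comp_apply,
    Category.assoc, G.e_s, Category.comp_id]
  exact x.2

include hW in
theorem range_i_subset : Set.range (arrowsι G W ≫ G.i) ⊆ Set.range (arrowsι G W) := by
  rintro _ ⟨x, rfl⟩
  rw [Scheme.Opens.range_ι, SetLike.mem_coe, Scheme.Hom.mem_preimage, ← Scheme.Hom.comp_apply,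
    Category.assoc, G.i_s, Scheme.Hom.comp_apply]
  exact (SetLike.ext_iff.1 hW _).1 x.2

/-- target on the restricted groupoid -/
def restrictT : (G.s ⁻¹ᵁ W).toScheme ⟶ W.toScheme :=
  IsOpenImmersion.lift W.ι (arrowsι G W ≫ G.t) (range_t_subset G W hW)

@[reassoc]
theorem restrictT_ι : restrictT G W hW ≫ W.ι = arrowsι G W ≫ G.t := IsOpenImmersion.lift_fac _ _ _

/-- pairs of the restricted groupoid -/
def pairsMap : pullback (G.s ∣_ W) (restrictT G W hW) ⟶ pullback G.s G.t :=
  pullback.map _ _ _ _ (arrowsι G W) (arrowsι G W) W.ι (morphismRestrict_ι G.s W) (restrictT_ι G W hW)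

theorem range_c_subset : Set.range (pairsMap G W hW ≫ G.c) ⊆ Set.range (arrowsι G W) := by
  rintro _ ⟨x, rfl⟩
  rw [Scheme.Opens.range_ι, SetLike.mem_coe, Scheme.Hom.mem_preimage, ← Scheme.Hom.comp_apply,
    Category.assoc, c_s, ← Category.assoc, pairsMap, pullback.lift_snd, Category.assoc,
    Scheme.Hom.comp_apply, Scheme.Hom.comp_apply]
  exact (pullback.snd (G.s ∣_ W) (restrictT G W hW) x).2

/-- composition on the restricted groupoid -/
def restrictC : pullback (G.s ∣_ W) (restrictT G W hW) ⟶ (G.s ⁻¹ᵁ W).toScheme :=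
  IsOpenImmersion.lift (arrowsι G W) (pairsMap G W hW ≫ G.c) (range_c_subset G W hW)

theorem lift_restrictC {T : Scheme.{u}} (α β : T ⟶ (G.s ⁻¹ᵁ W).toScheme)
    (h : α ≫ (G.s ∣_ W) = β ≫ restrictT G W hW) :
    (pullback.lift α β h ≫ restrictC G W hW) ≫ arrowsι G W =
      comp G (α ≫ arrowsι G W) (β ≫ arrowsι G W) (by
        rw [Category.assoc, ← morphismRestrict_ι, ← Category.assoc, h, Category.assoc, restrictT_ι,
          Category.assoc]) := by
  rw [Category.assoc, restrictC, IsOpenImmersion.lift_fac, ← Category.assoc, comp]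
  congr 1
  apply pullback.hom_ext
  · rw [Category.assoc, pairsMap, pullback.lift_fst, ← Category.assoc, pullback.lift_fst, pullback.lift_fst]
  · rw [Category.assoc, pairsMap, pullback.lift_snd, ← Category.assoc, pullback.lift_snd, pullback.lift_snd]

/-- **The groupoid restricted to an invariant open.** -/
@[reducible] def restrict : Grpd.GroupoidScheme S where
  U := W.toScheme
  R := (G.s ⁻¹ᵁ W).toScheme
  pU := W.ι ≫ G.pU
  pR := arrowsι G W ≫ G.pR
  s := G.s ∣_ W
  t := restrictT G W hW
  e := IsOpenImmersion.lift (arrowsι G W) (W.ι ≫ G.e) (range_e_subset G W)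
  i := IsOpenImmersion.lift (arrowsι G W) (arrowsι G W ≫ G.i) (range_i_subset G W hW)
  c := restrictC G W hW
  s_over := by rw [← Category.assoc, morphismRestrict_ι, Category.assoc, G.s_over]
  t_over := by rw [← Category.assoc, restrictT_ι, Category.assoc, G.t_over]
  comp_s α β h := by
    have e := congrArg (· ≫ G.s) (lift_restrictC G W hW α β h)
    simp only [Category.assoc, comp_s] at e
    rw [← cancel_mono W.ι]
    simp only [Category.assoc, morphismRestrict_ι]
    exact e
  comp_t α β h := by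
    have e := congrArg (· ≫ G.t) (lift_restrictC G W hW α β h)
    simp only [Category.assoc, comp_t] at e
    rw [← cancel_mono W.ι]
    simp only [Category.assoc, restrictT_ι]
    exact e
  assoc α β γ h₁ h₂ := by
    rw [← cancel_mono (arrowsι G W)]
    refine (lift_restrictC G W hW _ γ _).trans (Eq.trans ?_ (lift_restrictC G W hW α _ _).symm)
    refine (comp_congr G _ (lift_restrictC G W hW α β h₁) rfl).trans ?_
    refine Eq.trans ?_ (comp_congr G _ rfl (lift_restrictC G W hW β γ h₂)).symm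
    exact comp_assoc G _ _ _ _ _
  e_s := by
    rw [← cancel_mono W.ι, Category.assoc, morphismRestrict_ι, ← Category.assoc,
      IsOpenImmersion.lift_fac, Category.assoc, G.e_s, Category.comp_id, Category.id_comp]
  e_t := by
    rw [← cancel_mono W.ι, Category.assoc, restrictT_ι, ← Category.assoc,
      IsOpenImmersion.lift_fac, Category.assoc, G.e_t, Category.comp_id, Category.id_comp]
  comp_e α := by
    rw [← cancel_mono (arrowsι G W), lift_restrictC]
    refine Eq.trans (comp_congr G _ rfl ?_) (comp_unit G (α ≫ arrowsι G W) rfl)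
    rw [Category.assoc, Category.assoc, IsOpenImmersion.lift_fac, Category.assoc, Category.assoc,
      morphismRestrict_ι_assoc]
  e_comp α := by
    rw [← cancel_mono (arrowsι G W), lift_restrictC]
    refine Eq.trans (comp_congr G _ ?_ rfl) (unit_comp G (α ≫ arrowsι G W) rfl)
    rw [Category.assoc, Category.assoc, IsOpenImmersion.lift_fac, Category.assoc, Category.assoc,
      restrictT_ι_assoc]
  i_s := by
    rw [← cancel_mono W.ι, Category.assoc, morphismRestrict_ι, ← Category.assoc,
      IsOpenImmersion.lift_fac, Category.assoc, G.i_s, restrictT_ι]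
  i_t := by
    rw [← cancel_mono W.ι, Category.assoc, restrictT_ι, ← Category.assoc,
      IsOpenImmersion.lift_fac, Category.assoc, G.i_t, morphismRestrict_ι]
  comp_i α := by
    rw [← cancel_mono (arrowsι G W), lift_restrictC]
    refine Eq.trans (comp_congr G _ rfl (?_ : _ = (α ≫ arrowsι G W) ≫ G.i)) ((comp_inv G _).trans ?_)
    · rw [Category.assoc, IsOpenImmersion.lift_fac, Category.assoc]
    · rw [Category.assoc, Category.assoc, Category.assoc, Category.assoc, IsOpenImmersion.lift_fac,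
        restrictT_ι_assoc]
  i_comp α := by
    rw [← cancel_mono (arrowsι G W), lift_restrictC]
    refine Eq.trans (comp_congr G _ (?_ : _ = (α ≫ arrowsι G W) ≫ G.i) rfl) ((inv_comp G _).trans ?_)
    · rw [Category.assoc, IsOpenImmersion.lift_fac, Category.assoc]
    · rw [Category.assoc, Category.assoc, Category.assoc, Category.assoc, IsOpenImmersion.lift_fac,
        morphismRestrict_ι_assoc]

theorem range_arrowsι : Set.range (arrowsι G W) = ⇑G.s ⁻¹' Set.range W.ι := by
  rw [Scheme.Opens.range_ι, Scheme.Opens.range_ι]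
  rfl

end Groth.GrpdBasic
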