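import Mathlib
import Groth.Prelude.Def_Grpd
import Groth.Agent.GitQuot.GrpdRestrict
import Groth.Agent.GitQuot.GrpdInvAffine
import Groth.Agent.GitQuot.AffGpd.QuotAffine

/-!
# The quotient of a finite locally free groupoid whose orbits lie in affine opens
-/

set_option autoImplicit false

universe u

open AlgebraicGeometry CategoryTheory CategoryTheory.Limits

noncomputable section

namespace Groth.GrpdQuotient

open Groth.GrpdBasic Groth.Quot

variable {S : Scheme.{u}} (G : Grpd.GroupoidScheme S)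

/-- An invariant affine open. -/
structure InvAff where
  /-- the open -/
  W : G.U.Opens
  aff : IsAffineOpen W
  inv : G.s ⁻¹ᵁ W = G.t ⁻¹ᵁ W

instance : Preorder (InvAff G) := Preorder.lift InvAff.W

variable {G}

instance (W : InvAff G) : IsAffine W.W.toScheme := W.aff

/-- The groupoid over an invariant affine open. -/
abbrev InvAff.grpd (W : InvAff G) : Grpd.GroupoidScheme S := restrict G W.W W.inv

theorem InvAff.mem_iff (W : InvAff G) (r : G.R) : G.s r ∈ W.W ↔ G.t r ∈ W.W :=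
  SetLike.ext_iff.1 W.inv r

theorem InvAff.le_def {W W' : InvAff G} : W ≤ W' ↔ W.W ≤ W'.W := Iff.rfl

variable [IsFinite G.s] [Flat G.s] [LocallyOfFinitePresentation G.s]

instance (W : InvAff G) : IsFinite W.grpd.s := IsZariskiLocalAtTarget.restrict (P := @IsFinite) ‹_› _
instance (W : InvAff G) : Flat W.grpd.s := IsZariskiLocalAtTarget.restrict (P := @Flat) ‹_› _
instance (W : InvAff G) : LocallyOfFinitePresentation W.grpd.s :=
  IsZariskiLocalAtTarget.restrict (P := @LocallyOfFinitePresentation) ‹_› _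
instance (W : InvAff G) : IsAffine W.grpd.R := W.aff.preimage G.s

/-- The quotient of an invariant affine open. -/
abbrev InvAff.quot (W : InvAff G) : Scheme.{u} := Spec (CommRingCat.of W.grpd.invariants)

/-- The quotient map of an invariant affine open. -/
abbrev InvAff.π (W : InvAff G) : W.W.toScheme ⟶ W.quot := W.grpd.toQuot

theorem InvAff.isQuot (W : InvAff G) : IsQuot (G.s ∣_ W.W) (restrictT G W.W W.inv) W.π :=
  AffGpd.isQuot_toQuot W.grpd

omit [IsFinite G.s] [Flat G.s] [LocallyOfFinitePresentation G.s] in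
theorem ι_restrictT_apply (W : InvAff G) (r : (G.s ⁻¹ᵁ W.W).toScheme) :
    W.W.ι (restrictT G W.W W.inv r) = G.t r.1 := by
  rw [← Scheme.Hom.comp_apply, restrictT_ι, Scheme.Hom.comp_apply]
  rfl

omit [IsFinite G.s] [Flat G.s] [LocallyOfFinitePresentation G.s] in
theorem ι_restrictS_apply (W : InvAff G) (r : (G.s ⁻¹ᵁ W.W).toScheme) :
    W.W.ι ((G.s ∣_ W.W) r) = G.s r.1 := by
  rw [← Scheme.Hom.comp_apply, morphismRestrict_ι, Scheme.Hom.comp_apply]
  rfl

theorem InvAff.π_eq_iff (W : InvAff G) (a b : W.W.toScheme) :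
    W.π a = W.π b ↔ ∃ r : G.R, G.t r = a.1 ∧ G.s r = b.1 := by
  constructor
  · intro h
    obtain ⟨r, h1, h2⟩ := W.isQuot.fibre a b h
    exact ⟨r.1, (ι_restrictT_apply W r).symm.trans (congrArg W.W.ι h1),
      (ι_restrictS_apply W r).symm.trans (congrArg W.W.ι h2)⟩
  · rintro ⟨r, h1, h2⟩
    let r' : (G.s ⁻¹ᵁ W.W).toScheme := ⟨r, show G.s r ∈ W.W from h2 ▸ b.2⟩
    have ea : restrictT G W.W W.inv r' = a :=
      W.W.ι.isOpenEmbedding.injective ((ι_restrictT_apply W r').trans h1)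
    have eb : (G.s ∣_ W.W) r' = b :=
      W.W.ι.isOpenEmbedding.injective ((ι_restrictS_apply W r').trans h2)
    rw [← ea, ← eb, ← Scheme.Hom.comp_apply, W.isQuot.w, Scheme.Hom.comp_apply]

section Transition

variable {W W' : InvAff G} (h : W ≤ W')

theorem exists_map : ∃ f : W.quot ⟶ W'.quot, W.π ≫ f = G.U.homOfLE h ≫ W'.π := by
  refine W.isQuot.exists_desc (G.U.homOfLE h ≫ W'.π) ?_
  let jR := G.R.homOfLE (show G.s ⁻¹ᵁ W.W ≤ G.s ⁻¹ᵁ W'.W from fun r hr => h hr)
  have et : restrictT G W.W W.inv ≫ G.U.homOfLE h = jR ≫ restrictT G W'.W W'.inv := by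
    rw [← cancel_mono W'.W.ι, Category.assoc, Category.assoc, Scheme.homOfLE_ι, restrictT_ι, restrictT_ι,
      arrowsι, arrowsι, ← Category.assoc, Scheme.homOfLE_ι]
  have es : (G.s ∣_ W.W) ≫ G.U.homOfLE h = jR ≫ (G.s ∣_ W'.W) := by
    rw [← cancel_mono W'.W.ι, Category.assoc, Category.assoc, Scheme.homOfLE_ι, morphismRestrict_ι,
      morphismRestrict_ι, ← Category.assoc, Scheme.homOfLE_ι]
  rw [reassoc_of% et, reassoc_of% es, W'.isQuot.w]

/-- The transition map. -/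
def map : W.quot ⟶ W'.quot := (exists_map h).choose

theorem π_map : W.π ≫ map h = G.U.homOfLE h ≫ W'.π := (exists_map h).choose_spec

theorem π_map_apply (a : W.W.toScheme) : map h (W.π a) = W'.π ⟨a.1, h a.2⟩ := by
  rw [← Scheme.Hom.comp_apply, π_map, Scheme.Hom.comp_apply]
  congr 1
  exact W'.W.ι.isOpenEmbedding.injective (by rw [← Scheme.Hom.comp_apply, Scheme.homOfLE_ι]; rfl)

instance isOpenImmersion_map : IsOpenImmersion (map h) := by
  let jU := G.U.homOfLE h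
  let O : W'.quot.Opens := ⟨⇑W'.π '' Set.range jU,
    W'.isQuot.isOpen _ jU.isOpenEmbedding.isOpen_range⟩
  have hsub : Set.range (jU ≫ W'.π) ⊆ Set.range O.ι := by
    rintro _ ⟨x, rfl⟩
    rw [Scheme.Opens.range_ι, Scheme.Hom.comp_apply]
    exact ⟨_, ⟨x, rfl⟩, rfl⟩
  let p' : W.W.toScheme ⟶ O.toScheme := IsOpenImmersion.lift O.ι (jU ≫ W'.π) hsub
  have hp : p' ≫ O.ι = jU ≫ W'.π := IsOpenImmersion.lift_fac _ _ _
  let jR := G.R.homOfLE (show G.s ⁻¹ᵁ W.W ≤ G.s ⁻¹ᵁ W'.W from fun r hr => h hr)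
  have hjU : ∀ a : W'.W.toScheme, a ∈ Set.range jU ↔ a.1 ∈ W.W := by
    intro a
    constructor
    · rintro ⟨x, rfl⟩
      have e : W'.W.ι (jU x) = W.W.ι x := by rw [← Scheme.Hom.comp_apply, Scheme.homOfLE_ι]
      change W'.W.ι (jU x) ∈ W.W
      rw [e]
      exact x.2
    · intro ha
      exact ⟨⟨a.1, ha⟩, W'.W.ι.isOpenEmbedding.injective (by
        rw [← Scheme.Hom.comp_apply, Scheme.homOfLE_ι]; rfl)⟩
  have hR : Set.range jR = ⇑(G.s ∣_ W'.W) ⁻¹' Set.range jU := by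
    ext r
    rw [Set.mem_preimage, hjU]
    change r ∈ Set.range jR ↔ W'.W.ι ((G.s ∣_ W'.W) r) ∈ W.W
    rw [ι_restrictS_apply]
    constructor
    · rintro ⟨x, rfl⟩
      have e : (G.s ⁻¹ᵁ W'.W).ι (jR x) = (G.s ⁻¹ᵁ W.W).ι x := by
        rw [← Scheme.Hom.comp_apply, Scheme.homOfLE_ι]
      change G.s ((G.s ⁻¹ᵁ W'.W).ι (jR x)) ∈ W.W
      rw [e]
      exact x.2
    · intro hr
      exact ⟨⟨r.1, hr⟩, (G.s ⁻¹ᵁ W'.W).ι.isOpenEmbedding.injective (by
        rw [← Scheme.Hom.comp_apply, Scheme.homOfLE_ι]; rfl)⟩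
  have hq : IsQuot (G.s ∣_ W.W) (restrictT G W.W W.inv) p' := by
    refine W'.isQuot.restrict (jR := jR) (jY := O.ι) (jU := jU) ?_ ?_ hR hp ?_
    · rw [← cancel_mono W'.W.ι, Category.assoc, Category.assoc, Scheme.homOfLE_ι, morphismRestrict_ι,
        morphismRestrict_ι, ← Category.assoc, Scheme.homOfLE_ι]
    · rw [← cancel_mono W'.W.ι, Category.assoc, Category.assoc, Scheme.homOfLE_ι, restrictT_ι,
        restrictT_ι, arrowsι, arrowsι, ← Category.assoc, Scheme.homOfLE_ι]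
    · ext a
      rw [Set.mem_preimage, Scheme.Opens.range_ι]
      constructor
      · intro ha
        exact ⟨a, ha, rfl⟩
      · rintro ⟨b, hb, hba⟩
        rw [hjU] at hb ⊢
        obtain ⟨r, h1, h2⟩ := (W'.π_eq_iff b a).1 hba
        exact h2 ▸ (W.mem_iff r).2 (h1 ▸ hb)
  obtain ⟨e, he⟩ := hq.exists_iso W.isQuot.nonempty_isColimit.some
  have : map h = e.inv ≫ O.ι := by
    refine W.isQuot.epi ?_
    rw [π_map, ← hp, ← he, Category.assoc, Iso.hom_inv_id_assoc]
  rw [this]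
  infer_instance

end Transition

variable (G)

/-- The affine quotients as a diagram. -/
def diagram : InvAff G ⥤ Scheme.{u} where
  obj W := W.quot
  map {W W'} f := map f.le
  map_id W := W.isQuot.epi (by rw [π_map, Scheme.homOfLE_rfl]; simp)
  map_comp {W W' W''} f g := W.isQuot.epi (by
    rw [π_map, ← Category.assoc, π_map, Category.assoc, π_map, Scheme.homOfLE_homOfLE_assoc])

instance {W W' : InvAff G} (f : W ⟶ W') : IsOpenImmersion ((diagram G).map f) :=
  isOpenImmersion_map f.le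

/-- The hypothesis: every orbit is contained in an affine open. -/
def OrbitsInAffine : Prop :=
  ∀ x : G.U, ∃ V : G.U.Opens, IsAffineOpen V ∧ G.t.base '' (G.s.base ⁻¹' {x}) ⊆ (V : Set G.U)

variable {G}

theorem exists_le_le (W₁ W₂ : InvAff G) (u : G.U) (h₁ : u ∈ W₁.W) (h₂ : u ∈ W₂.W) :
    ∃ W : InvAff G, W ≤ W₁ ∧ W ≤ W₂ ∧ u ∈ W.W := by
  obtain ⟨W, hW, hu, hle, hinv⟩ := exists_invariant_affineOpen G u W₁.W W₁.aff
    (fun r hr => (W₁.mem_iff r).1 (hr ▸ h₁)) W₂.W W₂.inv h₂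
  exact ⟨⟨W, hW, hinv⟩, hle.trans inf_le_left, hle.trans inf_le_right, hu⟩

instance : (diagram G ⋙ Scheme.forget).IsLocallyDirected where
  cond {i j k} fi fj xi xj h := by
    change map fi.le xi = map fj.le xj at h
    obtain ⟨a, rfl⟩ := i.isQuot.surj xi
    obtain ⟨b, rfl⟩ := j.isQuot.surj xj
    rw [π_map_apply, π_map_apply, InvAff.π_eq_iff] at h
    obtain ⟨r, h1, h2⟩ := h
    have haj : a.1 ∈ j.W := h1 ▸ (j.mem_iff r).1 (h2 ▸ b.2)
    obtain ⟨l, hli, hlj, hal⟩ := exists_le_le i j a.1 a.2 haj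
    refine ⟨l, homOfLE hli, homOfLE hlj, l.π ⟨a.1, hal⟩, ?_, ?_⟩
    · change map hli (l.π _) = _
      rw [π_map_apply]
      rfl
    · change map hlj (l.π _) = _
      rw [π_map_apply, InvAff.π_eq_iff]
      exact ⟨r, h1, h2⟩

variable (G)

/-- **The quotient scheme.** -/
def quotient : Scheme.{u} := colimit (diagram G)

variable {G}

/-- The charts of the quotient. -/
def ι (W : InvAff G) : W.quot ⟶ quotient G := colimit.ι (diagram G) W

instance (W : InvAff G) : IsOpenImmersion (ι W) :=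
  inferInstanceAs (IsOpenImmersion ((Scheme.IsLocallyDirected.openCover (diagram G)).f W))

theorem map_ι {W W' : InvAff G} (h : W ≤ W') : map h ≫ ι W' = ι W :=
  colimit.w (diagram G) (homOfLE h)

theorem compat (W W' : InvAff G) {T : Scheme.{u}} (a : T ⟶ W.W.toScheme) (b : T ⟶ W'.W.toScheme)
    (h : a ≫ W.W.ι = b ≫ W'.W.ι) : a ≫ W.π ≫ ι W = b ≫ W'.π ≫ ι W' := by
  refine Scheme.hom_ext_of_forall _ _ fun z => ?_
  obtain ⟨W'', h1, h2, hz⟩ := exists_le_le W W' ((a ≫ W.W.ι) z)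
    (by rw [Scheme.Hom.comp_apply]; exact (a z).2)
    (by rw [h, Scheme.Hom.comp_apply]; exact (b z).2)
  let O := (a ≫ W.W.ι) ⁻¹ᵁ W''.W
  refine ⟨O, hz, ?_⟩
  let c : O.toScheme ⟶ W''.W.toScheme := (a ≫ W.W.ι) ∣_ W''.W
  have ea : O.ι ≫ a = c ≫ G.U.homOfLE h1 := by
    rw [← cancel_mono W.W.ι, Category.assoc, Category.assoc, Scheme.homOfLE_ι, morphismRestrict_ι]
  have eb : O.ι ≫ b = c ≫ G.U.homOfLE h2 := by
    rw [← cancel_mono W'.W.ι, Category.assoc, Category.assoc, Scheme.homOfLE_ι, morphismRestrict_ι, ← h]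
  rw [reassoc_of% ea, reassoc_of% eb, ← reassoc_of% π_map h1, ← reassoc_of% π_map h2, map_ι, map_ι]

variable (hb : OrbitsInAffine G)

include hb in
theorem exists_mem (x : G.U) : ∃ W : InvAff G, x ∈ W.W := by
  obtain ⟨V, hV, hx⟩ := hb x
  obtain ⟨W, hW, hu, -, hinv⟩ := exists_invariant_affineOpen G x V hV
    fun r hr => hx ⟨r, hr, rfl⟩
  exact ⟨⟨W, hW, hinv⟩, hu⟩

/-- The cover of the objects by invariant affine opens. -/
abbrev cover : G.U.OpenCover where
  I₀ := G.U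
  X x := (exists_mem hb x).choose.W.toScheme
  f x := (exists_mem hb x).choose.W.ι
  mem₀ := by
    rw [Scheme.presieve₀_mem_precoverage_iff]
    exact ⟨fun x => ⟨x, ⟨⟨x, (exists_mem hb x).choose_spec⟩, rfl⟩⟩, fun x => inferInstance⟩

/-- **The quotient map.** -/
def p : G.U ⟶ quotient G :=
  (cover hb).glueMorphisms (fun x => (exists_mem hb x).choose.π ≫ ι _)
    fun _ _ => compat _ _ _ _ pullback.condition

theorem ι_p (W : InvAff G) : W.W.ι ≫ p hb = W.π ≫ ι W := by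
  refine Scheme.Cover.hom_ext ((cover hb).pullback₁ W.W.ι) _ _ fun x => ?_
  change pullback.fst W.W.ι (exists_mem hb x).choose.W.ι ≫ W.W.ι ≫ p hb =
    pullback.fst W.W.ι (exists_mem hb x).choose.W.ι ≫ W.π ≫ ι W
  rw [pullback.condition_assoc,
    compat W (exists_mem hb x).choose _ _ pullback.condition]
  congr 1
  exact (cover hb).ι_glueMorphisms _ _ x

theorem p_apply (W : InvAff G) (x : G.U) (hx : x ∈ W.W) : p hb x = ι W (W.π ⟨x, hx⟩) := by
  rw [← Scheme.Hom.comp_apply, ← ι_p hb, Scheme.Hom.comp_apply]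
  rfl

theorem preimage_range_ι (W : InvAff G) : ⇑(p hb) ⁻¹' Set.range (ι W) = (W.W : Set G.U) := by
  ext x
  constructor
  · rintro ⟨y, hy⟩
    obtain ⟨W', hx⟩ := exists_mem hb x
    obtain ⟨a, rfl⟩ := W.isQuot.surj y
    rw [p_apply hb W' x hx] at hy
    obtain ⟨k, fi, fj, w, h1, h2⟩ := (Scheme.IsLocallyDirected.ι_eq_ι_iff (diagram G)).1 hy
    obtain ⟨c, rfl⟩ := k.isQuot.surj w
    change map fj.le _ = _ at h2
    rw [π_map_apply, InvAff.π_eq_iff] at h2
    obtain ⟨r, hr1, hr2⟩ := h2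
    have : G.t r ∈ W.W := hr1 ▸ fi.le c.2
    have hs := (W.mem_iff r).2 this
    rwa [hr2] at hs
  · intro hx
    exact ⟨_, (p_apply hb W x hx).symm⟩

theorem isPullback_ι (W : InvAff G) : IsPullback W.W.ι W.π (p hb) (ι W) :=
  (IsOpenImmersion.isPullback _ _ _ _ (ι_p hb W) (TopologicalSpace.Opens.ext (by
    rw [Scheme.Opens.opensRange_ι]; exact preimage_range_ι hb W))).flip

omit hb in
theorem ι_jointly_surjective (y : quotient G) : ∃ (W : InvAff G) (z : W.quot), ι W z = y :=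
  Scheme.IsLocallyDirected.ι_jointly_surjective (diagram G) y

theorem w : G.t ≫ p hb = G.s ≫ p hb := by
  refine Scheme.hom_ext_of_forall _ _ fun r => ?_
  obtain ⟨W, hW⟩ := exists_mem hb (G.s r)
  refine ⟨G.s ⁻¹ᵁ W.W, hW, ?_⟩
  rw [← reassoc_of% restrictT_ι G W.W W.inv, ← morphismRestrict_ι_assoc G.s W.W, ι_p,
    reassoc_of% W.isQuot.w]

/-- **The quotient is a geometric quotient.** -/
theorem isQuot : IsQuot G.s G.t (p hb) := by
  refine IsQuot.of_openCover (w hb) ?_ ?_ ?_ ?_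
  · intro y
    obtain ⟨W, z, rfl⟩ := ι_jointly_surjective y
    obtain ⟨a, rfl⟩ := W.isQuot.surj z
    exact ⟨a.1, p_apply hb W a.1 a.2⟩
  · intro O hO
    have e : ⇑(p hb) '' O = ⋃ W : InvAff G, ⇑(ι W) '' (⇑W.π '' (⇑W.W.ι ⁻¹' O)) := by
      ext y
      simp only [Set.mem_iUnion, Set.mem_image, Set.mem_preimage]
      constructor
      · rintro ⟨x, hx, rfl⟩
        obtain ⟨W, hW⟩ := exists_mem hb x
        exact ⟨W, _, ⟨⟨x, hW⟩, hx, rfl⟩, (p_apply hb W x hW).symm⟩
      · rintro ⟨W, _, ⟨a, ha, rfl⟩, rfl⟩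
        exact ⟨a.1, ha, p_apply hb W a.1 a.2⟩
    rw [e]
    exact isOpen_iUnion fun W => (ι W).isOpenEmbedding.isOpenMap _
      (W.isQuot.isOpen _ (hO.preimage W.W.ι.continuous))
  · intro u v e
    obtain ⟨W, hu⟩ := exists_mem hb u
    have hv : v ∈ W.W := by
      rw [← SetLike.mem_coe, ← preimage_range_ι hb W, Set.mem_preimage, ← e, p_apply hb W u hu]
      exact ⟨_, rfl⟩
    rw [p_apply hb W u hu, p_apply hb W v hv] at e
    exact (W.π_eq_iff ⟨u, hu⟩ ⟨v, hv⟩).1 ((ι W).isOpenEmbedding.injective e)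
  · intro y
    obtain ⟨W, z, rfl⟩ := ι_jointly_surjective y
    refine ⟨Set.range (ι W), (ι W).isOpenEmbedding.isOpen_range, ⟨z, rfl⟩, fun V hV hsub w hw => ?_⟩
    obtain ⟨z', rfl⟩ := hsub hw
    obtain ⟨U₂, V₂, kY, kU, q, hd, hz', hsub'⟩ :=
      W.isQuot.basis _ (hV.preimage (ι W).continuous) z' hw
    refine ⟨U₂, V₂, kY ≫ ι W, kU ≫ W.W.ι, q, ?_, ?_, ?_⟩
    · exact hd.extend (jR := arrowsι G W.W) (morphismRestrict_ι _ _) (restrictT_ι G W.W W.inv)
        (ι_p hb W).symm (by rw [Scheme.Opens.range_ι]; exact (preimage_range_ι hb W).symm)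
    · obtain ⟨v, rfl⟩ := hz'
      exact ⟨v, Scheme.Hom.comp_apply _ _ _⟩
    · rintro _ ⟨v, rfl⟩
      rw [Scheme.Hom.comp_apply]
      exact hsub' ⟨v, rfl⟩

instance isIntegralHom_π (W : InvAff G) : IsIntegralHom W.π := by
  have : IsIntegralHom (Spec.map (CommRingCat.ofHom W.grpd.invariants.subtype)) := by
    rw [IsIntegralHom.SpecMap_iff]
    exact (AffGpd.ofScheme W.grpd).isIntegral.isIntegral
  have : IsIso W.grpd.U.toSpecΓ := W.grpd.U.isoSpec.isIso_hom
  exact inferInstanceAs (IsIntegralHom (W.grpd.U.toSpecΓ ≫ _))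

theorem isIntegralHom_p : IsIntegralHom (p hb) := by
  refine IsZariskiLocalAtTarget.of_openCover (P := @IsIntegralHom)
    (Scheme.IsLocallyDirected.openCover (diagram G)) fun W => ?_
  change IsIntegralHom (pullback.snd (p hb) (ι W))
  rw [← (isPullback_ι hb W).isoPullback_inv_snd]
  infer_instance

theorem surjective_lift : Function.Surjective (pullback.lift G.t G.s (w hb)) := by
  intro z
  let P := pullback (p hb) (p hb)
  let k := AlgebraicClosure (P.residueField z)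
  let x : Spec (CommRingCat.of k) ⟶ P :=
    Spec.map (CommRingCat.ofHom (algebraMap (P.residueField z) k)) ≫ P.fromSpecResidueField z
  have hx : ∀ c, x c = z := fun c => by
    rw [Scheme.Hom.comp_apply]
    exact Scheme.fromSpecResidueField_apply _ _
  let c : Spec (CommRingCat.of k) := IsLocalRing.closedPoint k
  obtain ⟨W, hW⟩ := exists_mem hb ((x ≫ pullback.fst _ _) c)
  have h0 : Set.range (x ≫ pullback.fst _ _) ⊆ Set.range W.W.ι := by
    rintro _ ⟨d, rfl⟩
    rw [Scheme.Opens.range_ι, Scheme.Hom.comp_apply, hx, ← hx c, ← Scheme.Hom.comp_apply]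
    exact hW
  have h1 : Set.range (x ≫ pullback.snd _ _) ⊆ Set.range W.W.ι := by
    rintro _ ⟨d, rfl⟩
    rw [Scheme.Opens.range_ι, ← preimage_range_ι hb W, Set.mem_preimage, ← Scheme.Hom.comp_apply,
      Category.assoc, ← pullback.condition, ← Category.assoc, Scheme.Hom.comp_apply]
    refine (preimage_range_ι hb W).symm.subset ?_
    rw [← Scheme.Opens.range_ι]
    exact h0 ⟨d, rfl⟩
  let x₀ := IsOpenImmersion.lift W.W.ι _ h0
  let x₁ := IsOpenImmersion.lift W.W.ι _ h1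
  have e₀ : x₀ ≫ W.W.ι = x ≫ pullback.fst _ _ := IsOpenImmersion.lift_fac _ _ _
  have e₁ : x₁ ≫ W.W.ι = x ≫ pullback.snd _ _ := IsOpenImmersion.lift_fac _ _ _
  have e : x₀ ≫ W.π = x₁ ≫ W.π := by
    rw [← cancel_mono (ι W), Category.assoc, Category.assoc, ← ι_p hb, reassoc_of% e₀, reassoc_of% e₁,
      pullback.condition]
  obtain ⟨r, hrt, hrs⟩ := (AffGpd.point_eq_iff W.grpd k x₀ x₁).1 e
  have hr : (r ≫ arrowsι G W.W) ≫ pullback.lift G.t G.s (w hb) = x := by
    apply pullback.hom_ext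
    · rw [Category.assoc, pullback.lift_fst, Category.assoc, ← restrictT_ι G W.W W.inv, reassoc_of% hrt, e₀]
    · rw [Category.assoc, pullback.lift_snd, Category.assoc, ← morphismRestrict_ι, reassoc_of% hrs, e₁]
  exact ⟨(r ≫ arrowsι G W.W) c, by rw [← Scheme.Hom.comp_apply, hr, hx]⟩

include hb in
theorem isAffine_quotient [IsAffine G.U] : IsAffine (quotient G) := by
  let W : InvAff G := ⟨⊤, isAffineOpen_top _, rfl⟩
  have : Surjective (ι W) := ⟨fun y => by
    obtain ⟨x, rfl⟩ := (isQuot hb).surj y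
    exact ⟨_, (p_apply hb W x trivial).symm⟩⟩
  have : IsIso (ι W) := (isIso_iff_isOpenImmersion_and_surjective _).2 ⟨inferInstance, this⟩
  exact IsAffine.of_isIso (inv (ι W))

end Groth.GrpdQuotient
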