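import Mathlib
import Groth.Prelude.Def_Grpd
import Groth.Agent.GitQuot.GrpdQuotient
import Groth.Agent.GitQuot.GrpdMonoAffine

/-!
# The quotient of a finite locally free equivalence relation
-/

set_option autoImplicit false

universe u

open AlgebraicGeometry CategoryTheory CategoryTheory.Limits

noncomputable section

namespace Groth.GrpdQuotient

open Groth.GrpdBasic

variable {S : Scheme.{u}} {G : Grpd.GroupoidScheme S}
  [IsFinite G.s] [Flat G.s] [LocallyOfFinitePresentation G.s] [Mono G.j] (hb : OrbitsInAffine G)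

omit [IsFinite G.s] [Flat G.s] [LocallyOfFinitePresentation G.s] in
theorem hom_ext_arrows {T : Scheme.{u}} {f g : T ⟶ G.R} (ht : f ≫ G.t = g ≫ G.t) (hs : f ≫ G.s = g ≫ G.s) :
    f = g := by
  rw [← cancel_mono G.j]
  apply pullback.hom_ext
  · rw [Category.assoc, Category.assoc, Grpd.GroupoidScheme.j, pullback.lift_fst]; exact ht
  · rw [Category.assoc, Category.assoc, Grpd.GroupoidScheme.j, pullback.lift_snd]; exact hs

instance (W : InvAff G) : Mono W.grpd.j := by
  constructor
  intro T f g h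
  have hf := congrArg (· ≫ pullback.fst _ _) h
  have hs := congrArg (· ≫ pullback.snd _ _) h
  simp only [Category.assoc, Grpd.GroupoidScheme.j, pullback.lift_fst, pullback.lift_snd] at hf hs
  rw [← cancel_mono (arrowsι G W.W)]
  refine hom_ext_arrows ?_ ?_
  · have := congrArg (· ≫ W.W.ι) hf
    simp only [Category.assoc] at this
    rw [Category.assoc, Category.assoc, ← restrictT_ι G W.W W.inv]
    exact this
  · have := congrArg (· ≫ W.W.ι) hs
    simp only [Category.assoc] at this
    rw [Category.assoc, Category.assoc, ← morphismRestrict_ι]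
    exact this

theorem exists_arrow {T : Scheme.{u}} (a b : T ⟶ G.U) (h : a ≫ p hb = b ≫ p hb) :
    ∃ r : T ⟶ G.R, r ≫ G.t = a ∧ r ≫ G.s = b := by
  have hW : ∀ x : T, ∃ W : InvAff G, a x ∈ W.W := fun x => exists_mem hb _
  choose W hW using hW
  let 𝒰 : T.OpenCover :=
    { I₀ := T
      X := fun x => (a ⁻¹ᵁ (W x).W).toScheme
      f := fun x => (a ⁻¹ᵁ (W x).W).ι
      mem₀ := by
        rw [Scheme.presieve₀_mem_precoverage_iff]
        exact ⟨fun x => ⟨x, ⟨⟨x, hW x⟩, rfl⟩⟩, fun x => inferInstance⟩ }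
  have hloc : ∀ x, ∃ r : 𝒰.X x ⟶ G.R, r ≫ G.t = 𝒰.f x ≫ a ∧ r ≫ G.s = 𝒰.f x ≫ b := by
    intro x
    have hb' : Set.range (𝒰.f x ≫ b) ⊆ Set.range (W x).W.ι := by
      rintro _ ⟨y, rfl⟩
      rw [Scheme.Opens.range_ι, ← preimage_range_ι hb (W x), Set.mem_preimage, ← Scheme.Hom.comp_apply,
        Category.assoc, ← h, ← Category.assoc, Scheme.Hom.comp_apply]
      refine (preimage_range_ι hb (W x)).symm.subset ?_
      rw [Scheme.Hom.comp_apply]
      exact y.2
    let a' : 𝒰.X x ⟶ (W x).W.toScheme := a ∣_ (W x).W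
    let b' := IsOpenImmersion.lift (W x).W.ι _ hb'
    have ea : a' ≫ (W x).W.ι = 𝒰.f x ≫ a := morphismRestrict_ι _ _
    have eb : b' ≫ (W x).W.ι = 𝒰.f x ≫ b := IsOpenImmersion.lift_fac _ _ _
    have e : a' ≫ (W x).π = b' ≫ (W x).π := by
      rw [← cancel_mono (ι (W x)), Category.assoc, Category.assoc, ← ι_p hb, reassoc_of% ea,
        reassoc_of% eb, h]
    have hp := (AffGpd.mono_toQuot (W x).grpd).2
    refine ⟨hp.lift a' b' e ≫ arrowsι G (W x).W, ?_, ?_⟩
    · rw [Category.assoc, ← restrictT_ι G (W x).W (W x).inv, ← Category.assoc, hp.lift_fst, ea]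
    · rw [Category.assoc, ← morphismRestrict_ι, ← Category.assoc, hp.lift_snd, eb]
  choose r hrt hrs using hloc
  refine ⟨𝒰.glueMorphisms r fun x y => hom_ext_arrows ?_ ?_, ?_, ?_⟩
  · simp only [Category.assoc, hrt]
    exact pullback.condition_assoc _
  · simp only [Category.assoc, hrs]
    exact pullback.condition_assoc _
  · refine Scheme.Cover.hom_ext 𝒰 _ _ fun x => ?_
    rw [← Category.assoc, 𝒰.ι_glueMorphisms]
    exact hrt x
  · refine Scheme.Cover.hom_ext 𝒰 _ _ fun x => ?_
    rw [← Category.assoc, 𝒰.ι_glueMorphisms]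
    exact hrs x

theorem isPullback : IsPullback G.t G.s (p hb) (p hb) := by
  refine ⟨⟨w hb⟩, ⟨PullbackCone.IsLimit.mk _ (fun c => (exists_arrow hb c.fst c.snd c.condition).choose)
    (fun c => (exists_arrow hb c.fst c.snd c.condition).choose_spec.1)
    (fun c => (exists_arrow hb c.fst c.snd c.condition).choose_spec.2)
    fun c m h₁ h₂ => hom_ext_arrows ?_ ?_⟩⟩
  · exact h₁.trans (exists_arrow hb c.fst c.snd c.condition).choose_spec.1.symm
  · exact h₂.trans (exists_arrow hb c.fst c.snd c.condition).choose_spec.2.symm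

omit [Mono G.j] in
theorem of_π (P : MorphismProperty Scheme.{u}) [IsZariskiLocalAtTarget P]
    (h : ∀ W : InvAff G, P W.π) : P (p hb) := by
  refine IsZariskiLocalAtTarget.of_openCover (P := P)
    (Scheme.IsLocallyDirected.openCover (diagram G)) fun W => ?_
  change P (pullback.snd (p hb) (ι W))
  rw [← (isPullback_ι hb W).isoPullback_inv_snd, P.cancel_left_of_respectsIso]
  exact h W

theorem finLocFree :
    IsFinite (p hb) ∧ Flat (p hb) ∧ LocallyOfFinitePresentation (p hb) :=
  ⟨of_π hb @IsFinite fun W => (AffGpd.mono_toQuot W.grpd).1.1,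
    of_π hb @Flat fun W => (AffGpd.mono_toQuot W.grpd).1.2.1,
    of_π hb @LocallyOfFinitePresentation fun W => (AffGpd.mono_toQuot W.grpd).1.2.2⟩

end Groth.GrpdQuotient
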