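import Mathlib
import Groth.Prelude.Def_Grpd

/-!
# Groupoid schemes from jointly monic pairs
-/

set_option autoImplicit false

universe u

open AlgebraicGeometry CategoryTheory CategoryTheory.Limits

noncomputable section

namespace Groth.GrpdBasic

/-- For a jointly monic pair `(t, s)` the axioms only concern source and target. -/
@[reducible] def ofMono {S U R : Scheme.{u}} (pU : U ⟶ S) (pR : R ⟶ S) (s t : R ⟶ U)
    (hs : s ≫ pU = pR) (ht : t ≫ pU = pR)
    (hj : ∀ {T : Scheme.{u}} {a b : T ⟶ R}, a ≫ t = b ≫ t → a ≫ s = b ≫ s → a = b)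
    (e : U ⟶ R) (i : R ⟶ R) (c : pullback s t ⟶ R) (hes : e ≫ s = 𝟙 U) (het : e ≫ t = 𝟙 U)
    (his : i ≫ s = t) (hit : i ≫ t = s) (hcs : c ≫ s = pullback.snd s t ≫ s)
    (hct : c ≫ t = pullback.fst s t ≫ t) : Grpd.GroupoidScheme S where
  U := U
  R := R
  pU := pU
  pR := pR
  s := s
  t := t
  e := e
  i := i
  c := c
  s_over := hs
  t_over := ht
  comp_s α β h := by rw [Category.assoc, hcs, pullback.lift_snd_assoc]
  comp_t α β h := by rw [Category.assoc, hct, pullback.lift_fst_assoc]
  assoc α β γ h₁ h₂ := hj
    (by simp only [Category.assoc, hct, pullback.lift_fst_assoc])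
    (by simp only [Category.assoc, hcs, pullback.lift_snd_assoc])
  e_s := hes
  e_t := het
  comp_e α := hj (by simp only [Category.assoc, hct, pullback.lift_fst_assoc])
    (by simp only [Category.assoc, hcs, pullback.lift_snd_assoc, hes, Category.comp_id])
  e_comp α := hj (by simp only [Category.assoc, hct, pullback.lift_fst_assoc, het, Category.comp_id])
    (by simp only [Category.assoc, hcs, pullback.lift_snd_assoc])
  i_s := his
  i_t := hit
  comp_i α := hj (by simp only [Category.assoc, hct, pullback.lift_fst_assoc, het, Category.comp_id])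
    (by simp only [Category.assoc, hcs, pullback.lift_snd_assoc, his, hes, Category.comp_id])
  i_comp α := hj (by simp only [Category.assoc, hct, pullback.lift_fst_assoc, hit, het, Category.comp_id])
    (by simp only [Category.assoc, hcs, pullback.lift_snd_assoc, hes, Category.comp_id])

theorem mono_j_of_hom_ext {S : Scheme.{u}} (G : Grpd.GroupoidScheme S)
    (hj : ∀ {T : Scheme.{u}} {a b : T ⟶ G.R}, a ≫ G.t = b ≫ G.t → a ≫ G.s = b ≫ G.s → a = b) : Mono G.j := by
  constructor
  intro T a b h
  have h1 := congrArg (· ≫ pullback.fst _ _) h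
  have h2 := congrArg (· ≫ pullback.snd _ _) h
  simp only [Category.assoc, Grpd.GroupoidScheme.j, pullback.lift_fst, pullback.lift_snd] at h1 h2
  exact hj h1 h2

end Groth.GrpdBasic
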