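import Mathlib
import Groth.Prelude.Def_MoreMor
import Groth.Agent.FlatMor2.IndQuasiAffine
import Groth.Agent.S7389

/-!
# Finite sets of points in affine opens
-/

set_option autoImplicit false

universe u

open AlgebraicGeometry CategoryTheory CategoryTheory.Limits

namespace Groth.GitQuot

/-- A finite set in a scheme separated and locally quasi-finite over an affine scheme lies in an affine open. -/
theorem exists_affineOpen_of_finite {X Y : Scheme.{u}} [IsAffine Y] (f : X ⟶ Y) [IsSeparated f]
    [LocallyQuasiFinite f] [LocallyOfFiniteType f] (E : Set X) (hE : E.Finite) :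
    ∃ V : X.Opens, IsAffineOpen V ∧ E ⊆ (V : Set X) := by
  obtain ⟨U, -, hEU, hU⟩ := Groth.FlatMor2.exists_isCompact_open_between hE.isCompact (W := ⊤) (by simp)
  have hf := (Groth.FlatMor2.isIndQuasiAffineHom_def (f := f)).1
    Groth.FlatMor2.isIndQuasiAffineHom_of_separated_locallyQuasiFinite
  have : (U : Scheme.{u}).IsQuasiAffine := hf ⊤ (isAffineOpen_top Y) U (fun x _ => trivial) hU
  obtain ⟨V, hV, hEV⟩ := Groth.Agent.S7389.result (U : Scheme.{u}).toSpecΓ (⇑U.ι ⁻¹' E)
    (hE.preimage U.ι.isOpenEmbedding.injective.injOn)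
  refine ⟨U.ι ''ᵁ V, hV.image_of_isOpenImmersion U.ι, fun x hx => ?_⟩
  exact ⟨⟨x, hEU hx⟩, hEV hx, rfl⟩

end Groth.GitQuot
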