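import Mathlib
import Groth.Prelude.Def_QuotSh

/-!
# Recognition of quotient sheaves of schemes
-/

set_option autoImplicit false

universe u

open CategoryTheory CategoryTheory.Limits AlgebraicGeometry Opposite

noncomputable section

namespace Groth.QuotSheaf

variable (K : Precoverage Scheme.{u}) {S : Scheme.{u}}

/-- `V ↦ h_V`. -/
abbrev repFunctor : Over S ⥤ QuotSh.Sh K S :=
  (yoneda ⋙ (Functor.whiskeringRight _ _ _).obj uliftFunctor.{u + 1, u}) ⋙ presheafToSheaf (QuotSh.J K S) (Type (u + 1))

theorem repFunctor_map {V W : Over S} (g : V ⟶ W) : (repFunctor K).map g = QuotSh.repMap K g := rfl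

variable {R U M : Over S} {s t : R ⟶ U} {q : U ⟶ M}

/-- **Recognition of the quotient sheaf.** -/
theorem isQuotient_of_epi (w : s ≫ q = t ≫ q) (w' : t.left ≫ q.left = s.left ≫ q.left)
    (h₂ : Epi (QuotSh.repMap K q)) {P : Over S} {a b : P ⟶ U}
    (hP : IsPullback a.left b.left q.left q.left) (e : R ⟶ P) (hea : e ≫ a = t) (heb : e ≫ b = s)
    (h₃ : Epi (QuotSh.repMap K e)) : QuotSh.IsQuotient K s t q := by
  have hP' : IsPullback a b q q :=
    IsPullback.of_map (Over.forget S) (Over.OverMorphism.ext hP.w) hP
  have hk : IsPullback ((repFunctor K).map a) ((repFunctor K).map b) (QuotSh.repMap K q) (QuotSh.repMap K q) :=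
    hP'.map (repFunctor K)
  have : Epi (QuotSh.repMap K q) := h₂
  have : IsRegularEpi (QuotSh.repMap K q) := IsRegularEpiCategory.regularEpiOfEpi _
  let hc := IsKernelPair.toCoequalizer'
    (show IsKernelPair (QuotSh.repMap K q) ((repFunctor K).map a) ((repFunctor K).map b) from hk)
  have hab : (repFunctor K).map a ≫ QuotSh.quotπ K s t = (repFunctor K).map b ≫ QuotSh.quotπ K s t := by
    have : Epi ((repFunctor K).map e) := h₃
    rw [← cancel_epi ((repFunctor K).map e), ← Functor.map_comp_assoc, ← Functor.map_comp_assoc, hea, heb,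
      repFunctor_map, repFunctor_map]
    exact (QuotSh.quot_condition K s t).symm
  let inv : QuotSh.rep K M ⟶ QuotSh.quot K s t := hc.desc (Cofork.ofπ _ hab)
  have hinv : QuotSh.repMap K q ≫ inv = QuotSh.quotπ K s t :=
    hc.fac (Cofork.ofπ _ hab) WalkingParallelPair.one
  have hdesc : QuotSh.quotπ K s t ≫ QuotSh.quotDesc K q w = QuotSh.repMap K q := coequalizer.π_desc _ _
  refine ⟨w, ⟨inv, ?_, ?_⟩⟩
  · refine coequalizer.hom_ext ?_
    change QuotSh.quotπ K s t ≫ QuotSh.quotDesc K q w ≫ inv = QuotSh.quotπ K s t ≫ 𝟙 _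
    rw [reassoc_of% hdesc, hinv, Category.comp_id]
  · rw [← cancel_epi (QuotSh.repMap K q), reassoc_of% hinv, hdesc, Category.comp_id]

/-- An fppf covering morphism gives an epimorphism of fppf sheaves. -/
theorem epi_repMap {V W : Over S} (f : V ⟶ W) [Surjective f.left] [Flat f.left]
    [LocallyOfFinitePresentation f.left] : Epi (QuotSh.repMap Scheme.fppfPrecoverage f) := by
  have hloc : Presheaf.IsLocallySurjective (QuotSh.J Scheme.fppfPrecoverage S)
      (Functor.whiskerRight (yoneda.map f) uliftFunctor.{u + 1, u}) := by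
    constructor
    intro T x
    rw [GrothendieckTopology.mem_over_iff]
    refine GrothendieckTopology.superset_covering _ ?_
      (Precoverage.generate_mem_toGrothendieck
        (pullback.fst x.down.left f.left).singleton_mem_fppfPrecoverage)
    rw [Sieve.generate_le_iff]
    rintro _ _ ⟨⟩
    rw [Sieve.overEquiv_iff]
    refine ⟨⟨Over.homMk (pullback.snd x.down.left f.left) ?_⟩, ?_⟩
    · change pullback.snd x.down.left f.left ≫ V.hom = pullback.fst x.down.left f.left ≫ T.hom
      rw [← Over.w f, ← pullback.condition_assoc, Over.w]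
    · apply ULift.ext
      apply Over.OverMorphism.ext
      exact pullback.condition.symm
  have : Sheaf.IsLocallySurjective (QuotSh.repMap Scheme.fppfPrecoverage f) :=
    (Presheaf.isLocallySurjective_presheafToSheaf_map_iff _ _).2 hloc
  infer_instance

end Groth.QuotSheaf
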