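import Groth.Agent.GitQuot.Hilbert

/-!
# Orbits of rational points in coaction form
-/

set_option autoImplicit false

universe u v

open TensorProduct WithConv
open Groth

noncomputable section

namespace Groth.GitQuot

theorem exists_point {k : Type u} [Field k] [IsAlgClosed k] {B : Type v} [CommRing B] [Algebra k B]
    [Algebra.FiniteType k B] (I : Ideal B) (hI : I ≠ ⊤) : ∃ g : B →ₐ[k] k, I ≤ RingHom.ker g := by
  obtain ⟨m, hm, hIm⟩ := I.exists_le_maximal hI
  have hfin : Module.Finite k (B ⧸ m) :=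
    letI : Field (B ⧸ m) := Ideal.Quotient.field m
    finite_of_finite_type_of_isJacobsonRing k (B ⧸ m)
  have hbij : Function.Bijective (algebraMap k (B ⧸ m)) :=
    letI : Field (B ⧸ m) := Ideal.Quotient.field m
    IsAlgClosed.algebraMap_bijective_of_isIntegral
  let e := AlgEquiv.ofBijective (Algebra.ofId k (B ⧸ m)) hbij
  refine ⟨e.symm.toAlgHom.comp (Ideal.Quotient.mkₐ k m), fun b hb => ?_⟩
  have : Ideal.Quotient.mkₐ k m b = 0 := Ideal.Quotient.eq_zero_iff_mem.2 (hIm hb)
  rw [RingHom.mem_ker, AlgHom.comp_apply, this, map_zero]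

theorem isNilpotent_of_forall_point {k : Type u} [Field k] [IsAlgClosed k] {B : Type v} [CommRing B]
    [Algebra k B] [Algebra.FiniteType k B] (b : B) (h : ∀ g : B →ₐ[k] k, g b = 0) : IsNilpotent b := by
  have : IsJacobsonRing B := isJacobsonRing_of_finiteType (A := k) (B := B)
  have hmem : b ∈ (Ideal.radical (⊥ : Ideal B)).jacobson := by
    refine Ideal.mem_sInf.2 ?_
    rintro m ⟨-, hm⟩
    obtain ⟨g, hg⟩ := exists_point (k := k) m hm.ne_top
    rw [hm.eq_of_le (RingHom.ker_ne_top g) hg]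
    exact h g
  rw [isJacobsonRing_iff.1 this _ (Ideal.radical_isRadical (⊥ : Ideal B))] at hmem
  obtain ⟨n, hn⟩ := hmem
  exact ⟨n, (Submodule.mem_bot B).1 hn⟩

variable {k : Type u} [Field k] {A : Type v} [CommRing A] [Bialgebra k A]
  {R : Type v} [CommRing R] [Algebra k R] [HopfRep.Comod k A R] [GLin.IsCoactAlg k A R]

theorem dual_orbitHom (x : R →ₐ[k] k) (φ : A →ₗ[k] k) (f : R) :
    φ (GLin.orbitHom k A x f) = x (ComodLib.op φ f) := by
  rw [ComodLib.op_apply]
  change φ ((Algebra.TensorProduct.lid k A) ((Algebra.TensorProduct.map x (AlgHom.id k A))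
    (HopfRep.Comod.coact (k := k) (A := A) f))) = _
  induction HopfRep.Comod.coact (k := k) (A := A) f using TensorProduct.induction_on with
  | zero => simp
  | add a b ha hb => simp [map_add, ha, hb]
  | tmul a b => simp [mul_comm]

theorem apply_act (x : R →ₐ[k] k) (g : A →ₐ[k] k) (f : R) :
    x (HopfRep.Comod.act k A R g f) = g (GLin.orbitHom k A x f) :=
  (dual_orbitHom x g.toLinearMap f).symm

theorem isSubcomod_ker_orbitHom (x : R →ₐ[k] k) :
    HopfRep.IsSubcomod (k := k) (A := A)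
      ((RingHom.ker (GLin.orbitHom k A x)).restrictScalars k) := by
  rw [ComodLib.isSubcomod_iff]
  intro φ f hf
  rw [Submodule.restrictScalars_mem, RingHom.mem_ker] at hf ⊢
  refine (Module.forall_dual_apply_eq_zero_iff k _).1 fun ψ => ?_
  rw [dual_orbitHom]
  have := ComodLib.op_mul (toConv ψ) (toConv φ) f
  simp only [WithConv.ofConv_toConv] at this
  rw [← this, ← dual_orbitHom, hf, map_zero]

theorem apply_eq_orbitHom_counit (x : R →ₐ[k] k) (f : R) :
    x f = Coalgebra.counit (R := k) (A := A) (GLin.orbitHom k A x f) := by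
  rw [dual_orbitHom, ComodLib.op_counit]

theorem ker_orbitHom_le (x : R →ₐ[k] k) : RingHom.ker (GLin.orbitHom k A x) ≤ RingHom.ker x :=
  fun f hf => by
    rw [RingHom.mem_ker] at hf ⊢
    rw [apply_eq_orbitHom_counit (A := A), hf, map_zero]

theorem sub_mem_ker_orbitHom (x : R →ₐ[k] k) {f : R} (hf : f ∈ HopfRep.fixedPts k A R) :
    f - algebraMap k R (x f) ∈ RingHom.ker (GLin.orbitHom k A x) := by
  rw [RingHom.mem_ker, map_sub, AlgHom.commutes, sub_eq_zero]
  refine (Module.forall_dual_apply_eq_zero_iff k _).1 (fun ψ => ?_) |> sub_eq_zero.1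
  rw [map_sub, dual_orbitHom, op_of_fixed hf, map_smul, Algebra.algebraMap_eq_smul_one, map_smul,
    smul_eq_mul, smul_eq_mul, mul_comm, sub_self]

variable [IsAlgClosed k] [Algebra.FiniteType k A]

theorem le_ker_iff (x z : R →ₐ[k] k) :
    RingHom.ker (GLin.orbitHom k A x) ≤ RingHom.ker z ↔
      ∀ f : R, (∀ g : A →ₐ[k] k, x (HopfRep.Comod.act k A R g f) = 0) → z f = 0 := by
  refine ⟨fun h f hf => ?_, fun h f hf => h f fun g => ?_⟩
  · obtain ⟨m, hm⟩ := isNilpotent_of_forall_point (GLin.orbitHom k A x f)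
      fun g => (apply_act x g f).symm.trans (hf g)
    have : z (f ^ m) = 0 := h (show f ^ m ∈ RingHom.ker (GLin.orbitHom k A x) by
      rw [RingHom.mem_ker, map_pow, hm])
    rw [map_pow] at this
    exact eq_zero_of_pow_eq_zero this
  · rw [apply_act, RingHom.mem_ker.1 hf, map_zero]

theorem invariant_eq_of_le (x z : R →ₐ[k] k)
    (h : RingHom.ker (GLin.orbitHom k A x) ≤ RingHom.ker z) {f : R} (hf : f ∈ HopfRep.fixedPts k A R) :
    z f = x f := by
  have := h (sub_mem_ker_orbitHom (A := A) x hf)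
  rw [RingHom.mem_ker, map_sub, AlgHom.commutes, sub_eq_zero] at this
  simpa using this

theorem exists_common_point [Algebra.FiniteType k R] (hG : HopfRep.IsLinearlyReductive k A)
    (x y : R →ₐ[k] k) (h : ∀ f ∈ HopfRep.fixedPts k A R, x f = y f) :
    ∃ z : R →ₐ[k] k, RingHom.ker (GLin.orbitHom k A x) ≤ RingHom.ker z ∧
      RingHom.ker (GLin.orbitHom k A y) ≤ RingHom.ker z := by
  by_cases hne : RingHom.ker (GLin.orbitHom k A x) ⊔ RingHom.ker (GLin.orbitHom k A y) = ⊤
  · exfalso
    let U : Bool → Submodule k R := fun c => (RingHom.ker (GLin.orbitHom k A (cond c x y))).restrictScalars k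
    have hU : ∀ c, HopfRep.IsSubcomod (k := k) (A := A) (U c) := fun c => isSubcomod_ker_orbitHom _
    have h1 : (1 : R) ∈ (⨆ c, U c) ⊓ HopfRep.fixedPts k A R := by
      refine ⟨?_, ?_⟩
      · have : (1 : R) ∈ RingHom.ker (GLin.orbitHom k A x) ⊔ RingHom.ker (GLin.orbitHom k A y) := by
          rw [hne]; exact Submodule.mem_top
        obtain ⟨a, ha, b, hb, hab⟩ := Submodule.mem_sup.1 this
        rw [← hab]
        exact add_mem (Submodule.mem_iSup_of_mem true ha) (Submodule.mem_iSup_of_mem false hb)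
      · exact GLin.IsCoactAlg.coact_one.trans Algebra.TensorProduct.one_def
    rw [iSup_inf_fixedPts hG U hU, iSup_bool_eq] at h1
    obtain ⟨a, ⟨ha, ha'⟩, b, ⟨hb, hb'⟩, hab⟩ := Submodule.mem_sup.1 h1
    have e1 : x a = 0 := ker_orbitHom_le x ha
    have e2 : y b = 0 := ker_orbitHom_le y hb
    have e3 := congrArg x hab
    rw [map_add, e1, h b hb', e2, add_zero, map_one] at e3
    exact zero_ne_one e3
  · obtain ⟨z, hz⟩ := exists_point (k := k) _ hne
    exact ⟨z, le_sup_left.trans hz, le_sup_right.trans hz⟩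

theorem exists_point_over [Algebra.FiniteType k R] (hG : HopfRep.IsLinearlyReductive k A) {I : Ideal R}
    (hI : HopfRep.IsSubcomod (k := k) (A := A) (I.restrictScalars k))
    (S : Subalgebra k R) (hS : ∀ f, f ∈ S ↔ f ∈ HopfRep.fixedPts k A R)
    (φ : S →ₐ[k] k) (hφ : ∀ f : S, (f : R) ∈ I → φ f = 0) :
    ∃ x : R →ₐ[k] k, (∀ f ∈ I, x f = 0) ∧ ∀ f : S, x (f : R) = φ f := by
  obtain ⟨E, hE⟩ := exists_reynolds (V := R) hG
  let P : R →ₗ[k] S := E.codRestrict S.toSubmodule fun r => (hS _).2 (hE.apply_mem r)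
  have hP1 : P 1 = 1 := Subtype.ext ((hE.fixed _).2
    (GLin.IsCoactAlg.coact_one.trans Algebra.TensorProduct.one_def))
  let M : Ideal R := (RingHom.ker φ).map S.val.toRingHom
  have hM : ∀ z ∈ M, ∀ r : R, φ (P (r * z)) = 0 := by
    intro z hz
    induction hz using Submodule.span_induction with
    | mem w hw =>
      intro r
      obtain ⟨i, hi, rfl⟩ := hw
      have he : P (r * S.val.toRingHom i) = P r * i :=
        Subtype.ext (hE.map_mul GLin.IsCoactAlg.coact_mul hG r ((hS _).1 i.2))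
      rw [he, map_mul, RingHom.mem_ker.1 hi, mul_zero]
    | zero => intro r; rw [mul_zero, map_zero, map_zero]
    | add u w _ _ hu hw => intro r; rw [mul_add, map_add, map_add, hu, hw, add_zero]
    | smul c u _ hu => intro r; rw [smul_eq_mul, ← mul_assoc]; exact hu _
  have hne : M ⊔ I ≠ ⊤ := by
    intro htop
    have : (1 : R) ∈ M ⊔ I := by rw [htop]; exact Submodule.mem_top
    obtain ⟨a, ha, b, hb, hab⟩ := Submodule.mem_sup.1 this
    have e := congrArg (fun r => φ (P r)) hab
    simp only [map_add, hP1, map_one] at e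
    rw [← one_mul a, hM a ha 1, hφ (P b) (hE.apply_mem_of_mem hG hI hb), add_zero] at e
    exact zero_ne_one e
  obtain ⟨x, hx⟩ := exists_point (k := k) _ hne
  refine ⟨x, fun f hf => hx (Ideal.mem_sup_right hf), fun f => ?_⟩
  have : (f - algebraMap k S (φ f) : S) ∈ RingHom.ker φ := by simp [RingHom.mem_ker]
  have h := hx (Ideal.mem_sup_left (Ideal.mem_map_of_mem S.val.toRingHom this))
  simpa [RingHom.mem_ker, sub_eq_zero] using h

theorem apply_actPt (x : R →ₐ[k] k) (g : A →ₐ[k] k) (f : R) :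
    GLin.actPt k g x f = x (HopfRep.Comod.act k A R g f) := (apply_act x g f).symm

theorem ker_orbitHom_mono (x z : R →ₐ[k] k)
    (h : RingHom.ker (GLin.orbitHom k A x) ≤ RingHom.ker z) :
    RingHom.ker (GLin.orbitHom k A x) ≤ RingHom.ker (GLin.orbitHom k A z) := by
  intro f hf
  refine (Module.forall_dual_apply_eq_zero_iff k _).1 fun ψ => ?_
  rw [dual_orbitHom]
  exact h ((ComodLib.isSubcomod_iff _).1 (isSubcomod_ker_orbitHom x) ψ f hf)

theorem ker_orbitHom_le_actPt (x : R →ₐ[k] k) (g : A →ₐ[k] k) :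
    RingHom.ker (GLin.orbitHom k A x) ≤ RingHom.ker (GLin.actPt k g x) := fun f hf => by
  change g (GLin.orbitHom k A x f) = 0
  rw [RingHom.mem_ker.1 hf, map_zero]

end Groth.GitQuot

namespace Groth.GitQuot

variable {k : Type u} [Field k] [IsAlgClosed k] {A : Type v} [CommRing A] [HopfAlgebra k A]
  [Algebra.FiniteType k A]
  {R : Type v} [CommRing R] [Algebra k R] [HopfRep.Comod k A R] [GLin.IsCoactAlg k A R]
  [Algebra.FiniteType k R]

/-- the product of two points of the group -/
def pointMul (g h : A →ₐ[k] k) : A →ₐ[k] k :=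
  (Algebra.TensorProduct.lift g h fun _ _ => Commute.all _ _).comp (Bialgebra.comulAlgHom k A)

/-- the inverse of a point of the group -/
def pointInv (g : A →ₐ[k] k) : A →ₐ[k] k := g.comp (HopfAlgebra.antipodeAlgHom k A)

omit [IsAlgClosed k] [Algebra.FiniteType k A] [Algebra.FiniteType k R] [GLin.IsCoactAlg k A R] in
theorem act_act (g h : A →ₐ[k] k) (f : R) :
    HopfRep.Comod.act k A R g (HopfRep.Comod.act k A R h f) =
      HopfRep.Comod.act k A R (pointMul g h) f := by
  change ComodLib.op g.toLinearMap (ComodLib.op h.toLinearMap f) = ComodLib.op (pointMul g h).toLinearMap f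
  have := ComodLib.op_mul (toConv g.toLinearMap) (toConv h.toLinearMap) f
  rw [← this]
  congr 1
  congr 1
  ext a
  change LinearMap.mul' k k (TensorProduct.map g.toLinearMap h.toLinearMap (Coalgebra.comul a)) = _
  simp only [pointMul, AlgHom.toLinearMap_apply, AlgHom.comp_apply, Bialgebra.comulAlgHom_apply]
  induction Coalgebra.comul (R := k) a using TensorProduct.induction_on with
  | zero => simp
  | add p q hp hq => simp [map_add, hp, hq]
  | tmul p q => simp

omit [IsAlgClosed k] [Algebra.FiniteType k A] in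
theorem pointMul_pointInv (g : A →ₐ[k] k) : pointMul g (pointInv g) = Bialgebra.counitAlgHom k A := by
  ext a
  simp only [pointMul, pointInv, AlgHom.comp_apply, Bialgebra.comulAlgHom_apply, Bialgebra.counitAlgHom_apply]
  let ℛ := Coalgebra.Repr.arbitrary k a
  rw [← ℛ.eq, map_sum]
  have := congrArg g (HopfAlgebra.sum_mul_antipode_eq_smul ℛ)
  simpa [map_sum] using this

omit [Algebra.FiniteType k A] [Algebra.FiniteType k R] [IsAlgClosed k] [GLin.IsCoactAlg k A R] in
theorem act_pointInv (g : A →ₐ[k] k) (f : R) :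
    HopfRep.Comod.act k A R g (HopfRep.Comod.act k A R (pointInv g) f) = f := by
  rw [act_act, pointMul_pointInv]
  exact ComodLib.op_counit f

/-- a point whose orbit closure is minimal has a closed orbit -/
theorem exists_act_eq_of_minimal (y z : R →ₐ[k] k)
    (hmin : ∀ w : R →ₐ[k] k, RingHom.ker (GLin.orbitHom k A y) ≤ RingHom.ker w →
      RingHom.ker (GLin.orbitHom k A w) ≤ RingHom.ker (GLin.orbitHom k A y))
    (hz : RingHom.ker (GLin.orbitHom k A y) ≤ RingHom.ker z) :
    ∃ g : A →ₐ[k] k, ∀ f : R, z f = y (HopfRep.Comod.act k A R g f) := by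
  classical
  set φ := GLin.orbitHom k A y with hφ
  have hNR : IsNoetherianRing R := Algebra.FiniteType.isNoetherianRing k R
  have hfp : φ.toRingHom.FinitePresentation := by
    refine RingHom.FinitePresentation.of_finiteType.1 ?_
    exact AlgHom.FiniteType.of_comp_finiteType (f := Algebra.ofId k R) (g := φ)
      (by rw [show φ.comp (Algebra.ofId k R) = Algebra.ofId k A from Subsingleton.elim _ _]
          exact RingHom.finiteType_algebraMap.2 inferInstance)
  obtain ⟨D, hD⟩ := PrimeSpectrum.exists_constructibleSetData_iff.2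
    (PrimeSpectrum.isConstructible_range_comap hfp)
  obtain ⟨P, hPmin⟩ : ((RingHom.ker φ).minimalPrimes).Nonempty := by
    refine Set.nonempty_coe_sort.1 (Ideal.nonempty_minimalPrimes fun e => ?_)
    have h1 : (1 : R) ∈ RingHom.ker φ := by rw [e]; exact Submodule.mem_top
    have := ker_orbitHom_le (A := A) y h1
    rw [RingHom.mem_ker, map_one] at this
    exact one_ne_zero this
  have hPp : P.IsPrime := hPmin.isPrime
  obtain ⟨Q, hQp, -, hQ⟩ := Ideal.exists_comap_eq_of_mem_minimalPrimes φ.toRingHom (I := ⊥) P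
    (by rwa [← RingHom.ker_eq_comap_bot])
  have hPmem : (⟨P, hPp⟩ : PrimeSpectrum R) ∈ D.toSet := by
    rw [hD]; exact ⟨⟨Q, hQp⟩, PrimeSpectrum.ext hQ⟩
  simp only [PrimeSpectrum.ConstructibleSetData.toSet, Set.mem_iUnion] at hPmem
  obtain ⟨C, hCD, hPg, hPf⟩ := hPmem
  -- an element outside `P` lying in all other minimal primes
  let others := ((Ideal.finite_minimalPrimes_of_isNoetherianRing R (RingHom.ker φ)).toFinset.erase P)
  have hnle : ¬ others.inf id ≤ P := by
    rw [Ideal.IsPrime.inf_le' hPp]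
    rintro ⟨P', hP', hle⟩
    rw [Finset.mem_erase, Set.Finite.mem_toFinset] at hP'
    exact hP'.1 (le_antisymm hle (hPmin.2 ⟨hP'.2.isPrime, hP'.2.1.2⟩ hle))
  obtain ⟨u, hu, huP⟩ := SetLike.not_le_iff_exists.1 hnle
  have hfP : C.f ∉ P := fun h => hPf (by simpa [PrimeSpectrum.mem_zeroLocus] using h)
  have hzy : RingHom.ker (GLin.orbitHom k A z) ≤ P :=
    (hmin z hz).trans hPmin.1.2
  obtain ⟨g₁, hg₁⟩ : ∃ g : A →ₐ[k] k, g (GLin.orbitHom k A z (C.f * u)) ≠ 0 := by
    by_contra hno
    push Not at hno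
    obtain ⟨m, hm⟩ := isNilpotent_of_forall_point _ hno
    have : (C.f * u) ^ m ∈ P := hzy (by rw [RingHom.mem_ker, map_pow, hm])
    exact (hPp.mul_mem_iff_mem_or_mem.1 (hPp.mem_of_pow_mem m this)).elim hfP huP
  let z' := GLin.actPt k g₁ z
  have hz'y : RingHom.ker φ ≤ RingHom.ker z' :=
    (ker_orbitHom_mono y z hz).trans (ker_orbitHom_le_actPt z g₁)
  have hz'u : z' (C.f * u) ≠ 0 := hg₁
  have hPz' : P ≤ RingHom.ker z' := by
    intro p hp
    have hmem : u * p ∈ (RingHom.ker φ).radical := by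
      rw [← Ideal.sInf_minimalPrimes, Ideal.mem_sInf]
      intro P' hP'
      by_cases he : P' = P
      · exact he ▸ P.mul_mem_left u hp
      · exact Ideal.mul_mem_right _ _ (Finset.inf_le (f := id)
          (Finset.mem_erase.2 ⟨he, (Set.Finite.mem_toFinset _).2 hP'⟩) hu)
    obtain ⟨m, hm⟩ := hmem
    have h0 := RingHom.mem_ker.1 (hz'y hm)
    rw [map_pow, map_mul] at h0
    refine RingHom.mem_ker.2 ((mul_eq_zero.1 (eq_zero_of_pow_eq_zero h0)).resolve_left fun h => hz'u ?_)
    rw [map_mul, h, mul_zero]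
  have hker : (RingHom.ker z').IsMaximal :=
    RingHom.ker_isMaximal_of_surjective z' fun c => ⟨algebraMap k R c, by simp⟩
  have hz'range : (⟨RingHom.ker z', hker.isPrime⟩ : PrimeSpectrum R) ∈
      Set.range (PrimeSpectrum.comap φ.toRingHom) := by
    rw [← hD]
    simp only [PrimeSpectrum.ConstructibleSetData.toSet, Set.mem_iUnion]
    refine ⟨C, hCD, fun x hx => hPz' (hPg hx), ?_⟩
    simp only [PrimeSpectrum.mem_zeroLocus, Set.singleton_subset_iff, SetLike.mem_coe, RingHom.mem_ker]
    exact fun h => hz'u (by rw [map_mul, h, zero_mul])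
  obtain ⟨⟨Q', hQ'p⟩, hQ'⟩ := hz'range
  obtain ⟨g', hg'⟩ := exists_point (k := k) Q' hQ'p.ne_top
  have hz'g : z' = GLin.actPt k g' y := by
    ext f
    have hmem : f - algebraMap k R (z' f) ∈ RingHom.ker z' := by simp [RingHom.mem_ker]
    have h2 : φ (f - algebraMap k R (z' f)) ∈ Q' := by
      have hmem' : f - algebraMap k R (z' f) ∈
          (PrimeSpectrum.comap φ.toRingHom ⟨Q', hQ'p⟩).asIdeal := by rw [hQ']; exact hmem
      exact hmem'
    have h3 := RingHom.mem_ker.1 (hg' h2)
    rw [map_sub, map_sub, AlgHom.commutes, AlgHom.commutes, sub_eq_zero] at h3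
    exact h3.symm
  refine ⟨pointMul g' (pointInv g₁), fun f => ?_⟩
  rw [← act_act, ← apply_actPt, ← hz'g, apply_actPt, act_pointInv]

theorem exists_closed_orbit_in_fibre (hG : HopfRep.IsLinearlyReductive k A) (x : R →ₐ[k] k) :
    ∃ y : R →ₐ[k] k,
      (∀ z : R →ₐ[k] k, RingHom.ker (GLin.orbitHom k A y) ≤ RingHom.ker z →
          ∃ g : A →ₐ[k] k, ∀ f : R, z f = y (HopfRep.Comod.act k A R g f)) ∧
      (∀ x' : R →ₐ[k] k, (∀ f ∈ HopfRep.fixedPts k A R, x' f = x f) →
          RingHom.ker (GLin.orbitHom k A x') ≤ RingHom.ker y) ∧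
      ∀ f ∈ HopfRep.fixedPts k A R, y f = x f := by
  have hNR : IsNoetherianRing R := Algebra.FiniteType.isNoetherianRing k R
  let T : Set (Ideal R) := {J | ∃ y : R →ₐ[k] k, (∀ f ∈ HopfRep.fixedPts k A R, y f = x f) ∧
    RingHom.ker (GLin.orbitHom k A y) = J}
  obtain ⟨J, ⟨y, hy, rfl⟩, hmax⟩ := set_has_maximal_iff_noetherian.2 hNR T ⟨_, x, fun _ _ => rfl, rfl⟩
  have hmin : ∀ w : R →ₐ[k] k, RingHom.ker (GLin.orbitHom k A y) ≤ RingHom.ker w →
      RingHom.ker (GLin.orbitHom k A w) ≤ RingHom.ker (GLin.orbitHom k A y) := by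
    intro w hw
    have hle := ker_orbitHom_mono y w hw
    by_contra hlt
    exact hmax _ ⟨w, fun f hf => (invariant_eq_of_le y w hw hf).trans (hy f hf), rfl⟩
      (lt_of_le_not_ge hle hlt)
  refine ⟨y, fun z hz => exists_act_eq_of_minimal y z hmin hz, fun x' hx' => ?_, hy⟩
  obtain ⟨z, hzx, hzy⟩ := exists_common_point hG x' y fun f hf => (hx' f hf).trans (hy f hf).symm
  exact ((ker_orbitHom_mono x' z hzx).trans (hmin z hzy)).trans (ker_orbitHom_le y)

end Groth.GitQuot
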