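import Groth.Agent.GitQuot.Orbits

/-!
# Linear coactions: degrees, semistability, the numerical function
-/

set_option autoImplicit false

universe u

open TensorProduct LaurentPolynomial
open Groth

noncomputable section

namespace Groth.GitQuot

variable {k : Type u} [Field k] {A : Type u} [CommRing A] [Bialgebra k A]
  {ι : Type u} [HopfRep.Comod k A (MvPolynomial ι k)] [GLin.IsCoactAlg k A (MvPolynomial ι k)]

theorem isSubcomod_homogeneous [Fintype ι] (hlin : GLin.IsLinear k A ι) (n : ℕ) :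
    HopfRep.IsSubcomod (k := k) (A := A) (MvPolynomial.homogeneousSubmodule ι k n) := by
  have h1 : HopfRep.IsSubcomod (k := k) (A := A) (MvPolynomial.homogeneousSubmodule ι k 1) := by
    rw [MvPolynomial.homogeneousSubmodule_one_eq_span_X]
    intro p hp
    induction hp using Submodule.span_induction with
    | mem x hx =>
      obtain ⟨i, rfl⟩ := hx
      obtain ⟨m, hm⟩ := hlin i
      refine ⟨∑ j, (⟨MvPolynomial.X j, Submodule.subset_span ⟨j, rfl⟩⟩ :
        Submodule.span k (Set.range (MvPolynomial.X : ι → MvPolynomial ι k))) ⊗ₜ m j, ?_⟩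
      rw [hm, map_sum]
      rfl
    | zero => rw [map_zero]; exact zero_mem _
    | add x y _ _ hx hy => rw [map_add]; exact add_mem hx hy
    | smul c x _ hx => rw [map_smul]; exact Submodule.smul_mem _ c hx
  rw [← MvPolynomial.homogeneousSubmodule_one_pow]
  exact isSubcomod_one_pow GLin.IsCoactAlg.coact_mul GLin.IsCoactAlg.coact_one h1 n

theorem homogeneousComponent_mem_fixedPts [Fintype ι] (hlin : GLin.IsLinear k A ι) (n : ℕ)
    {F : MvPolynomial ι k} (hF : F ∈ HopfRep.fixedPts k A (MvPolynomial ι k)) :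
    MvPolynomial.homogeneousComponent n F ∈ HopfRep.fixedPts k A (MvPolynomial ι k) := by
  have hhom : Hoch.IsComodHom A (MvPolynomial.homogeneousComponent n : MvPolynomial ι k →ₗ[k] _) := by
    refine (ComodLib.isComodHom_iff _).2 fun φ p => ?_
    rw [← MvPolynomial.sum_homogeneousComponent p]
    simp only [map_sum]
    refine Finset.sum_congr rfl fun j _ => ?_
    have hmem := (ComodLib.isSubcomod_iff _).1 (isSubcomod_homogeneous hlin j) φ _
      (MvPolynomial.homogeneousComponent_mem j p)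
    rw [MvPolynomial.homogeneousComponent_of_mem hmem,
      MvPolynomial.homogeneousComponent_of_mem (MvPolynomial.homogeneousComponent_mem j p)]
    split_ifs <;> simp
  exact map_mem_fixedPts hhom hF

theorem isSemistableVec_iff [Fintype ι] [IsAlgClosed k] [Algebra.FiniteType k A]
    (hG : HopfRep.IsLinearlyReductive k A) (hlin : GLin.IsLinear k A ι) (v : ι → k) :
    GLin.IsSemistableVec k A v ↔
      ¬ GLin.InOrbitClosure k A (GLin.vecPt k ι v) (GLin.vecPt k ι (fun _ => (0 : k))) := by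
  constructor
  · intro hss hc
    apply hss
    intro F hF d hd hFd
    have h := invariant_eq_of_le (GLin.vecPt k ι v) _ hc (f := F) hF
    have h0 : MvPolynomial.aeval (fun _ : ι => (0 : k)) F = 0 := by
      rw [MvPolynomial.aeval_zero', MvPolynomial.constantCoeff_eq]
      have := hFd.coeff_eq_zero (d := 0) (by simp; omega)
      rw [this, map_zero]
    change MvPolynomial.aeval (fun _ : ι => (0 : k)) F = MvPolynomial.aeval v F at h
    rw [h0] at h
    exact h.symm
  · intro hc hnull
    apply hc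
    obtain ⟨z, hz, hz0⟩ := exists_common_point hG (GLin.vecPt k ι v) (GLin.vecPt k ι (fun _ => (0 : k))) (by
      intro F hF
      have key : ∀ n, 0 < n → MvPolynomial.aeval v (MvPolynomial.homogeneousComponent n F) = 0 :=
        fun n hn => hnull _ (homogeneousComponent_mem_fixedPts hlin n hF) n hn
          (MvPolynomial.homogeneousComponent_isHomogeneous n F)
      change MvPolynomial.aeval v F = MvPolynomial.aeval (fun _ : ι => (0 : k)) F
      rw [MvPolynomial.aeval_zero', MvPolynomial.constantCoeff_eq]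
      conv_lhs => rw [← MvPolynomial.sum_homogeneousComponent F]
      rw [map_sum, Finset.sum_range_succ', MvPolynomial.homogeneousComponent_zero]
      rw [Finset.sum_eq_zero (fun n _ => key (n + 1) (Nat.succ_pos n)), zero_add, MvPolynomial.aeval_C])
    -- the origin is fixed, so it is the only point of its orbit closure
    have hfix : ∀ i, GLin.orbitHom k A (GLin.vecPt k ι (fun _ => (0 : k))) (MvPolynomial.X i) = 0 := by
      intro i
      obtain ⟨m, hm⟩ := hlin i
      refine (Module.forall_dual_apply_eq_zero_iff k _).1 fun φ => ?_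
      rw [dual_orbitHom, ComodLib.op_apply, hm, map_sum, map_sum]
      simp
    have hzeq : z = GLin.vecPt k ι (fun _ => (0 : k)) := by
      refine MvPolynomial.algHom_ext fun i => ?_
      rw [RingHom.mem_ker.1 (hz0 (RingHom.mem_ker.2 (hfix i)))]
      simp
    rw [hzeq] at hz
    exact hz

/-- the coordinates of the one-parameter orbit of a vector -/
def lamCoord (lam : A →ₐc[k] k[T;T⁻¹]) (v : ι → k) (i : ι) : k[T;T⁻¹] :=
  GLin.lamOrbit k A lam (GLin.vecPt k ι v) (MvPolynomial.X i)

theorem coeff_toLaurent_nat (p : Polynomial k) (n : ℕ) :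
    (Polynomial.toLaurent p).coeff (n : ℤ) = p.coeff n := by
  rw [LaurentPolynomial.coeff_toLaurent]
  exact Finsupp.mapDomain_apply Nat.castEmbedding.injective _ n

theorem coeff_toLaurent_neg (p : Polynomial k) {n : ℤ} (hn : n < 0) :
    (Polynomial.toLaurent p).coeff n = 0 := by
  rw [LaurentPolynomial.coeff_toLaurent]
  refine Finsupp.mapDomain_notin_range _ _ ?_
  rintro ⟨m, hm⟩
  simp at hm
  omega

theorem exists_polynomial_iff (q : k[T;T⁻¹]) :
    (∃ p : Polynomial k, Polynomial.toLaurent p = q) ↔ ∀ n, n < 0 → q.coeff n = 0 := by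
  refine ⟨?_, fun h => ⟨LaurentPolynomial.trunc q, LaurentPolynomial.ext fun a => ?_⟩⟩
  · rintro ⟨p, rfl⟩ n hn
    exact coeff_toLaurent_neg p hn
  rcases le_or_gt 0 a with ha | ha
  · lift a to ℕ using ha
    rw [coeff_toLaurent_nat]
    simp [LaurentPolynomial.trunc]
  · rw [coeff_toLaurent_neg _ ha, h a ha]

theorem toLaurent_T_mul (q : k[T;T⁻¹]) (m n : ℤ) : (T m * q).coeff n = q.coeff (n - m) := by
  rw [show (T m : k[T;T⁻¹]) = AddMonoidAlgebra.single m (1 : k) from rfl,
    AddMonoidAlgebra.coeff_single_mul_eq_mul_coeff (n - m) (fun a _ => by omega), one_mul]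

/-- a family of Laurent polynomials as a point with polynomial values -/
theorem exists_lift_iff (q : ι → k[T;T⁻¹]) (c : ι → k) :
    (∃ h : MvPolynomial ι k →ₐ[k] Polynomial k,
      (Polynomial.toLaurentAlg (R := k)).comp h = MvPolynomial.aeval q ∧
        (Polynomial.aeval (0 : k)).comp h = MvPolynomial.aeval c) ↔
      (∀ i n, n < 0 → (q i).coeff n = 0) ∧ ∀ i, (q i).coeff 0 = c i := by
  constructor
  · rintro ⟨h, h1, h2⟩
    have e : ∀ i, Polynomial.toLaurent (h (MvPolynomial.X i)) = q i := fun i => by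
      simpa using AlgHom.congr_fun h1 (MvPolynomial.X i)
    refine ⟨fun i => (exists_polynomial_iff _).1 ⟨_, e i⟩, fun i => ?_⟩
    have := AlgHom.congr_fun h2 (MvPolynomial.X i)
    simp only [AlgHom.comp_apply, MvPolynomial.aeval_X] at this
    rw [← this, ← e i, ← Nat.cast_zero, coeff_toLaurent_nat, Polynomial.coeff_zero_eq_aeval_zero]
  · rintro ⟨h1, h2⟩
    choose p hp using fun i => (exists_polynomial_iff _).2 (h1 i)
    refine ⟨MvPolynomial.aeval p, MvPolynomial.algHom_ext fun i => ?_, MvPolynomial.algHom_ext fun i => ?_⟩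
    · simp [hp]
    · simp only [AlgHom.comp_apply, MvPolynomial.aeval_X]
      rw [← h2 i, ← hp i]
      exact (Polynomial.coeff_zero_eq_aeval_zero _).symm.trans (coeff_toLaurent_nat (p i) 0).symm

theorem lamOrbit_eq_aeval (lam : A →ₐc[k] k[T;T⁻¹]) (v : ι → k) :
    GLin.lamOrbit k A lam (GLin.vecPt k ι v) = MvPolynomial.aeval (lamCoord lam v) :=
  MvPolynomial.algHom_ext fun i => by simp [lamCoord]

/-- a point with polynomial values that lifts, in terms of coordinates -/
theorem exists_lift_iff' (q : ι → k[T;T⁻¹]) :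
    (∃ h : MvPolynomial ι k →ₐ[k] Polynomial k,
      (Polynomial.toLaurentAlg (R := k)).comp h = MvPolynomial.aeval q) ↔
      ∀ i n, n < 0 → (q i).coeff n = 0 := by
  refine ⟨fun ⟨h, hh⟩ i => (exists_polynomial_iff _).1 ⟨h (MvPolynomial.X i), ?_⟩, fun h => ?_⟩
  · simpa using AlgHom.congr_fun hh (MvPolynomial.X i)
  · obtain ⟨g, hg, -⟩ := (exists_lift_iff q fun i => (q i).coeff 0).2 ⟨h, fun _ => rfl⟩
    exact ⟨g, hg⟩

variable [Fintype ι]

theorem isMu_iff (lam : A →ₐc[k] k[T;T⁻¹]) (v : ι → k) (m : ℤ) :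
    GLin.IsMu k A lam v m ↔ (∀ i n, n < -m → (lamCoord lam v i).coeff n = 0) ∧
      ∃ i, (lamCoord lam v i).coeff (-m) ≠ 0 := by
  have hq : ∀ i n, (T m * lamCoord lam v i).coeff n = (lamCoord lam v i).coeff (n - m) :=
    fun i n => toLaurent_T_mul _ _ _
  constructor
  · rintro ⟨h, h1, h2⟩
    let c : ι → k := fun i => Polynomial.aeval (0 : k) (h (MvPolynomial.X i))
    obtain ⟨hneg, h0⟩ := (exists_lift_iff (fun i => T m * lamCoord lam v i) c).1
      ⟨h, h1, MvPolynomial.algHom_ext fun i => by simp [c]⟩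
    refine ⟨fun i n hn => ?_, ?_⟩
    · have := hneg i (n + m) (by omega)
      rw [hq, add_sub_cancel_right] at this
      exact this
    · by_contra hno
      push Not at hno
      refine h2 (MvPolynomial.algHom_ext fun i => ?_)
      have := h0 i
      rw [hq, zero_sub, hno i] at this
      simp only [AlgHom.comp_apply, MvPolynomial.aeval_X]
      exact this.symm
  · rintro ⟨hneg, i, hi⟩
    obtain ⟨h, h1, h2⟩ := (exists_lift_iff (fun i => T m * lamCoord lam v i)
      (fun i => (lamCoord lam v i).coeff (-m))).2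
      ⟨fun i n hn => by rw [hq]; exact hneg i _ (by omega), fun i => by rw [hq, zero_sub]⟩
    refine ⟨h, h1, fun e => hi ?_⟩
    rw [h2] at e
    simpa using AlgHom.congr_fun e (MvPolynomial.X i)

theorem exists_lamCoord_ne_zero (lam : A →ₐc[k] k[T;T⁻¹]) {v : ι → k} (hv : v ≠ 0) :
    ∃ i n, (lamCoord lam v i).coeff n ≠ 0 := by
  by_contra hno
  push Not at hno
  refine hv (funext fun i => ?_)
  have h0 : lamCoord lam v i = 0 := LaurentPolynomial.ext fun n => by simpa using hno i n
  have h1 := congrArg (Coalgebra.counit (R := k) (A := k[T;T⁻¹])) h0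
  rw [map_zero] at h1
  have h2 : Coalgebra.counit (R := k) (A := k[T;T⁻¹]) (lamCoord lam v i) =
      Coalgebra.counit (R := k) (A := A) (GLin.orbitHom k A (GLin.vecPt k ι v) (MvPolynomial.X i)) :=
    CoalgHomClass.counit_comp_apply lam _
  rw [h1, ← apply_eq_orbitHom_counit] at h2
  simpa using h2.symm

theorem existsUnique_isMu (lam : A →ₐc[k] k[T;T⁻¹]) {v : ι → k} (hv : v ≠ 0) :
    ∃! m : ℤ, GLin.IsMu k A lam v m := by
  classical
  obtain ⟨i₀, n₀, hn₀⟩ := exists_lamCoord_ne_zero lam hv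
  let S : Finset ℤ := Finset.univ.biUnion fun i => (lamCoord lam v i).coeff.support
  have hS : S.Nonempty := ⟨n₀, Finset.mem_biUnion.2 ⟨i₀, Finset.mem_univ _, Finsupp.mem_support_iff.2 hn₀⟩⟩
  obtain ⟨i, -, hi⟩ := Finset.mem_biUnion.1 (S.min'_mem hS)
  refine ⟨-S.min' hS, ?_, fun m hm => ?_⟩
  · refine (isMu_iff lam v _).2 ⟨fun j n hn => ?_, i, ?_⟩
    · rw [neg_neg] at hn
      by_contra hne
      exact (S.min'_le n (Finset.mem_biUnion.2 ⟨j, Finset.mem_univ _, Finsupp.mem_support_iff.2 hne⟩)).not_gt hn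
    · rw [neg_neg]; exact Finsupp.mem_support_iff.1 hi
  · obtain ⟨h1, j, hj⟩ := (isMu_iff lam v m).1 hm
    have hle := S.min'_le (-m) (Finset.mem_biUnion.2 ⟨j, Finset.mem_univ _, Finsupp.mem_support_iff.2 hj⟩)
    by_contra hne
    exact Finsupp.mem_support_iff.1 hi (h1 i _ (by omega))

theorem limit_trichotomy (lam : A →ₐc[k] k[T;T⁻¹]) {v : ι → k} (hv : v ≠ 0) :
    (¬ GLin.HasLimit k A lam (GLin.vecPt k ι v) ↔ ∃ m : ℤ, GLin.IsMu k A lam v m ∧ 0 < m) ∧
      ((GLin.HasLimit k A lam (GLin.vecPt k ι v) ∧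
          ¬ GLin.IsLimit k A lam (GLin.vecPt k ι v) (GLin.vecPt k ι (fun _ => (0 : k)))) ↔
        GLin.IsMu k A lam v 0) ∧
      (GLin.IsLimit k A lam (GLin.vecPt k ι v) (GLin.vecPt k ι (fun _ => (0 : k))) ↔
        ∃ m : ℤ, GLin.IsMu k A lam v m ∧ m < 0) := by
  obtain ⟨m, hm, huniq⟩ := existsUnique_isMu lam hv
  obtain ⟨hneg, i, hi⟩ := (isMu_iff lam v m).1 hm
  have hlim : GLin.HasLimit k A lam (GLin.vecPt k ι v) ↔ m ≤ 0 := by
    unfold GLin.HasLimit
    rw [lamOrbit_eq_aeval, exists_lift_iff']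
    refine ⟨fun h => ?_, fun h j n hn => hneg j n (by omega)⟩
    by_contra hlt
    exact hi (h i (-m) (by omega))
  have hlim0 : GLin.IsLimit k A lam (GLin.vecPt k ι v) (GLin.vecPt k ι (fun _ => (0 : k))) ↔ m < 0 := by
    unfold GLin.IsLimit
    rw [lamOrbit_eq_aeval, exists_lift_iff]
    refine ⟨fun h => ?_, fun h => ⟨fun j n hn => hneg j n (by omega), fun j => hneg j 0 (by omega)⟩⟩
    by_contra hlt
    rcases lt_or_eq_of_le (not_lt.1 hlt) with h0 | h0
    · exact hi (h.1 i (-m) (by omega))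
    · subst h0; exact hi (by simpa using h.2 i)
  rw [hlim, hlim0]
  refine ⟨⟨fun h => ⟨m, hm, by omega⟩, ?_⟩, ⟨fun h => ?_, ?_⟩, ⟨fun h => ⟨m, hm, h⟩, ?_⟩⟩
  · rintro ⟨m', hm', h'⟩; rw [huniq m' hm'] at h'; omega
  · have : m = 0 := by omega
    exact this ▸ hm
  · intro h0
    have := huniq 0 h0
    omega
  · rintro ⟨m', hm', h'⟩; rwa [huniq m' hm'] at h'

end Groth.GitQuot
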