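import Groth.Agent.GitQuot.GrpdField
import Groth.Agent.GrpschAbsch.FibreTranslate
import Groth.Agent.DescentBase.GeomReduced
import Groth.Agent.PropsBasic2.Reduced
import Mathlib.AlgebraicGeometry.Morphisms.SchemeTheoreticallyDominant

/-!
# The image of a morphism of groupoid schemes over a field
-/

set_option autoImplicit false

universe u

open AlgebraicGeometry CategoryTheory CategoryTheory.Limits

noncomputable section

namespace Groth.GrpdImage

open Groth.GrpdBasic (comp comp_congr)

variable {S : Scheme.{u}} (G : Grpd.GroupoidScheme S)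

/-- A monomorphism stable under unit, inverse and composition gives a subgroupoid. -/
theorem exists_subgroupoid {Z : Scheme.{u}} (z : Z ⟶ G.R) [Mono z]
    (e' : G.U ⟶ Z) (he : e' ≫ z = G.e) (i' : Z ⟶ Z) (hi : i' ≫ z = z ≫ G.i)
    (c' : pullback (z ≫ G.s) (z ≫ G.t) ⟶ Z)
    (hc : c' ≫ z = comp G (pullback.fst _ _ ≫ z) (pullback.snd _ _ ≫ z)
      (by simp only [Category.assoc]; exact pullback.condition)) :
    ∃ (G' : Grpd.GroupoidScheme S) (ψ : Grpd.GroupoidScheme.Hom G' G),
      IsIso ψ.fU ∧ ∃ (e : Z ≅ G'.R), e.hom ≫ ψ.fR = z := by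
  have key : ∀ {T : Scheme.{u}} (α β : T ⟶ Z) (h : α ≫ z ≫ G.s = β ≫ z ≫ G.t),
      (pullback.lift α β h ≫ c') ≫ z = comp G (α ≫ z) (β ≫ z) (by simpa using h) := by
    intro T α β h
    rw [Category.assoc, hc, GrpdBasic.precomp_comp]
    exact comp_congr G _ (by rw [pullback.lift_fst_assoc]) (by rw [pullback.lift_snd_assoc])
  refine ⟨{
    U := G.U, R := Z, pU := G.pU, pR := z ≫ G.pR
    s := z ≫ G.s, t := z ≫ G.t, e := e', i := i', c := c'
    s_over := by rw [Category.assoc, G.s_over]
    t_over := by rw [Category.assoc, G.t_over]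
    comp_s := fun α β h => by
      rw [← Category.assoc, key α β h, comp, G.comp_s, Category.assoc]
    comp_t := fun α β h => by
      rw [← Category.assoc, key α β h, comp, G.comp_t, Category.assoc]
    assoc := fun α β γ h₁ h₂ => by
      refine (cancel_mono z).1 ((key _ γ _).trans (Eq.trans ?_ (key α _ _).symm))
      refine Eq.trans (comp_congr G _ (key α β h₁) rfl)
        ((G.assoc (α ≫ z) (β ≫ z) (γ ≫ z) (by simpa using h₁) (by simpa using h₂)).trans ?_)
      exact comp_congr G _ rfl (key β γ h₂).symm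
    e_s := by rw [← Category.assoc, he, G.e_s]
    e_t := by rw [← Category.assoc, he, G.e_t]
    comp_e := fun α => by
      rw [← cancel_mono z, key]
      refine Eq.trans ?_ (G.comp_e (α ≫ z))
      exact comp_congr G _ rfl (by simp [he])
    e_comp := fun α => by
      rw [← cancel_mono z, key]
      refine Eq.trans ?_ (G.e_comp (α ≫ z))
      exact comp_congr G _ (by simp [he]) rfl
    i_s := by rw [← Category.assoc, hi, Category.assoc, G.i_s]
    i_t := by rw [← Category.assoc, hi, Category.assoc, G.i_t]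
    comp_i := fun α => by
      rw [← cancel_mono z, key]
      refine Eq.trans ?_ ((G.comp_i (α ≫ z)).trans (by simp [he]))
      exact comp_congr G _ rfl (by simp [hi])
    i_comp := fun α => by
      rw [← cancel_mono z, key]
      refine Eq.trans ?_ ((G.i_comp (α ≫ z)).trans (by simp [he]))
      exact comp_congr G _ (by simp [hi]) rfl },
    { fU := 𝟙 _, fR := z
      fU_over := Category.id_comp _
      comm_s := (Category.comp_id _).symm
      comm_t := (Category.comp_id _).symm
      comm_c := fun α β h => key α β h }, inferInstance, Iso.refl _, Category.id_comp _⟩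

/-- A morphism from a reduced scheme landing set-theoretically in a closed subscheme factors. -/
theorem exists_factor_of_range_subset {T Z X : Scheme.{u}} [IsReduced T] (z : Z ⟶ X)
    [IsClosedImmersion z] (φ : T ⟶ X) (h : Set.range φ ⊆ Set.range z) :
    ∃ φ' : T ⟶ Z, φ' ≫ z = φ := by
  have : Surjective (pullback.fst φ z) := by
    refine ⟨fun t => ?_⟩
    obtain ⟨w, hw⟩ := h ⟨t, rfl⟩
    obtain ⟨p, hp, -⟩ := Scheme.Pullback.exists_preimage_pullback (f := φ) (g := z) t w hw.symm
    exact ⟨p, hp⟩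
  have : IsIso (pullback.fst φ z) := isIso_of_isClosedImmersion_of_surjective _
  exact ⟨inv (pullback.fst φ z) ≫ pullback.snd φ z, by
    rw [Category.assoc, ← pullback.condition, IsIso.inv_hom_id_assoc]⟩

/-- A morphism factors through a closed subscheme if it does so on a scheme-theoretically dense part. -/
theorem exists_factor_of_dominant {T' T Z X : Scheme.{u}} (δ : T' ⟶ T)
    [IsSchemeTheoreticallyDominant δ] (z : Z ⟶ X) [IsClosedImmersion z] (φ : T ⟶ X) (l : T' ⟶ Z)
    (h : δ ≫ φ = l ≫ z) : ∃ φ' : T ⟶ Z, φ' ≫ z = φ := by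
  have : IsIso (pullback.fst φ z) := by
    rw [IsClosedImmersion.isIso_iff_ker_eq_bot, eq_bot_iff, ← δ.ker_eq_bot,
      ← pullback.lift_fst δ l h]
    exact Scheme.Hom.le_ker_comp _ _
  exact ⟨inv (pullback.fst φ z) ≫ pullback.snd φ z, by
    rw [Category.assoc, ← pullback.condition, IsIso.inv_hom_id_assoc]⟩

theorem flat_of_field {X B : Scheme.{u}} (k : Type u) [Field k]
    (e : B ≅ Spec (CommRingCat.of k)) (f : X ⟶ B) : Flat f := by
  have := GrpdBasic.subsingleton_of_iso_field k e
  have := GrpdBasic.isIntegral_of_iso_field k e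
  infer_instance

/-- Over a field the product of two scheme-theoretically dominant morphisms is so. -/
theorem isSchemeTheoreticallyDominant_map {X X' Y Y' B : Scheme.{u}} (k : Type u) [Field k]
    (e : B ≅ Spec (CommRingCat.of k)) (f : X' ⟶ B) (g : Y' ⟶ B) (h : X ⟶ X') (l : Y ⟶ Y')
    [IsSchemeTheoreticallyDominant h] [QuasiCompact h]
    [IsSchemeTheoreticallyDominant l] [QuasiCompact l] :
    IsSchemeTheoreticallyDominant (pullback.map (h ≫ f) (l ≫ g) f g h l (𝟙 B) (by simp) (by simp)) := by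
  let δ₁ := pullback.map (h ≫ f) (l ≫ g) f (l ≫ g) h (𝟙 Y) (𝟙 B) (by simp) (by simp)
  let δ₂ := pullback.map f (l ≫ g) f g (𝟙 X') l (𝟙 B) (by simp) (by simp)
  have h₁ : IsPullback (pullback.fst (h ≫ f) (l ≫ g)) δ₁ h (pullback.fst f (l ≫ g)) := by
    refine IsPullback.of_bot ?_ (pullback.lift_fst _ _ _).symm (IsPullback.of_hasPullback f (l ≫ g))
    rw [show δ₁ ≫ pullback.snd f (l ≫ g) = pullback.snd _ _ from (pullback.lift_snd _ _ _).trans (Category.comp_id _)]
    exact IsPullback.of_hasPullback (h ≫ f) (l ≫ g)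
  have h₂ : IsPullback (pullback.snd f (l ≫ g)) δ₂ l (pullback.snd f g) := by
    refine IsPullback.of_bot ?_ (pullback.lift_snd _ _ _).symm (IsPullback.of_hasPullback f g).flip
    rw [show δ₂ ≫ pullback.fst f g = pullback.fst _ _ from (pullback.lift_fst _ _ _).trans (Category.comp_id _)]
    exact (IsPullback.of_hasPullback f (l ≫ g)).flip
  have := flat_of_field k e f
  have := flat_of_field k e (l ≫ g)
  have : IsSchemeTheoreticallyDominant δ₁ := .of_isPullback h₁
  have : IsSchemeTheoreticallyDominant δ₂ := .of_isPullback h₂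
  have he : pullback.map (h ≫ f) (l ≫ g) f g h l (𝟙 B) (by simp) (by simp) = δ₁ ≫ δ₂ := by
    apply pullback.hom_ext
    · exact (pullback.lift_fst _ _ _).trans ((Category.assoc _ _ _).trans
        ((congrArg (δ₁ ≫ ·) ((pullback.lift_fst _ _ _).trans (Category.comp_id _))).trans
          (pullback.lift_fst _ _ _))).symm
    · exact (pullback.lift_snd _ _ _).trans ((Category.assoc _ _ _).trans
        ((congrArg (δ₁ ≫ ·) (pullback.lift_snd _ _ _)).trans ((Category.assoc _ _ _).symm.trans
          (congrArg (· ≫ l) ((pullback.lift_snd _ _ _).trans (Category.comp_id _)))))).symm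
  rw [he]
  infer_instance

/-- A quasi-compact morphism is scheme-theoretically dominant onto its image. -/
theorem isSchemeTheoreticallyDominant_toImage {X Y : Scheme.{u}} (f : X ⟶ Y) :
    IsSchemeTheoreticallyDominant f.toImage := by
  refine ⟨?_⟩
  let J := f.toImage.ker
  let j := J.subschemeι
  have h1 : (j ≫ f.imageι).ker ≤ f.ker := by
    have h2 : IsClosedImmersion.lift j f.toImage J.ker_subschemeι.le ≫ j ≫ f.imageι = f := by
      rw [← Category.assoc, IsClosedImmersion.lift_fac, f.toImage_imageι]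
    conv_rhs => rw [← h2]
    exact Scheme.Hom.le_ker_comp _ _
  have h3 : (j ≫ f.imageι).ker ≤ f.imageι.ker := h1.trans (le_of_eq f.ker.ker_subschemeι.symm)
  let s := IsClosedImmersion.lift (j ≫ f.imageι) f.imageι h3
  have hs : s ≫ j = 𝟙 _ := by
    rw [← cancel_mono f.imageι, Category.assoc, IsClosedImmersion.lift_fac, Category.id_comp]
  have : IsIso j := ⟨s, by rw [← cancel_mono j, Category.assoc, hs, Category.comp_id, Category.id_comp], hs⟩
  exact (Scheme.isIso_subschemeι_iff_eq_bot J).1 this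

variable {G}
variable {G₁ : Grpd.GroupoidScheme S} (f : Grpd.GroupoidScheme.Hom G₁ G)

theorem e_eq [IsIso f.fU] : G.e = (inv f.fU ≫ G₁.e) ≫ f.fR := by
  have hcomp : (G₁.e ≫ f.fR) = f.fU ≫ G.e := by
    have hs : (G₁.e ≫ f.fR) ≫ G.s = f.fU := by
      rw [Category.assoc, f.comm_s, ← Category.assoc, G₁.e_s, Category.id_comp]
    have ht : (G₁.e ≫ f.fR) ≫ G.t = f.fU := by
      rw [Category.assoc, f.comm_t, ← Category.assoc, G₁.e_t, Category.id_comp]
    have h := f.comm_c G₁.e G₁.e (by rw [G₁.e_s, G₁.e_t])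
    have hee : comp G₁ G₁.e G₁.e (by rw [G₁.e_s, G₁.e_t]) = G₁.e := by
      have := GrpdBasic.comp_unit G₁ G₁.e (u := 𝟙 _) G₁.e_s
      rwa [comp_congr G₁ _ rfl (Category.id_comp G₁.e)] at this
    rw [show pullback.lift G₁.e G₁.e _ ≫ G₁.c = G₁.e from hee] at h
    have h2 := GrpdBasic.inv_comp_cancel G (G₁.e ≫ f.fR) (G₁.e ≫ f.fR) (by rw [hs, ht])
    rw [comp_congr G _ rfl (show comp G (G₁.e ≫ f.fR) (G₁.e ≫ f.fR) _ = G₁.e ≫ f.fR from h.symm)] at h2
    rw [← h2, GrpdBasic.inv_comp, hs]
  rw [Category.assoc, hcomp, IsIso.inv_hom_id_assoc]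

/-- The scheme-theoretic image over a field is a subgroupoid. -/
theorem exists_image [IsIso f.fU] [QuasiCompact f.fR] (k : Type u) [Field k]
    (eU : G.U ≅ Spec (CommRingCat.of k)) :
    ∃ (G' : Grpd.GroupoidScheme S) (ψ : Grpd.GroupoidScheme.Hom G' G),
      IsIso ψ.fU ∧ IsClosedImmersion ψ.fR ∧ ψ.fR.ker = f.fR.ker := by
  let z := f.fR.imageι
  let h := f.fR.toImage
  have hz : h ≫ z = f.fR := f.fR.toImage_imageι
  have : IsSchemeTheoreticallyDominant h := isSchemeTheoreticallyDominant_toImage f.fR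
  have : QuasiCompact h := by
    have : QuasiCompact (h ≫ z) := by rw [hz]; infer_instance
    exact QuasiCompact.of_comp h z
  -- unit
  let e' : G.U ⟶ f.fR.image := (inv f.fU ≫ G₁.e) ≫ h
  have he : e' ≫ z = G.e := by rw [Category.assoc, hz, ← e_eq f]
  -- inverse
  obtain ⟨i', hi⟩ := exists_factor_of_dominant h z (z ≫ G.i) (G₁.i ≫ h)
    (by rw [← Category.assoc, hz, Category.assoc, hz, GrpdBasic.inv_mem_range])
  -- composition
  let δ := pullback.map (h ≫ z ≫ G.s) (h ≫ z ≫ G.t) (z ≫ G.s) (z ≫ G.t) h h (𝟙 G.U) (by simp) (by simp)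
  have : IsSchemeTheoreticallyDominant δ := isSchemeTheoreticallyDominant_map k eU _ _ h h
  let α : pullback (h ≫ z ≫ G.s) (h ≫ z ≫ G.t) ⟶ G₁.R := pullback.fst _ _
  let β : pullback (h ≫ z ≫ G.s) (h ≫ z ≫ G.t) ⟶ G₁.R := pullback.snd _ _
  have hαβ : α ≫ G₁.s = β ≫ G₁.t := by
    have hc : α ≫ h ≫ z ≫ G.s = β ≫ h ≫ z ≫ G.t := pullback.condition
    rw [← cancel_mono f.fU, Category.assoc, Category.assoc, ← f.comm_s, ← f.comm_t]
    have hzs : f.fR ≫ G.s = h ≫ z ≫ G.s := by
      exact ((congrArg (· ≫ G.s) hz).symm.trans (Category.assoc _ _ _))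
    have hzt : f.fR ≫ G.t = h ≫ z ≫ G.t := by
      exact ((congrArg (· ≫ G.t) hz).symm.trans (Category.assoc _ _ _))
    exact (congrArg (α ≫ ·) hzs).trans (hc.trans (congrArg (β ≫ ·) hzt).symm)
  obtain ⟨c', hc⟩ := exists_factor_of_dominant δ z
    (comp G (pullback.fst (z ≫ G.s) (z ≫ G.t) ≫ z) (pullback.snd _ _ ≫ z)
      (by simp only [Category.assoc]; exact pullback.condition))
    (comp G₁ α β hαβ ≫ h)
    (by
      refine (GrpdBasic.precomp_comp G δ _ _ _).trans (Eq.trans ?_
        ((Category.assoc (comp G₁ α β hαβ) h z).trans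
          ((congrArg (comp G₁ α β hαβ ≫ ·) hz).trans (f.comm_c α β hαβ))).symm)
      refine comp_congr G _ ?_ ?_
      · rw [pullback.lift_fst_assoc, Category.assoc, hz]
      · rw [pullback.lift_snd_assoc, Category.assoc, hz])
  obtain ⟨G', ψ, hU, ε, hε⟩ := exists_subgroupoid G z e' he i' hi c' hc
  refine ⟨G', ψ, hU, ?_, ?_⟩
  · have : ψ.fR = ε.inv ≫ z := by rw [← hε, Iso.inv_hom_id_assoc]
    rw [this]; infer_instance
  · rw [show ψ.fR = ε.inv ≫ z by rw [← hε, Iso.inv_hom_id_assoc], Scheme.Hom.ker_comp,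
      Scheme.Hom.ker_eq_bot ε.inv, Scheme.IdealSheafData.map_bot]
    exact f.fR.ker.ker_subschemeι

/-- The product of two reduced schemes over a perfect field is reduced. -/
theorem isReduced_pullback_of_perfectField {X Y B : Scheme.{u}} (k : Type u) [Field k] [PerfectField k]
    (e : B ≅ Spec (CommRingCat.of k)) (f : X ⟶ B) (g : Y ⟶ B) [IsReduced X] [IsReduced Y] :
    IsReduced (pullback f g) := by
  have : GeometricallyReduced (f ≫ e.hom) := by
    have : IsReduced (Over.mk (f ≫ e.hom)).left := inferInstanceAs (IsReduced X)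
    exact GrpschAbsch.FibreTranslate.geometricallyReduced_of_perfectField (Over.mk (f ≫ e.hom))
  have := DescentBase.isReduced_pullback_of_geometricallyReduced (f ≫ e.hom) (g ≫ e.hom)
  exact isReduced_of_isOpenImmersion (pullback.map f g (f ≫ e.hom) (g ≫ e.hom) (𝟙 _) (𝟙 _) e.hom
    (by simp) (by simp))

/-- The reduced closure of the image over a perfect field is a subgroupoid. -/
theorem exists_closure [IsIso f.fU] (k : Type u) [Field k] [PerfectField k]
    (eU : G.U ≅ Spec (CommRingCat.of k)) :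
    ∃ (G' : Grpd.GroupoidScheme S) (ψ : Grpd.GroupoidScheme.Hom G' G),
      IsIso ψ.fU ∧ IsClosedImmersion ψ.fR ∧ IsReduced G'.R ∧
        Set.range ⇑ψ.fR = closure (Set.range ⇑f.fR) := by
  let C : TopologicalSpace.Closeds G.R := ⟨closure (Set.range f.fR), isClosed_closure⟩
  let I := Scheme.IdealSheafData.vanishingIdeal C
  let z := I.subschemeι
  have hrange : Set.range z = closure (Set.range f.fR) := by
    show Set.range I.subschemeι = _
    rw [Scheme.IdealSheafData.range_subschemeι]
    simp [I, C]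
  have : IsReduced I.subscheme := PropsBasic2.isReduced_vanishingIdeal_subscheme C
  have : IsIntegral G.U := GrpdBasic.isIntegral_of_iso_field k eU
  obtain ⟨e', he⟩ := exists_factor_of_range_subset z G.e (by
    rw [hrange, e_eq f]
    rintro _ ⟨x, rfl⟩
    exact subset_closure ⟨_, (Scheme.Hom.comp_apply _ _ _).symm⟩)
  obtain ⟨i', hi⟩ := exists_factor_of_range_subset z (z ≫ G.i) (by
    rw [hrange]
    rintro _ ⟨x, rfl⟩
    rw [Scheme.Hom.comp_apply]
    refine map_mem_closure G.i.continuous (hrange.le ⟨x, rfl⟩) ?_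
    rintro _ ⟨y, rfl⟩
    exact ⟨G₁.i y, by rw [← Scheme.Hom.comp_apply, GrpdBasic.inv_mem_range, Scheme.Hom.comp_apply]⟩)
  have := isReduced_pullback_of_perfectField k eU (z ≫ G.s) (z ≫ G.t)
  obtain ⟨c', hc⟩ := exists_factor_of_range_subset z
    (comp G (pullback.fst (z ≫ G.s) (z ≫ G.t) ≫ z) (pullback.snd _ _ ≫ z)
      (by simp only [Category.assoc]; exact pullback.condition)) (by
    rw [hrange]
    rintro _ ⟨x, rfl⟩
    rw [comp, Scheme.Hom.comp_apply]
    refine GrpdBasic.comp_mem_closure f k eU _ ?_ ?_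
    · rw [← Scheme.Hom.comp_apply, pullback.lift_fst, Scheme.Hom.comp_apply]
      exact hrange.le ⟨_, rfl⟩
    · rw [← Scheme.Hom.comp_apply, pullback.lift_snd, Scheme.Hom.comp_apply]
      exact hrange.le ⟨_, rfl⟩)
  obtain ⟨G', ψ, hU, ε, hε⟩ := exists_subgroupoid G z e' he i' hi c' hc
  have hψ : ψ.fR = ε.inv ≫ z := by rw [← hε, Iso.inv_hom_id_assoc]
  refine ⟨G', ψ, hU, by rw [hψ]; infer_instance, isReduced_of_isOpenImmersion ε.inv, ?_⟩
  rw [hψ, ← hrange, Scheme.Hom.comp_base, TopCat.coe_comp, Set.range_comp,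
    ε.inv.surjective.range_eq, Set.image_univ]

end Groth.GrpdImage
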