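import Mathlib
import Groth.Agent.EGA41Two.MonicVars
import Groth.Agent.Calg6.PowerSeries
import Groth.Agent.Ega4Algebra1.RegularLocal
import Groth.Agent.AdicLinTop.Adic
import Groth.Agent.AdicLinTop.RigClosed

/-! The Artin–Schreier family `(MvPowerSeries (Fin n) k)[u]/(u_i ^ p - c_i u_i - x_i)` over a power series ring. -/

set_option autoImplicit false

universe u

open IsLocalRing Groth.EGA41Two

noncomputable section

namespace Groth.ASFamily

variable {k : Type u} [Field k] {n : ℕ}


/-- The relation of the `i`-th variable. -/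
def asPoly (p : ℕ) (c : Fin n → MvPowerSeries (Fin n) k) (i : Fin n) : Polynomial (MvPowerSeries (Fin n) k) :=
  Polynomial.X ^ p - Polynomial.C (c i) * Polynomial.X - Polynomial.C (MvPowerSeries.X i)

variable (p : ℕ) (c : Fin n → (MvPowerSeries (Fin n) k))

/-- The algebra. -/
abbrev Alg : Type u := MvPolynomial (Fin n) (MvPowerSeries (Fin n) k) ⧸ MonicVars.finIdeal (asPoly p c)

theorem finIdeal_eq : MonicVars.finIdeal (asPoly p c) =
    Ideal.span (Set.range fun i : Fin n => (MvPolynomial.X i : MvPolynomial (Fin n) (MvPowerSeries (Fin n) k)) ^ p -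
      MvPolynomial.C (c i) * MvPolynomial.X i - MvPolynomial.C (MvPowerSeries.X i)) := by
  rw [MonicVars.finIdeal]
  congr 2
  funext i
  simp [asPoly]

theorem degree_lin_lt (hp : 2 ≤ p) (i : Fin n) :
    (Polynomial.C (c i) * Polynomial.X + Polynomial.C (MvPowerSeries.X i : (MvPowerSeries (Fin n) k))).degree < (p : WithBot ℕ) :=
  lt_of_le_of_lt Polynomial.degree_linear_le (by exact_mod_cast (show 1 < p by omega))

theorem monic_asPoly (hp : 2 ≤ p) (i : Fin n) : (asPoly p c i).Monic := by
  rw [asPoly, sub_sub]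
  exact (Polynomial.monic_X_pow p).sub_of_left (by rw [Polynomial.degree_X_pow]; exact degree_lin_lt p c hp i)

theorem natDegree_asPoly (hp : 2 ≤ p) (i : Fin n) : (asPoly p c i).natDegree = p := by
  refine Polynomial.natDegree_eq_of_degree_eq_some ?_
  rw [asPoly, sub_sub, Polynomial.degree_sub_eq_left_of_degree_lt
    (by rw [Polynomial.degree_X_pow]; exact degree_lin_lt p c hp i), Polynomial.degree_X_pow]

theorem X_mem (i : Fin n) : (MvPowerSeries.X i : (MvPowerSeries (Fin n) k)) ∈ maximalIdeal (MvPowerSeries (Fin n) k) := by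
  rw [Groth.SGA7.PS.maximalIdeal_eq]; exact Groth.SGA7.PS.X_mem i

theorem map_asPoly (hc : ∀ i, c i ∈ maximalIdeal (MvPowerSeries (Fin n) k)) (i : Fin n) :
    (asPoly p c i).map (residue (MvPowerSeries (Fin n) k)) = Polynomial.X ^ p := by
  have h1 : residue (MvPowerSeries (Fin n) k) (c i) = 0 := (residue_eq_zero_iff _).mpr (hc i)
  have h2 : residue (MvPowerSeries (Fin n) k) (MvPowerSeries.X i) = 0 :=
    (residue_eq_zero_iff (MvPowerSeries.X i : MvPowerSeries (Fin n) k)).mpr (X_mem i)
  rw [asPoly, Polynomial.map_sub, Polynomial.map_sub, Polynomial.map_pow, Polynomial.map_mul, Polynomial.map_C,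
    Polynomial.map_C, Polynomial.map_X, h1, h2, map_zero, zero_mul, sub_zero, sub_zero]

/-- The variables. -/
abbrev u (i : Fin n) : Alg p c := Ideal.Quotient.mk _ (MvPolynomial.X i)

theorem algebraMap_X (i : Fin n) :
    algebraMap (MvPowerSeries (Fin n) k) (Alg p c) (MvPowerSeries.X i) = u p c i ^ p - algebraMap (MvPowerSeries (Fin n) k) (Alg p c) (c i) * u p c i := by
  have h := MonicVars.aeval_eq_zero (asPoly p c) i
  simp only [asPoly, map_sub, map_mul, map_pow, Polynomial.aeval_X, Polynomial.aeval_C, sub_eq_zero] at h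
  exact h.symm

theorem maxIdeal_eq (hp : 2 ≤ p) : MonicVars.maxIdeal (asPoly p c) = Ideal.span (Set.range (u p c)) := by
  refine le_antisymm (sup_le ?_ le_rfl) le_sup_right
  rw [Groth.SGA7.PS.maximalIdeal_eq, Groth.SGA7.PS.varIdeal, Ideal.map_span, Ideal.span_le]
  rintro _ ⟨_, ⟨i, rfl⟩, rfl⟩
  rw [SetLike.mem_coe, algebraMap_X]
  exact Ideal.sub_mem _ (Ideal.pow_mem_of_mem _ (Ideal.subset_span (Set.mem_range_self i)) p (by omega))
    (Ideal.mul_mem_left _ _ (Ideal.subset_span (Set.mem_range_self i)))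

theorem free_finrank (hp : 2 ≤ p) :
    Module.Free (MvPowerSeries (Fin n) k) (Alg p c) ∧ Module.finrank (MvPowerSeries (Fin n) k) (Alg p c) = p ^ n := by
  obtain ⟨h1, h2⟩ := MonicVars.free_finrank (asPoly p c) (monic_asPoly p c hp)
  exact ⟨h1, by rw [h2]; simp [natDegree_asPoly p c hp]⟩

theorem finite (hp : 2 ≤ p) : Module.Finite (MvPowerSeries (Fin n) k) (Alg p c) := by
  obtain ⟨h1, h2⟩ := free_finrank p c hp
  exact Module.finite_of_finrank_pos (R := (MvPowerSeries (Fin n) k)) (by rw [h2]; positivity)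

theorem isLocalRing (hp : 2 ≤ p) (hc : ∀ i, c i ∈ maximalIdeal (MvPowerSeries (Fin n) k)) : IsLocalRing (Alg p c) :=
  MonicVars.isLocalRing _ (monic_asPoly p c hp) (fun _ => p) (fun _ => by omega) (map_asPoly p c hc)

theorem maximalIdeal_eq (hp : 2 ≤ p) (hc : ∀ i, c i ∈ maximalIdeal (MvPowerSeries (Fin n) k)) [IsLocalRing (Alg p c)] :
    maximalIdeal (Alg p c) = Ideal.span (Set.range (u p c)) :=
  (MonicVars.maximalIdeal_eq _ (monic_asPoly p c hp) (fun _ => p) (fun _ => by omega) (map_asPoly p c hc)).trans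
    (maxIdeal_eq p c hp)

theorem injective_algebraMap (hp : 2 ≤ p) : Function.Injective (algebraMap (MvPowerSeries (Fin n) k) (Alg p c)) := by
  obtain ⟨h1, h2⟩ := free_finrank p c hp
  have : Nontrivial (Alg p c) := Module.nontrivial_of_finrank_pos (R := (MvPowerSeries (Fin n) k)) (by rw [h2]; positivity)
  exact FaithfulSMul.algebraMap_injective (MvPowerSeries (Fin n) k) (Alg p c)

theorem isRegularLocalRing (hp : 2 ≤ p) (hc : ∀ i, c i ∈ maximalIdeal (MvPowerSeries (Fin n) k)) : IsRegularLocalRing (Alg p c) := by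
  have := isLocalRing p c hp hc
  have hN : IsNoetherianRing (MvPowerSeries (Fin n) k) := (Groth.Calg6.isRegularLocalRing_mvPowerSeries k n).toIsNoetherian
  have := finite p c hp
  have : IsNoetherianRing (Alg p c) := IsNoetherianRing.of_finite (MvPowerSeries (Fin n) k) (Alg p c)
  have := Algebra.IsIntegral.of_finite (MvPowerSeries (Fin n) k) (Alg p c)
  refine IsRegularLocalRing.of_spanFinrank_maximalIdeal_le _ ?_
  rw [maximalIdeal_eq p c hp hc,
    ← ringKrullDim_eq_of_isIntegral_of_injective (injective_algebraMap p c hp),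
    Groth.Calg6.ringKrullDim_mvPowerSeries]
  have h := Submodule.spanFinrank_span_le_ncard_of_finite (R := Alg p c) (Set.finite_range (u p c))
  have h2 : (Set.range (u p c)).ncard ≤ n := by
    rw [← Set.image_univ]
    exact (Set.ncard_image_le Set.finite_univ).trans (by simp)
  exact_mod_cast h.trans h2

theorem isDomain (hp : 2 ≤ p) (hc : ∀ i, c i ∈ maximalIdeal (MvPowerSeries (Fin n) k)) : IsDomain (Alg p c) := by
  have := isRegularLocalRing p c hp hc
  exact Groth.Ega4Algebra1.isDomain_of_isRegularLocalRing _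

theorem isAdicComplete (hp : 2 ≤ p) (hc : ∀ i, c i ∈ maximalIdeal (MvPowerSeries (Fin n) k)) :
    IsAdicComplete (Ideal.span (Set.range (u p c))) (Alg p c) := by
  have hN : IsNoetherianRing (MvPowerSeries (Fin n) k) := (Groth.Calg6.isRegularLocalRing_mvPowerSeries k n).toIsNoetherian
  have := isLocalRing p c hp hc
  have := finite p c hp
  have : IsNoetherianRing (Alg p c) := IsNoetherianRing.of_finite (MvPowerSeries (Fin n) k) (Alg p c)
  have hR : IsAdicComplete (maximalIdeal (MvPowerSeries (Fin n) k)) (MvPowerSeries (Fin n) k) :=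
    Groth.SGA7.PS.maximalIdeal_eq (σ := Fin n) (k := k) ▸ Groth.Calg6.isAdicComplete_varIdeal
  have h1 : IsAdicComplete (maximalIdeal (MvPowerSeries (Fin n) k)) (Alg p c) := Groth.AdicLinTop.Adic.isAdicComplete_of_finite
  have h2 : IsAdicComplete ((maximalIdeal (MvPowerSeries (Fin n) k)).map (algebraMap (MvPowerSeries (Fin n) k) (Alg p c))) (Alg p c) :=
    (IsAdicComplete.map_algebraMap_iff _ _).mpr h1
  have hle : (maximalIdeal (MvPowerSeries (Fin n) k)).map (algebraMap (MvPowerSeries (Fin n) k) (Alg p c)) ≤ Ideal.span (Set.range (u p c)) :=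
    le_sup_left.trans (maxIdeal_eq p c hp).le
  have hrad : Ideal.span (Set.range (u p c)) ≤ ((maximalIdeal (MvPowerSeries (Fin n) k)).map (algebraMap (MvPowerSeries (Fin n) k) (Alg p c))).radical := by
    rw [Ideal.span_le]
    rintro _ ⟨i, rfl⟩
    refine ⟨p, ?_⟩
    have h3 := algebraMap_X p c i
    rw [eq_sub_iff_add_eq] at h3
    rw [← h3]
    exact Ideal.add_mem _ (Ideal.mem_map_of_mem _ (X_mem i)) (Ideal.mul_mem_right _ _ (Ideal.mem_map_of_mem _ (hc i)))
  obtain ⟨N, hN'⟩ := Ideal.exists_pow_le_of_le_radical_of_fg hrad (Submodule.fg_span (Set.finite_range _))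
  exact Groth.AdicLinTop.RigClosed.isAdicComplete_of_pow_le hle hN' (Alg p c)

end Groth.ASFamily
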