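import Mathlib
import Groth.Agent.GitQuot.ASFamily

/-! Automorphisms, invariants and lengths for the Artin–Schreier family. -/

set_option autoImplicit false

universe u

open IsLocalRing Groth.EGA41Two

noncomputable section

namespace Groth.ASFamily

/-- An element fixed by a translation of `u` and lying in `B[u]`, `u` integral of degree `≤ p`, lies in `B`. -/
theorem mem_of_fixed {R A : Type u} [CommRing R] [CommRing A] [IsDomain A] [Algebra R A]
    (p : ℕ) [Fact p.Prime] [CharP A p] (B : Subalgebra R A) {s : Set A} (v d : A) (hd : d ≠ 0)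
    (c e : A) (hc : c ∈ B) (he : e ∈ B) (hv : v ^ p - c * v = e) (σ : A →ₐ[R] A) (hB : ∀ b ∈ B, σ b = b)
    (hσ : σ v = v + d) (hσd : σ d = d) (hs : s ⊆ insert v (B : Set A)) (t : A)
    (ht : t ∈ Algebra.adjoin R s) (hfix : σ t = t) : t ∈ B := by
  have hp : 2 ≤ p := (Fact.out : p.Prime).two_le
  let f : Polynomial B := Polynomial.X ^ p - (Polynomial.C ⟨c, hc⟩ * Polynomial.X + Polynomial.C ⟨e, he⟩)
  have hdeg : (Polynomial.C (⟨c, hc⟩ : B) * Polynomial.X + Polynomial.C (⟨e, he⟩ : B)).degree < (p : WithBot ℕ) :=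
    lt_of_le_of_lt Polynomial.degree_linear_le (by exact_mod_cast (show 1 < p by omega))
  have hfm : f.Monic := (Polynomial.monic_X_pow p).sub_of_left (by rwa [Polynomial.degree_X_pow])
  have hfn : f.natDegree = p := Polynomial.natDegree_eq_of_degree_eq_some <| by
    rw [Polynomial.degree_sub_eq_left_of_degree_lt (by rwa [Polynomial.degree_X_pow]), Polynomial.degree_X_pow]
  have hf0 : Polynomial.aeval v f = 0 := by
    simp only [f, map_sub, map_add, map_mul, map_pow, Polynomial.aeval_X, Polynomial.aeval_C]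
    show v ^ p - (c * v + e) = 0
    rw [← hv]; ring
  have hmem : t ∈ (Algebra.adjoin B ({v} : Set A)).restrictScalars R := by
    refine (Algebra.adjoin_le ?_) ht
    intro x hx
    rcases hs hx with rfl | hxB
    · exact Algebra.subset_adjoin rfl
    · exact Subalgebra.algebraMap_mem (Algebra.adjoin B ({v} : Set A)) (⟨x, hxB⟩ : B)
  obtain ⟨q, hq⟩ := (Algebra.adjoin_mem_exists_aeval (R := B) (a := t) v hmem)
  let r : Polynomial B := q %ₘ f
  have hr : Polynomial.aeval v r = t := by
    rw [← hq]; exact Polynomial.aeval_modByMonic_eq_self_of_root hf0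
  have hrdeg : r.natDegree < p := by
    have hne : f ≠ 1 := fun h => by rw [h, Polynomial.natDegree_one] at hfn; omega
    exact hfn ▸ Polynomial.natDegree_modByMonic_lt q hfm hne
  have hshift : ∀ j : ℕ, Polynomial.aeval (v + j * d) r = t := by
    intro j
    induction j with
    | zero => simpa using hr
    | succ j ih =>
      have h1 : σ (Polynomial.aeval (v + j * d) r) = Polynomial.aeval (σ (v + j * d)) r := by
        rw [Polynomial.aeval_def, Polynomial.aeval_def, ← AlgHom.coe_toRingHom, Polynomial.hom_eval₂]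
        congr 1
        exact RingHom.ext fun b => hB b.1 b.2
      rw [ih, hfix, map_add, map_mul, map_natCast, hσ, hσd] at h1
      rw [h1]; congr 2; push_cast; ring
  let Q : Polynomial A := r.map (algebraMap B A) - Polynomial.C t
  have hQ : Q = 0 := by
    refine Polynomial.eq_zero_of_natDegree_lt_card_of_eval_eq_zero Q (f := fun j : Fin p => v + (j : ℕ) * d) ?_
      (fun j => ?_) ?_
    · intro i j hij
      have h1 : ((i : ℕ) : A) = ((j : ℕ) : A) := mul_right_cancel₀ hd (add_left_cancel hij)
      exact Fin.ext (CharP.natCast_injOn_Iio A p i.2 j.2 h1)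
    · rw [Polynomial.eval_sub, Polynomial.eval_C, Polynomial.eval_map_algebraMap, hshift, sub_self]
    · rw [Fintype.card_fin]
      calc Q.natDegree ≤ max (r.map (algebraMap B A)).natDegree (Polynomial.C t).natDegree :=
            Polynomial.natDegree_sub_le _ _
        _ ≤ r.natDegree := by
            rw [Polynomial.natDegree_C, max_le_iff]
            exact ⟨Polynomial.natDegree_map_le, Nat.zero_le _⟩
        _ < p := hrdeg
  have h0 := congr_arg (fun P : Polynomial A => P.coeff 0) hQ
  simp only [Q, Polynomial.coeff_sub, Polynomial.coeff_map, Polynomial.coeff_C_zero, Polynomial.coeff_zero,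
    sub_eq_zero] at h0
  rw [← h0]
  exact (r.coeff 0).2

/-- Roots of `X ^ p = a ^ (p - 1) * X` in a domain of characteristic `p`. -/
theorem exists_eq_mul_of_pow_eq {A : Type u} [CommRing A] [IsDomain A] (p : ℕ) [Fact p.Prime] [CharP A p]
    (a d : A) (ha : a ≠ 0) (h : d ^ p = a ^ (p - 1) * d) : ∃ j : ZMod p, d = ZMod.castHom (dvd_refl p) A j * a := by
  by_contra hne
  push Not at hne
  have hp : 2 ≤ p := (Fact.out : p.Prime).two_le
  let P : Polynomial A := Polynomial.X ^ p - Polynomial.C (a ^ (p - 1)) * Polynomial.X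
  have hdeg : P.natDegree = p := Polynomial.natDegree_eq_of_degree_eq_some <| by
    rw [Polynomial.degree_sub_eq_left_of_degree_lt, Polynomial.degree_X_pow]
    rw [Polynomial.degree_X_pow]
    exact lt_of_le_of_lt (Polynomial.degree_C_mul_X_le _) (by exact_mod_cast (show 1 < p by omega))
  let f : Option (ZMod p) → A := fun o => o.elim d fun j => ZMod.castHom (dvd_refl p) A j * a
  have hP : P = 0 := by
    refine Polynomial.eq_zero_of_natDegree_lt_card_of_eval_eq_zero P (f := f) ?_ (fun o => ?_) ?_
    · rintro (_ | i) (_ | j) hij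
      · rfl
      · exact absurd hij (hne j)
      · exact absurd hij.symm (hne i)
      · exact congr_arg some ((ZMod.castHom_injective A) (mul_right_cancel₀ ha hij))
    · cases o with
      | none => simp [P, f, h]
      | some j =>
        simp only [P, f, Option.elim, Polynomial.eval_sub, Polynomial.eval_pow, Polynomial.eval_X,
          Polynomial.eval_mul, Polynomial.eval_C]
        rw [mul_pow, ← map_pow, ZMod.pow_card, mul_left_comm, ← pow_succ, show p - 1 + 1 = p by omega, sub_self]
    · rw [hdeg, Fintype.card_option, ZMod.card]; omega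
  rw [hP, Polynomial.natDegree_zero] at hdeg
  omega

variable {k : Type u} [Field k] {n : ℕ} (p : ℕ) [Fact p.Prime] [CharP k p]
  (a : Fin n → MvPowerSeries (Fin n) k)

/-- The coefficients `a_i ^ (p - 1)`. -/
abbrev cc : Fin n → MvPowerSeries (Fin n) k := fun i => a i ^ (p - 1)

omit [CharP k p] in
theorem cc_mem (ham : ∀ i, MvPowerSeries.constantCoeff (a i) = 0) (i : Fin n) :
    cc p a i ∈ maximalIdeal (MvPowerSeries (Fin n) k) := by
  refine Ideal.pow_mem_of_mem _ ?_ _ (by have := (Fact.out : p.Prime).two_le; omega)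
  rw [mem_maximalIdeal, mem_nonunits_iff, MvPowerSeries.isUnit_iff_constantCoeff, ham i]
  exact not_isUnit_zero

omit [Fact p.Prime] [CharP k p] in
theorem ideal_eq : Ideal.span (Set.range fun i : Fin n =>
    (MvPolynomial.X i : MvPolynomial (Fin n) (MvPowerSeries (Fin n) k)) ^ p -
      MvPolynomial.C (a i ^ (p - 1)) * MvPolynomial.X i - MvPolynomial.C (MvPowerSeries.X i)) =
    MonicVars.finIdeal (asPoly p (cc p a)) := (finIdeal_eq p (cc p a)).symm

theorem hp2 : 2 ≤ p := (Fact.out : p.Prime).two_le

theorem charP : CharP (Alg p (cc p a)) p := by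
  haveI : CharP (MvPowerSeries (Fin n) k) p := charP_of_injective_algebraMap (algebraMap k _).injective p
  exact charP_of_injective_algebraMap (injective_algebraMap p (cc p a) (hp2 p)) p

omit [Fact p.Prime] [CharP k p] in
theorem adjoin_u (c : Fin n → MvPowerSeries (Fin n) k) :
    Algebra.adjoin (MvPowerSeries (Fin n) k) (Set.range (u p c)) = ⊤ := by
  rw [eq_top_iff]
  rintro x -
  obtain ⟨q, rfl⟩ := Ideal.Quotient.mk_surjective x
  rw [Algebra.adjoin_range_eq_range_aeval]
  exact ⟨q, by
    show MvPolynomial.aeval (u p c) q = Ideal.Quotient.mkₐ (MvPowerSeries (Fin n) k) _ q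
    rw [show (Ideal.Quotient.mkₐ (MvPowerSeries (Fin n) k) (MonicVars.finIdeal (asPoly p c))) =
      MvPolynomial.aeval (u p c) from MvPolynomial.algHom_ext fun i => by simp [u]]⟩

omit [Fact p.Prime] [CharP k p] in
theorem algHom_ext {C : Type u} [Semiring C] [Algebra (MvPowerSeries (Fin n) k) C]
    {c : Fin n → MvPowerSeries (Fin n) k} {f g : Alg p c →ₐ[MvPowerSeries (Fin n) k] C}
    (h : ∀ i, f (u p c i) = g (u p c i)) : f = g :=
  AlgHom.ext_of_adjoin_eq_top (adjoin_u p c) (by rintro _ ⟨i, rfl⟩; exact h i)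

/-- The prime field in the base. -/
def nu (j : ZMod p) : MvPowerSeries (Fin n) k := algebraMap k _ (ZMod.castHom (dvd_refl p) k j)

theorem nu_pow (j : ZMod p) : (nu p j : MvPowerSeries (Fin n) k) ^ p = nu p j := by
  rw [nu, ← map_pow, ← map_pow, ZMod.pow_card]

/-- The translation `u_i ↦ u_i + ν_i a_i`. -/
def shift (ν : Fin n → ZMod p) : Alg p (cc p a) →ₐ[MvPowerSeries (Fin n) k] Alg p (cc p a) :=
  MonicVars.homMk (asPoly p (cc p a))
    (fun i => u p (cc p a) i + algebraMap _ _ (nu p (ν i) * a i)) fun i => by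
    have := charP p a
    simp only [asPoly, map_sub, map_mul, map_pow, Polynomial.aeval_X, Polynomial.aeval_C]
    rw [add_pow_char, algebraMap_X p (cc p a) i, mul_pow, ← map_pow _ (nu p (ν i)), nu_pow]
    have hsucc : a i ^ p = a i ^ (p - 1) * a i := by rw [← pow_succ, show p - 1 + 1 = p by have := hp2 p; omega]
    rw [← map_pow _ (a i) p, hsucc]
    simp only [cc, map_mul, map_pow]
    ring

theorem shift_u (ν : Fin n → ZMod p) (i : Fin n) :
    shift p a ν (u p (cc p a) i) = u p (cc p a) i + algebraMap _ _ (nu p (ν i) * a i) :=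
  MonicVars.homMk_X _ _ _ i

theorem shift_add (ν ν' : Fin n → ZMod p) : (shift p a ν).comp (shift p a ν') = shift p a (ν + ν') := by
  refine algHom_ext p fun i => ?_
  rw [AlgHom.comp_apply, shift_u, map_add, AlgHom.commutes, shift_u, shift_u, add_assoc, ← map_add, ← add_mul]
  congr 3
  simp [nu]

theorem shift_zero : shift p a 0 = AlgHom.id _ _ := by
  refine algHom_ext p fun i => ?_
  rw [shift_u]
  simp [nu]

/-- The translations as automorphisms. -/
def aut : Multiplicative (Fin n → ZMod p) →* (Alg p (cc p a) ≃ₐ[MvPowerSeries (Fin n) k] Alg p (cc p a)) where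
  toFun ν := AlgEquiv.ofAlgHom (shift p a ν.toAdd) (shift p a (-ν.toAdd))
    (by rw [shift_add, add_neg_cancel, shift_zero]) (by rw [shift_add, neg_add_cancel, shift_zero])
  map_one' := AlgEquiv.ext fun x => DFunLike.congr_fun (shift_zero p a) x
  map_mul' ν ν' := AlgEquiv.ext fun x => (DFunLike.congr_fun (shift_add p a ν.toAdd ν'.toAdd) x).symm

theorem aut_u (ν : Multiplicative (Fin n → ZMod p)) (i : Fin n) :
    aut p a ν (u p (cc p a) i) = u p (cc p a) i + algebraMap _ _ (nu p (ν.toAdd i) * a i) :=
  shift_u p a ν.toAdd i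

theorem aut_bijective (ha0 : ∀ i, a i ≠ 0) (ham : ∀ i, MvPowerSeries.constantCoeff (a i) = 0) :
    Function.Bijective (aut p a) := by
  have hdom := isDomain p (cc p a) (hp2 p) (cc_mem p a ham)
  have := charP p a
  have hinj := injective_algebraMap p (cc p a) (hp2 p)
  refine ⟨(injective_iff_map_eq_one _).mpr fun ν hν => ?_, fun σ => ?_⟩
  · refine Multiplicative.toAdd.injective (funext fun i => ?_)
    have h := aut_u p a ν i
    rw [hν, AlgEquiv.one_apply, left_eq_add, map_eq_zero_iff _ hinj, mul_eq_zero] at h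
    exact (ZMod.castHom_injective k) (((algebraMap k (MvPowerSeries (Fin n) k)).injective
      ((h.resolve_right (ha0 i)).trans (map_zero _).symm)).trans (map_zero _).symm)
  · have hroot : ∀ i, ∃ j : ZMod p,
        σ (u p (cc p a) i) - u p (cc p a) i = algebraMap _ _ (nu p j * a i) := by
      intro i
      have h1 := algebraMap_X p (cc p a) i
      have h2 := congr_arg σ h1
      rw [AlgEquiv.commutes, map_sub, map_mul, map_pow, AlgEquiv.commutes] at h2
      obtain ⟨j, hj⟩ := exists_eq_mul_of_pow_eq p (algebraMap _ (Alg p (cc p a)) (a i))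
        (σ (u p (cc p a) i) - u p (cc p a) i)
        (fun h => ha0 i ((map_eq_zero_iff _ hinj).mp h)) (by
          rw [sub_pow_char]
          simp only [cc, map_pow] at h1 h2 ⊢
          linear_combination h1 - h2)
      refine ⟨j, ?_⟩
      rw [hj, map_mul, nu]
      congr 1
      exact (DFunLike.congr_fun (RingHom.ext_zmod (((algebraMap (MvPowerSeries (Fin n) k) (Alg p (cc p a))).comp
        (algebraMap k _)).comp (ZMod.castHom (dvd_refl p) k)) (ZMod.castHom (dvd_refl p) _)) j).symm
    choose ν hν using hroot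
    exact ⟨Multiplicative.ofAdd ν, AlgEquiv.coe_algHom_injective (algHom_ext p fun i =>
      (aut_u p a _ i).trans ((sub_eq_iff_eq_add'.mp (hν i)).symm))⟩

/-- Fixed by every translation means in the base. -/
theorem mem_range_of_fixed (ha0 : ∀ i, a i ≠ 0) (ham : ∀ i, MvPowerSeries.constantCoeff (a i) = 0)
    (t : Alg p (cc p a)) (h : ∀ ν, aut p a ν t = t) : t ∈ Set.range (algebraMap (MvPowerSeries (Fin n) k) _) := by
  have hdom := isDomain p (cc p a) (hp2 p) (cc_mem p a ham)
  have := charP p a
  have hinj := injective_algebraMap p (cc p a) (hp2 p)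
  suffices ∀ s : Finset (Fin n), t ∈ Algebra.adjoin (MvPowerSeries (Fin n) k) (u p (cc p a) '' s) →
      t ∈ (⊥ : Subalgebra (MvPowerSeries (Fin n) k) (Alg p (cc p a))) by
    refine Algebra.mem_bot.mp (this Finset.univ ?_)
    rw [Finset.coe_univ, Set.image_univ, adjoin_u]
    trivial
  intro s
  induction s using Finset.induction with
  | empty => simp
  | @insert i s his ih =>
    intro ht
    refine ih (mem_of_fixed p (Algebra.adjoin (MvPowerSeries (Fin n) k) (u p (cc p a) '' s))
      (s := u p (cc p a) '' (insert i s : Finset (Fin n)))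
      (u p (cc p a) i) (algebraMap _ _ (a i)) (fun hz => ha0 i ((map_eq_zero_iff _ hinj).mp hz))
      _ _ (Subalgebra.algebraMap_mem _ (cc p a i)) (Subalgebra.algebraMap_mem _ (MvPowerSeries.X i))
      (algebraMap_X p (cc p a) i).symm (aut p a (Multiplicative.ofAdd (Pi.single i 1))).toAlgHom
      ?_ ?_ (AlgHom.commutes _ _) ?_ t ht (h _))
    · intro b hb
      refine (AlgHom.eqOn_adjoin_iff (φ := (aut p a (Multiplicative.ofAdd (Pi.single i 1))).toAlgHom)
        (ψ := AlgHom.id _ _)).mpr ?_ hb
      rintro _ ⟨j, hj, rfl⟩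
      have hne : j ≠ i := fun hji => his (hji ▸ hj)
      simp [aut_u, nu, hne]
    · simp [aut_u, nu]
    · rw [Finset.coe_insert, Set.image_insert_eq]
      exact Set.insert_subset_insert Algebra.subset_adjoin

end Groth.ASFamily
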