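import Mathlib
import Groth.Agent.GitQuot.ASFamily

/-! The fixed point ideal of a translation of the Artin–Schreier family. -/

set_option autoImplicit false

universe u

open IsLocalRing Groth.EGA41Two TensorProduct

noncomputable section

namespace Groth.ASFamily

variable {k : Type u} [Field k] {n : ℕ} (p : ℕ) (c : Fin n → MvPowerSeries (Fin n) k)

theorem map_maximalIdeal_le_pow (hp : 2 ≤ p) (hc : ∀ i, c i ∈ maximalIdeal (MvPowerSeries (Fin n) k)) :
    (maximalIdeal (MvPowerSeries (Fin n) k)).map (algebraMap _ (Alg p c)) ≤ Ideal.span (Set.range (u p c)) ^ p := by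
  suffices ∀ j, j ≤ p → (maximalIdeal (MvPowerSeries (Fin n) k)).map (algebraMap _ (Alg p c)) ≤
      Ideal.span (Set.range (u p c)) ^ j from this p le_rfl
  intro j
  induction j with
  | zero => intro; rw [Submodule.pow_zero, Ideal.one_eq_top]; exact le_top
  | succ j ih =>
    intro hj
    rw [Groth.SGA7.PS.maximalIdeal_eq, Groth.SGA7.PS.varIdeal, Ideal.map_span, Ideal.span_le]
    rintro _ ⟨_, ⟨i, rfl⟩, rfl⟩
    rw [SetLike.mem_coe, algebraMap_X]
    refine Ideal.sub_mem _ (Ideal.pow_le_pow_right hj (Ideal.pow_mem_pow (Ideal.subset_span (Set.mem_range_self i)) p)) ?_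
    rw [Submodule.pow_succ]
    exact Ideal.mul_mem_mul (ih (by omega) (Ideal.mem_map_of_mem _ (hc i))) (Ideal.subset_span (Set.mem_range_self i))

theorem span_fixed_eq (a : Fin n → MvPowerSeries (Fin n) k) (σ : Alg p c →ₐ[MvPowerSeries (Fin n) k] Alg p c)
    (hσ : ∀ i, σ (u p c i) = u p c i + algebraMap _ _ (a i)) :
    Ideal.span (Set.range fun t : Alg p c => σ t - t) =
      (Ideal.span (Set.range a)).map (algebraMap _ (Alg p c)) := by
  refine le_antisymm (Ideal.span_le.mpr ?_) ?_
  · rintro _ ⟨t, rfl⟩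
    obtain ⟨q, rfl⟩ := Ideal.Quotient.mk_surjective t
    induction q using MvPolynomial.induction_on with
    | C r =>
      show σ (algebraMap _ _ r) - algebraMap _ _ r ∈ _
      rw [AlgHom.commutes, sub_self]; exact zero_mem _
    | add f g hf hg =>
      have := add_mem hf hg
      simp only [map_add, SetLike.mem_coe] at this ⊢
      convert this using 1; abel
    | mul_X f i hf =>
      simp only [map_mul, SetLike.mem_coe] at hf ⊢
      rw [hσ]
      have h1 : ∀ (x y : Alg p c) (z : Alg p c), x * (u p c i + z) - y * u p c i = (x - y) * u p c i + x * z :=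
        fun x y z => by ring
      rw [h1]
      exact add_mem (Ideal.mul_mem_right _ _ hf)
        (Ideal.mul_mem_left _ _ (Ideal.mem_map_of_mem _ (Ideal.subset_span (Set.mem_range_self i))))
  · rw [Ideal.map_span, Ideal.span_le]
    rintro _ ⟨_, ⟨i, rfl⟩, rfl⟩
    exact Ideal.subset_span ⟨u p c i, by simp [hσ]⟩

theorem length_quotient_map (hp : 2 ≤ p) (hc : ∀ i, c i ∈ maximalIdeal (MvPowerSeries (Fin n) k))
    (J : Ideal (MvPowerSeries (Fin n) k)) :
    Module.length (Alg p c) (Alg p c ⧸ J.map (algebraMap _ (Alg p c))) =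
      ((p ^ n : ℕ) : ℕ∞) * Module.length (MvPowerSeries (Fin n) k) (MvPowerSeries (Fin n) k ⧸ J) := by
  have hlocA := isLocalRing p c hp hc
  obtain ⟨hfree, hrank⟩ := free_finrank p c hp
  have := finite p c hp
  have := Algebra.IsIntegral.of_finite (MvPowerSeries (Fin n) k) (Alg p c)
  have hflat : Module.Flat (MvPowerSeries (Fin n) k) (Alg p c) := inferInstance
  have hloc : IsLocalHom (algebraMap (MvPowerSeries (Fin n) k) (Alg p c)) :=
    ((local_hom_TFAE _).out 0 2).mpr (by
      rw [maximalIdeal_eq p c hp hc]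
      exact (map_maximalIdeal_le_pow p c hp hc).trans (Ideal.pow_le_self (by omega)))
  -- the residue extension is trivial
  have hbij : Function.Bijective (algebraMap (ResidueField (MvPowerSeries (Fin n) k)) (ResidueField (Alg p c))) := by
    refine ⟨RingHom.injective _, fun y => ?_⟩
    obtain ⟨y, rfl⟩ := residue_surjective y
    obtain ⟨r, hr⟩ := MonicVars.exists_sub_algebraMap_mem (asPoly p c) y
    refine ⟨residue _ r, ?_⟩
    rw [← maximalIdeal_eq p c hp hc] at hr
    exact ((Ideal.Quotient.eq.mpr hr).symm : _)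
  have hres : Module.length (ResidueField (MvPowerSeries (Fin n) k)) (ResidueField (Alg p c)) = 1 := by
    rw [← (LinearEquiv.ofBijective (Algebra.linearMap (ResidueField (MvPowerSeries (Fin n) k))
      (ResidueField (Alg p c))) hbij).length_eq]
    exact Module.length_eq_one _ _
  have hrestr := IsLocalRing.length_restrictScalars (MvPowerSeries (Fin n) k) (Alg p c)
    (Alg p c ⧸ (maximalIdeal (MvPowerSeries (Fin n) k)).map (algebraMap _ (Alg p c)))
  rw [hres, mul_one] at hrestr
  let b := Module.finBasis (MvPowerSeries (Fin n) k) (Alg p c)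
  have e : (Alg p c ⧸ (maximalIdeal (MvPowerSeries (Fin n) k)).map (algebraMap _ (Alg p c))) ≃ₗ[MvPowerSeries (Fin n) k]
      (Fin (Module.finrank (MvPowerSeries (Fin n) k) (Alg p c)) → (MvPowerSeries (Fin n) k ⧸ maximalIdeal (MvPowerSeries (Fin n) k))) :=
    ((Algebra.TensorProduct.quotIdealMapEquivTensorQuot (Alg p c) (maximalIdeal (MvPowerSeries (Fin n) k))).toLinearEquiv.restrictScalars (MvPowerSeries (Fin n) k)) ≪≫ₗ
      TensorProduct.comm _ _ _ ≪≫ₗ LinearEquiv.lTensor (MvPowerSeries (Fin n) k ⧸ maximalIdeal (MvPowerSeries (Fin n) k)) b.equivFun ≪≫ₗ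
        TensorProduct.piScalarRight _ _ (MvPowerSeries (Fin n) k ⧸ maximalIdeal (MvPowerSeries (Fin n) k)) _
  have hkap : Module.length (MvPowerSeries (Fin n) k) (MvPowerSeries (Fin n) k ⧸ maximalIdeal (MvPowerSeries (Fin n) k)) = 1 := by
    have : IsSimpleModule (MvPowerSeries (Fin n) k) (MvPowerSeries (Fin n) k ⧸ maximalIdeal (MvPowerSeries (Fin n) k)) :=
      isSimpleModule_iff_quot_maximal.mpr ⟨_, maximalIdeal.isMaximal _, ⟨LinearEquiv.refl _ _⟩⟩
    exact Module.length_eq_one _ _
  rw [e.length_eq, Module.length_pi_of_fintype] at hrestr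
  simp only [hkap, Finset.sum_const, Finset.card_univ, Fintype.card_fin, hrank, nsmul_eq_mul, mul_one] at hrestr
  rw [(Algebra.TensorProduct.quotIdealMapEquivTensorQuot (Alg p c) J).toLinearEquiv.length_eq,
    IsLocalRing.length_baseChange (MvPowerSeries (Fin n) k) (Alg p c) (MvPowerSeries (Fin n) k ⧸ J), ← hrestr,
    mul_comm]

end Groth.ASFamily
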