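import Mathlib
import Groth.Agent.GitQuot.ASFamilyAut
import Groth.Agent.PicAux.RegularUFD

/-! Minor elements of the Artin–Schreier family. -/

set_option autoImplicit false

universe u

open IsLocalRing Groth.EGA41Two

noncomputable section

namespace Groth.ASFamily

/-- A polynomial of degree `< p` with a root `v`, with coefficients fixed by a translation of `v`, vanishes. -/
theorem map_eq_zero_of_shift {S D : Type u} [CommRing S] [CommRing D] [IsDomain D] (p : ℕ) [Fact p.Prime] [CharP D p]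
    (φ : S →+* D) (σ : D →+* D) (hφ : ∀ s, σ (φ s) = φ s) (v d : D) (hd : d ≠ 0) (hv : σ v = v + d)
    (hσd : σ d = d) (q : Polynomial S) (hq : q.natDegree < p) (h : q.eval₂ φ v = 0) : q.map φ = 0 := by
  refine Polynomial.eq_zero_of_natDegree_lt_card_of_eval_eq_zero _ (f := fun j : Fin p => v + (j : ℕ) * d) ?_
    (fun j => ?_) ?_
  · intro i j hij
    have h1 : ((i : ℕ) : D) = ((j : ℕ) : D) := mul_right_cancel₀ hd (add_left_cancel hij)
    exact Fin.ext (CharP.natCast_injOn_Iio D p i.2 j.2 h1)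
  · rw [Polynomial.eval_map]
    generalize (j : ℕ) = m
    induction m with
    | zero => simpa using h
    | succ m ih =>
      have h1 := congr_arg σ ih
      rw [map_zero, Polynomial.hom_eval₂, map_add, map_mul, map_natCast, hv, hσd,
        show σ.comp φ = φ from RingHom.ext hφ] at h1
      rw [← h1]; congr 1; push_cast; ring
  · rw [Fintype.card_fin]
    exact lt_of_le_of_lt Polynomial.natDegree_map_le hq

/-- Translations separate the monomials of degree `< p` in each variable. -/
theorem injective_of_shift {R D : Type u} [CommRing R] [CommRing D] [IsDomain D] [Algebra R D]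
    (hR : Function.Injective (algebraMap R D)) (p : ℕ) [Fact p.Prime] [CharP D p] :
    ∀ {r : ℕ} (f : Fin r → Polynomial R), (∀ i, (f i).Monic) → (∀ i, (f i).natDegree = p) →
      ∀ (z : Fin r → D) (hz : ∀ i, Polynomial.aeval (z i) (f i) = 0) (τ : Fin r → D →ₐ[R] D) (d : Fin r → D),
        (∀ i, d i ≠ 0) → (∀ i j, τ i (z j) = z j + if i = j then d i else 0) → (∀ i, τ i (d i) = d i) →
          Function.Injective (MonicVars.homMk f z hz) := by
  intro r
  induction r with
  | zero =>
    intro f _ _ z hz τ d _ _ _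
    have hsurj : Function.Surjective (algebraMap R (MvPolynomial (Fin 0) R ⧸ MonicVars.finIdeal f)) := by
      intro x
      obtain ⟨q, rfl⟩ := Ideal.Quotient.mk_surjective x
      exact ⟨q.coeff 0, (congr_arg _ (MvPolynomial.eq_C_of_isEmpty q)).symm⟩
    intro x y hxy
    obtain ⟨x, rfl⟩ := hsurj x
    obtain ⟨y, rfl⟩ := hsurj y
    rw [AlgHom.commutes, AlgHom.commutes] at hxy
    rw [hR hxy]
  | succ r ih =>
    intro f hfm hfd z hz τ d hd hτ hτd
    let S := MvPolynomial (Fin r) R ⧸ MonicVars.finIdeal (fun i => f i.succ)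
    let φ : S →ₐ[R] D := MonicVars.homMk _ (fun i => z i.succ) (fun i => hz i.succ)
    have hφ : Function.Injective φ := ih _ (fun i => hfm _) (fun i => hfd _) _ _ (fun i => τ i.succ) (fun i => d i.succ)
      (fun i => hd _) (fun i j => by simp [hτ]) (fun i => hτd _)
    let g := (f 0).map (algebraMap R S)
    have hgm : g.Monic := (hfm 0).map _
    have hg0 : g.eval₂ φ.toRingHom (z 0) = 0 := by
      rw [Polynomial.eval₂_map, show φ.toRingHom.comp (algebraMap R S) = algebraMap R D from RingHom.ext φ.commutes]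
      exact hz 0
    have hfac : MonicVars.homMk f z hz =
        (AdjoinRoot.liftAlgHom g φ (z 0) hg0).comp (MonicVars.consEquiv f).toAlgHom := by
      refine Ideal.Quotient.algHom_ext R (MvPolynomial.algHom_ext fun i => ?_)
      have hcons : MonicVars.consEquiv f (Ideal.Quotient.mk _ (MvPolynomial.X i)) =
          (Fin.cases (AdjoinRoot.root g) (fun j => AdjoinRoot.of g (Ideal.Quotient.mk _ (MvPolynomial.X j))) i :
            AdjoinRoot g) := by
        simp only [MonicVars.consEquiv, AlgEquiv.ofAlgHom_apply]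
        exact MonicVars.homMk_X _ _ _ i
      show MonicVars.homMk f z hz (Ideal.Quotient.mk _ (MvPolynomial.X i)) =
        AdjoinRoot.liftAlgHom g φ (z 0) hg0 (MonicVars.consEquiv f (Ideal.Quotient.mk _ (MvPolynomial.X i)))
      rw [MonicVars.homMk_X, hcons]
      refine Fin.cases ?_ (fun j => ?_) i
      · exact (AdjoinRoot.liftAlgHom_root _ _ _ _).symm
      · show z j.succ = AdjoinRoot.liftAlgHom g φ (z 0) hg0 (AdjoinRoot.of g _)
        rw [AdjoinRoot.liftAlgHom_of, MonicVars.homMk_X]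
    rw [hfac, AlgHom.coe_comp]
    refine Function.Injective.comp ((injective_iff_map_eq_zero _).mpr fun x hx => ?_) (MonicVars.consEquiv f).injective
    obtain ⟨q, rfl⟩ := AdjoinRoot.mk_surjective x
    rw [← Polynomial.modByMonic_add_div q g, map_add, map_mul, AdjoinRoot.mk_self, zero_mul, add_zero] at hx ⊢
    have hev : (q %ₘ g).eval₂ φ.toRingHom (z 0) = 0 := by
      rw [← hx]; exact (AdjoinRoot.lift_mk hg0 _).symm
    have hfix : ∀ s, τ 0 (φ s) = φ s := DFunLike.congr_fun (show (τ 0).comp φ = φ from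
      Ideal.Quotient.algHom_ext R (MvPolynomial.algHom_ext fun j => by
        show τ 0 (φ (Ideal.Quotient.mk _ (MvPolynomial.X j))) = φ (Ideal.Quotient.mk _ (MvPolynomial.X j))
        rw [MonicVars.homMk_X, hτ]
        simp [(Fin.succ_ne_zero j).symm]))
    have hdeg : (q %ₘ g).natDegree < p := by
      rcases subsingleton_or_nontrivial S with hS | hS
      · rw [Subsingleton.elim (q %ₘ g) 0, Polynomial.natDegree_zero]; exact (Fact.out : p.Prime).pos
      · have hgd : g.natDegree = p := by rw [(hfm 0).natDegree_map, hfd]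
        have hne : g ≠ 1 := fun h => by
          rw [h, Polynomial.natDegree_one] at hgd; exact (Fact.out : p.Prime).ne_zero hgd.symm
        exact hgd ▸ Polynomial.natDegree_modByMonic_lt q hgm hne
    have h0 := map_eq_zero_of_shift p φ.toRingHom (τ 0).toRingHom hfix (z 0) (d 0) (hd 0)
      (by simpa using hτ 0 0) (hτd 0) (q %ₘ g) hdeg hev
    rw [(Polynomial.map_eq_zero_iff (f := φ.toRingHom) hφ).mp h0, map_zero]

/-- Elements whose product with a power of `d` lies in `S`. -/
def powColon {R A : Type u} [CommRing R] [CommRing A] [Algebra R A] (S : Subalgebra R A) (d : A) (hd : d ∈ S) :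
    Subalgebra R A where
  carrier := {t | ∃ N : ℕ, d ^ N * t ∈ S}
  mul_mem' := by
    rintro x y ⟨N, hx⟩ ⟨M, hy⟩
    exact ⟨N + M, by rw [show d ^ (N + M) * (x * y) = (d ^ N * x) * (d ^ M * y) by ring]; exact mul_mem hx hy⟩
  add_mem' := by
    rintro x y ⟨N, hx⟩ ⟨M, hy⟩
    exact ⟨N + M, by
      rw [show d ^ (N + M) * (x + y) = d ^ M * (d ^ N * x) + d ^ N * (d ^ M * y) by ring]
      exact add_mem (mul_mem (pow_mem hd _) hx) (mul_mem (pow_mem hd _) hy)⟩
  algebraMap_mem' r := ⟨0, by rw [pow_zero, one_mul]; exact S.algebraMap_mem r⟩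

variable {k : Type u} [Field k] {n : ℕ} (p : ℕ) [Fact p.Prime] [CharP k p]
  (a : Fin n → MvPowerSeries (Fin n) k)

omit [Fact p.Prime] [CharP k p] in
theorem exists_pow_mul_mem (c : Fin n → MvPowerSeries (Fin n) k) (S : Subalgebra (MvPowerSeries (Fin n) k) (Alg p c))
    (d : Alg p c) (hd : d ∈ S) (h : ∀ i, d * u p c i ∈ S) (t : Alg p c) : ∃ N : ℕ, d ^ N * t ∈ S := by
  have hle : (⊤ : Subalgebra (MvPowerSeries (Fin n) k) (Alg p c)) ≤ powColon S d hd := by
    rw [← adjoin_u p c, Algebra.adjoin_le_iff]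
    rintro _ ⟨i, rfl⟩
    exact ⟨1, by rw [pow_one]; exact h i⟩
  exact hle (show t ∈ ⊤ from trivial)

theorem pow_eq (i : Fin n) : u p (cc p a) i ^ p =
    algebraMap (MvPowerSeries (Fin n) k) (Alg p (cc p a)) (MvPowerSeries.X i) +
      algebraMap (MvPowerSeries (Fin n) k) (Alg p (cc p a)) (a i ^ (p - 1)) * u p (cc p a) i :=
  ((eq_sub_iff_add_eq).mp (algebraMap_X p (cc p a) i)).symm

variable (a' : Fin n → MvPowerSeries (Fin n) k) (μ : MvPowerSeries (Fin n) k) (i₀ : Fin n)

/-- The minor elements. -/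
abbrev minor (j : Fin n) : Alg p (cc p fun i => μ * a' i) :=
  algebraMap _ _ (a' i₀) * u p _ j - algebraMap _ _ (a' j) * u p _ i₀

/-- The relation of a minor element. -/
abbrev minorPoly (j : Fin n) : Polynomial (MvPowerSeries (Fin n) k) :=
  Polynomial.X ^ p - Polynomial.C ((μ * a' i₀ * a' j) ^ (p - 1)) * Polynomial.X -
    Polynomial.C (a' i₀ ^ p * MvPowerSeries.X j - a' j ^ p * MvPowerSeries.X i₀)

theorem aeval_minor (j : Fin n) : Polynomial.aeval (minor p a' μ i₀ j) (minorPoly p a' μ i₀ j) = 0 := by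
  have := charP p fun i => μ * a' i
  obtain ⟨q, hq⟩ : ∃ q, p = q + 1 := ⟨p - 1, by have := hp2 p; omega⟩
  simp only [minorPoly, map_sub, map_mul, map_pow, Polynomial.aeval_X, Polynomial.aeval_C]
  rw [sub_pow_char, mul_pow, mul_pow _ (u p _ i₀), pow_eq, pow_eq]
  subst hq
  simp only [add_tsub_cancel_right, map_mul, map_pow]
  ring

theorem monic_minorPoly (j : Fin n) : (minorPoly p a' μ i₀ j).Monic ∧ (minorPoly p a' μ i₀ j).natDegree = p := by
  have hdeg : ∀ c e : MvPowerSeries (Fin n) k,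
      (Polynomial.C c * Polynomial.X + Polynomial.C e).degree < ((Polynomial.X : Polynomial (MvPowerSeries (Fin n) k)) ^ p).degree :=
    fun c e => by
      rw [Polynomial.degree_X_pow]
      exact lt_of_le_of_lt Polynomial.degree_linear_le (by exact_mod_cast (Fact.out : p.Prime).one_lt)
  rw [minorPoly, sub_sub]
  exact ⟨(Polynomial.monic_X_pow p).sub_of_left (hdeg _ _), Polynomial.natDegree_eq_of_degree_eq_some
    (by rw [Polynomial.degree_sub_eq_left_of_degree_lt (hdeg _ _), Polynomial.degree_X_pow])⟩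

omit [Fact p.Prime] [CharP k p] in
theorem ne_zero_of_cop (hn : 2 ≤ n) (ham : ∀ i, MvPowerSeries.constantCoeff (a' i) = 0)
    (hcop : ∀ i j, i ≠ j → IsRelPrime (a' i) (a' j)) (i : Fin n) : a' i ≠ 0 := by
  intro h0
  have : Nontrivial (Fin n) := Fin.nontrivial_iff_two_le.mpr hn
  obtain ⟨j, hj⟩ := exists_ne i
  have h1 := hcop i j hj.symm
  rw [h0, isRelPrime_zero_left, MvPowerSeries.isUnit_iff_constantCoeff, ham j] at h1
  exact not_isUnit_zero h1

theorem cc_mul_mem (ham : ∀ i, MvPowerSeries.constantCoeff (a' i) = 0) (i : Fin n) :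
    cc p (fun i => μ * a' i) i ∈ maximalIdeal (MvPowerSeries (Fin n) k) :=
  cc_mem p _ (fun i => by rw [map_mul, ham i, mul_zero]) i

theorem injective_aeval_minor (hμ : μ ≠ 0) (ha : ∀ i, a' i ≠ 0) (ham : ∀ i, MvPowerSeries.constantCoeff (a' i) = 0)
    {r : ℕ} (e : Fin r → Fin n) (he : Function.Injective e) (he0 : ∀ j, e j ≠ i₀) :
    Function.Injective (MonicVars.homMk (fun j => minorPoly p a' μ i₀ (e j)) (fun j => minor p a' μ i₀ (e j))
      fun j => aeval_minor p a' μ i₀ (e j)) := by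
  have hinj := injective_algebraMap p (cc p fun i => μ * a' i) (hp2 p)
  have := isDomain p _ (hp2 p) (cc_mul_mem p a' μ ham)
  have := charP p fun i => μ * a' i
  refine injective_of_shift hinj p _ (fun j => (monic_minorPoly p a' μ i₀ _).1) (fun j => (monic_minorPoly p a' μ i₀ _).2)
    _ _ (fun j => (aut p (fun i => μ * a' i) (Multiplicative.ofAdd (Pi.single (e j) 1))).toAlgHom)
    (fun j => algebraMap _ _ (a' i₀) * algebraMap _ _ (μ * a' (e j)))
    (fun j => mul_ne_zero (fun h => ha i₀ ((map_eq_zero_iff _ hinj).mp h))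
      (fun h => mul_ne_zero hμ (ha _) ((map_eq_zero_iff _ hinj).mp h)))
    (fun i j => ?_) (fun j => by simp)
  show aut p _ _ (minor p a' μ i₀ (e j)) = _
  rw [map_sub, map_mul, map_mul, AlgEquiv.commutes, AlgEquiv.commutes, aut_u, aut_u]
  rcases eq_or_ne i j with rfl | hij
  · rw [if_pos rfl, toAdd_ofAdd, Pi.single_eq_same, Pi.single_eq_of_ne (he0 i).symm]
    simp [nu]
    ring
  · rw [if_neg hij, toAdd_ofAdd, Pi.single_eq_of_ne (he.ne (Ne.symm hij)), Pi.single_eq_of_ne (he0 i).symm]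
    simp [nu]

/-- Invariants after inverting `μ a_{i₀}`. -/
theorem exists_pow_mul_mem_adjoin_minor (hμ : μ ≠ 0) (ha : ∀ i, a' i ≠ 0)
    (ham : ∀ i, MvPowerSeries.constantCoeff (a' i) = 0)
    (σ : Alg p (cc p fun i => μ * a' i) →ₐ[MvPowerSeries (Fin n) k] Alg p (cc p fun i => μ * a' i))
    (hσ : ∀ i, σ (u p _ i) = u p _ i + algebraMap _ _ (μ * a' i)) (t : Alg p (cc p fun i => μ * a' i)) (ht : σ t = t) :
    ∃ N : ℕ, algebraMap _ _ (μ * a' i₀) ^ N * t ∈
      Algebra.adjoin (MvPowerSeries (Fin n) k) (Set.range fun j : {j : Fin n // j ≠ i₀} => minor p a' μ i₀ j.1) := by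
  have hinj := injective_algebraMap p (cc p fun i => μ * a' i) (hp2 p)
  have := isDomain p _ (hp2 p) (cc_mul_mem p a' μ ham)
  have := charP p fun i => μ * a' i
  let Z : Set (Alg p (cc p fun i => μ * a' i)) := Set.range fun j : {j : Fin n // j ≠ i₀} => minor p a' μ i₀ j.1
  let S := Algebra.adjoin (MvPowerSeries (Fin n) k) (insert (u p (cc p fun i => μ * a' i) i₀) Z)
  have hu0 : u p (cc p fun i => μ * a' i) i₀ ∈ S := Algebra.subset_adjoin (Set.mem_insert _ _)
  obtain ⟨N, hN⟩ := exists_pow_mul_mem p _ S (algebraMap _ _ (a' i₀)) (Subalgebra.algebraMap_mem _ _) (fun i => by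
    rcases eq_or_ne i i₀ with rfl | hi
    · exact mul_mem (Subalgebra.algebraMap_mem _ _) hu0
    · rw [show algebraMap _ _ (a' i₀) * u p (cc p fun i => μ * a' i) i =
        minor p a' μ i₀ i + algebraMap _ _ (a' i) * u p _ i₀ by simp [minor]]
      exact add_mem (Algebra.subset_adjoin (Set.mem_insert_of_mem _ ⟨⟨i, hi⟩, rfl⟩))
        (mul_mem (Subalgebra.algebraMap_mem _ _) hu0)) t
  refine ⟨N, ?_⟩
  rw [map_mul, mul_pow, mul_assoc]
  refine mul_mem (pow_mem (Subalgebra.algebraMap_mem _ _) _) ?_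
  refine mem_of_fixed p (Algebra.adjoin (MvPowerSeries (Fin n) k) Z) (u p _ i₀) (algebraMap _ _ (μ * a' i₀))
    (fun h => mul_ne_zero hμ (ha i₀) ((map_eq_zero_iff _ hinj).mp h))
    _ _ (Subalgebra.algebraMap_mem _ (cc p (fun i => μ * a' i) i₀)) (Subalgebra.algebraMap_mem _ (MvPowerSeries.X i₀))
    (algebraMap_X p _ i₀).symm σ ?_ (hσ i₀) (σ.commutes _)
    (s := insert (u p _ i₀) Z) (Set.insert_subset_insert Algebra.subset_adjoin) _ hN ?_
  · intro b hb
    refine (AlgHom.eqOn_adjoin_iff (φ := σ) (ψ := AlgHom.id _ _)).mpr ?_ hb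
    rintro _ ⟨j, rfl⟩
    simp only [minor, AlgHom.id_apply, map_sub, map_mul, AlgHom.commutes, hσ]
    ring
  · rw [map_mul, map_pow, AlgHom.commutes, ht]

end Groth.ASFamily
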