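import Mathlib
import Groth.Agent.GitQuot.ASFamilyMinor

/-! Invariants of the orthogonal subgroups in the Artin–Schreier family. -/

set_option autoImplicit false

universe u

open IsLocalRing Groth.EGA41Two

noncomputable section

namespace Groth.ASFamily

variable {k : Type u} [Field k] {n : ℕ} (p : ℕ) [Fact p.Prime] [CharP k p]
  (a : Fin n → MvPowerSeries (Fin n) k) (μ : MvPowerSeries (Fin n) k) (s : Fin n → ZMod p)

/-- The support of `s`. -/
abbrev supp : Finset (Fin n) := Finset.univ.filter fun i => s i ≠ 0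

/-- The product of `a_j`, `j ≠ i` in the support. -/
abbrev co (i : Fin n) : MvPowerSeries (Fin n) k := ∏ j ∈ (supp p s).erase i, a j

/-- The element `z_s`. -/
abbrev zed : Alg p (cc p fun i => μ * a i) :=
  ∑ i ∈ supp p s, algebraMap _ _ (nu p (s i) * co p a s i) * u p _ i

/-- The relation of `z_s`. -/
abbrev zedPoly : Polynomial (MvPowerSeries (Fin n) k) :=
  Polynomial.X ^ p - Polynomial.C ((μ * ∏ i ∈ supp p s, a i) ^ (p - 1)) * Polynomial.X -
    Polynomial.C (∑ i ∈ supp p s, nu p (s i) * co p a s i ^ p * MvPowerSeries.X i)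

theorem monic_zedPoly : (zedPoly p a μ s).Monic ∧ (zedPoly p a μ s).natDegree = p := by
  have hdeg : ∀ c e : MvPowerSeries (Fin n) k,
      (Polynomial.C c * Polynomial.X + Polynomial.C e).degree < ((Polynomial.X : Polynomial (MvPowerSeries (Fin n) k)) ^ p).degree :=
    fun c e => by
      rw [Polynomial.degree_X_pow]
      exact lt_of_le_of_lt Polynomial.degree_linear_le (by exact_mod_cast (Fact.out : p.Prime).one_lt)
  rw [zedPoly, sub_sub]
  exact ⟨(Polynomial.monic_X_pow p).sub_of_left (hdeg _ _), Polynomial.natDegree_eq_of_degree_eq_some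
    (by rw [Polynomial.degree_sub_eq_left_of_degree_lt (hdeg _ _), Polynomial.degree_X_pow])⟩

theorem aeval_zed : Polynomial.aeval (zed p a μ s) (zedPoly p a μ s) = 0 := by
  have := charP p fun i => μ * a i
  have hterm : ∀ i ∈ supp p s, algebraMap (MvPowerSeries (Fin n) k) (Alg p (cc p fun i => μ * a i)) (nu p (s i) * co p a s i) ^ p *
      u p _ i ^ p = algebraMap _ _ ((μ * ∏ i ∈ supp p s, a i) ^ (p - 1)) *
        (algebraMap _ _ (nu p (s i) * co p a s i) * u p _ i) +
      algebraMap _ _ (nu p (s i) * co p a s i ^ p * MvPowerSeries.X i) := by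
    intro i hi
    have hα : (∏ j ∈ supp p s, a j) = a i * co p a s i := (Finset.mul_prod_erase _ _ hi).symm
    have key : (nu p (s i) * co p a s i) ^ p * (μ * a i) ^ (p - 1) =
        (μ * ∏ i ∈ supp p s, a i) ^ (p - 1) * (nu p (s i) * co p a s i) := by
      rw [hα, mul_pow, nu_pow, show co p a s i ^ p = co p a s i ^ (p - 1) * co p a s i by
        rw [← pow_succ, show p - 1 + 1 = p by have := hp2 p; omega]]
      ring
    rw [pow_eq p (fun i => μ * a i) i, mul_add, ← map_pow, ← map_mul, ← mul_assoc, ← map_mul, key, mul_pow, nu_pow]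
    simp only [map_mul, map_pow]
    ring
  simp only [zedPoly, map_sub, Polynomial.aeval_X, Polynomial.aeval_C, map_mul, map_pow]
  rw [zed, sum_pow_char, Finset.mul_sum, sub_sub, map_sum, ← Finset.sum_add_distrib, sub_eq_zero]
  refine Finset.sum_congr rfl fun i hi => ?_
  rw [mul_pow, hterm i hi]
  simp only [map_mul, map_pow]

theorem aut_zed (ν : Fin n → ZMod p) :
    aut p (fun i => μ * a i) (Multiplicative.ofAdd ν) (zed p a μ s) =
      zed p a μ s + algebraMap _ _ (μ * (∏ i ∈ supp p s, a i) * nu p (∑ i, ν i * s i)) := by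
  have hsum : nu p (∑ i, ν i * s i) = (∑ i ∈ supp p s, nu p (ν i) * nu p (s i) : MvPowerSeries (Fin n) k) := by
    rw [← Finset.sum_filter_of_ne (p := fun i => s i ≠ 0) (fun i _ h => right_ne_zero_of_mul h)]
    simp only [nu, map_sum, map_mul]
  rw [hsum, Finset.mul_sum, map_sum, zed, map_sum, ← Finset.sum_add_distrib]
  refine Finset.sum_congr rfl fun i hi => ?_
  rw [map_mul (aut p _ _), AlgEquiv.commutes, aut_u, toAdd_ofAdd, mul_add, ← map_mul]
  congr 2
  rw [show (∏ j ∈ supp p s, a j) = a i * co p a s i from (Finset.mul_prod_erase _ _ hi).symm]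
  ring

theorem eq_zero_of_aeval_zed (hμ : μ ≠ 0) (ha : ∀ i, a i ≠ 0) (ham : ∀ i, MvPowerSeries.constantCoeff (a i) = 0)
    (hs : s ≠ 0) (q : Polynomial (MvPowerSeries (Fin n) k)) (hq : q.natDegree < p)
    (h : Polynomial.aeval (zed p a μ s) q = 0) : q = 0 := by
  have hinj := injective_algebraMap p (cc p fun i => μ * a i) (hp2 p)
  have := isDomain p _ (hp2 p) (cc_mul_mem p a μ ham)
  have := charP p fun i => μ * a i
  obtain ⟨i₁, hi₁⟩ : ∃ i, s i ≠ 0 := Function.ne_iff.mp hs
  let τ := aut p (fun i => μ * a i) (Multiplicative.ofAdd (Pi.single i₁ 1))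
  have hd : μ * (∏ i ∈ supp p s, a i) * nu p (∑ i, (Pi.single i₁ 1 : Fin n → ZMod p) i * s i) ≠ 0 := by
    rw [Finset.sum_eq_single i₁ (fun j _ hj => by rw [Pi.single_eq_of_ne hj, zero_mul]) (by simp),
      Pi.single_eq_same, one_mul]
    refine mul_ne_zero (mul_ne_zero hμ (Finset.prod_ne_zero_iff.mpr fun i _ => ha i)) fun h => hi₁ ?_
    rw [nu, map_eq_zero_iff _ (algebraMap k (MvPowerSeries (Fin n) k)).injective] at h
    exact (map_eq_zero_iff _ (ZMod.castHom_injective k)).mp h
  have h0 := map_eq_zero_of_shift p (algebraMap _ (Alg p (cc p fun i => μ * a i))) τ.toAlgHom.toRingHom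
    τ.commutes (zed p a μ s) _ (fun h => hd ((map_eq_zero_iff _ hinj).mp h))
    (aut_zed p a μ s _) (τ.commutes _) q hq h
  exact (Polynomial.map_eq_zero_iff hinj).mp h0

theorem ker_aeval_zed (hμ : μ ≠ 0) (ha : ∀ i, a i ≠ 0) (ham : ∀ i, MvPowerSeries.constantCoeff (a i) = 0)
    (hs : s ≠ 0) : RingHom.ker (Polynomial.aeval (zed p a μ s) :
      Polynomial (MvPowerSeries (Fin n) k) →ₐ[MvPowerSeries (Fin n) k] _) = Ideal.span {zedPoly p a μ s} := by
  obtain ⟨hm, hd⟩ := monic_zedPoly p a μ s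
  ext q
  rw [RingHom.mem_ker, Ideal.mem_span_singleton]
  constructor
  · intro h
    rw [← Polynomial.aeval_modByMonic_eq_self_of_root (aeval_zed p a μ s)] at h
    have hne : zedPoly p a μ s ≠ 1 := fun h1 => by
      rw [h1, Polynomial.natDegree_one] at hd; exact (Fact.out : p.Prime).ne_zero hd.symm
    rw [← Polynomial.modByMonic_eq_zero_iff_dvd hm]
    exact eq_zero_of_aeval_zed p a μ s hμ ha ham hs _ ((Polynomial.natDegree_modByMonic_lt q hm hne).trans_eq hd) h
  · rintro ⟨w, rfl⟩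
    rw [map_mul, aeval_zed, zero_mul]

theorem aut_eq_self_of_mem_range (ν : Fin n → ZMod p) (hν : ∑ i, ν i * s i = 0) (t : Alg p (cc p fun i => μ * a i))
    (ht : t ∈ (Polynomial.aeval (zed p a μ s) : Polynomial (MvPowerSeries (Fin n) k) →ₐ[MvPowerSeries (Fin n) k] _).range) :
    aut p (fun i => μ * a i) (Multiplicative.ofAdd ν) t = t := by
  obtain ⟨q, rfl⟩ := ht
  show aut p (fun i => μ * a i) (Multiplicative.ofAdd ν) (Polynomial.aeval (zed p a μ s) q) = _
  rw [← Polynomial.aeval_algHom_apply, aut_zed, hν]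
  simp [nu]

theorem exists_pow_mul_eq_aeval (hμ : μ ≠ 0) (ha : ∀ i, a i ≠ 0) (ham : ∀ i, MvPowerSeries.constantCoeff (a i) = 0)
    (i₁ : Fin n) (hi₁ : s i₁ ≠ 0) (t : Alg p (cc p fun i => μ * a i))
    (h : ∀ ν : Fin n → ZMod p, ∑ i, ν i * s i = 0 → aut p (fun i => μ * a i) (Multiplicative.ofAdd ν) t = t) :
    ∃ N : ℕ, ∀ M, N ≤ M → algebraMap _ _ (nu p (s i₁) * co p a s i₁) ^ M * t ∈
      Algebra.adjoin (MvPowerSeries (Fin n) k) ({zed p a μ s} : Set (Alg p (cc p fun i => μ * a i))) := by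
  have hinj := injective_algebraMap p (cc p fun i => μ * a i) (hp2 p)
  have := isDomain p _ (hp2 p) (cc_mul_mem p a μ ham)
  have := charP p fun i => μ * a i
  let S := fun T : Finset (Fin n) => Algebra.adjoin (MvPowerSeries (Fin n) k)
    (insert (zed p a μ s) (u p (cc p fun i => μ * a i) '' T))
  let δ : Alg p (cc p fun i => μ * a i) := algebraMap _ _ (nu p (s i₁) * co p a s i₁)
  have hu : ∀ j, j ≠ i₁ → u p _ j ∈ S (Finset.univ.erase i₁) := fun j hj =>
    Algebra.subset_adjoin (Set.mem_insert_of_mem _ (Set.mem_image_of_mem _ (by simp [hj])))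
  obtain ⟨N, hN⟩ := exists_pow_mul_mem p _ (S (Finset.univ.erase i₁)) δ (Subalgebra.algebraMap_mem _ _) (fun i => by
    rcases eq_or_ne i i₁ with rfl | hi
    · rw [show δ * u p _ i = zed p a μ s - ∑ j ∈ (supp p s).erase i, algebraMap _ _ (nu p (s j) * co p a s j) * u p _ j by
        rw [zed, ← Finset.add_sum_erase _ _ (show i ∈ supp p s by simp [hi₁]), add_sub_cancel_right]]
      exact sub_mem (Algebra.subset_adjoin (Set.mem_insert _ _)) (sum_mem fun j hj =>
        mul_mem (Subalgebra.algebraMap_mem _ _) (hu j (Finset.ne_of_mem_erase hj)))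
    · exact mul_mem (Subalgebra.algebraMap_mem _ _) (hu i hi)) t
  refine ⟨N, fun M hM => ?_⟩
  have hM' : δ ^ M * t ∈ S (Finset.univ.erase i₁) := by
    rw [← Nat.sub_add_cancel hM, pow_add, mul_assoc]
    exact mul_mem (pow_mem (Subalgebra.algebraMap_mem _ _) _) hN
  suffices ∀ T : Finset (Fin n), i₁ ∉ T → δ ^ M * t ∈ S T → δ ^ M * t ∈ S ∅ by
    have h0 := this _ (Finset.notMem_erase i₁ _) hM'
    simp only [S, Finset.coe_empty, Set.image_empty, insert_empty_eq] at h0
    exact h0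
  intro T
  induction T using Finset.induction with
  | empty => exact fun _ h => h
  | @insert j T hjT ih =>
    intro hi1 ht
    rw [Finset.mem_insert, not_or] at hi1
    let ν : Fin n → ZMod p := Pi.single j 1 + Pi.single i₁ (-(s j / s i₁))
    have hν : ∑ i, ν i * s i = 0 := by
      simp only [ν, Pi.add_apply, add_mul, Finset.sum_add_distrib]
      rw [Finset.sum_eq_single j (fun l _ hl => by rw [Pi.single_eq_of_ne hl, zero_mul]) (by simp),
        Finset.sum_eq_single i₁ (fun l _ hl => by rw [Pi.single_eq_of_ne hl, zero_mul]) (by simp),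
        Pi.single_eq_same, Pi.single_eq_same]
      field_simp
      ring
    let τ := (aut p (fun i => μ * a i) (Multiplicative.ofAdd ν)).toAlgHom
    refine ih hi1.2 (mem_of_fixed p (S T) (s := insert (zed p a μ s) (u p _ '' (insert j T : Finset (Fin n))))
      (u p _ j) (algebraMap _ _ (μ * a j)) (fun hz => mul_ne_zero hμ (ha j) ((map_eq_zero_iff _ hinj).mp hz))
      _ _ (Subalgebra.algebraMap_mem _ (cc p (fun i => μ * a i) j)) (Subalgebra.algebraMap_mem _ (MvPowerSeries.X j))
      (algebraMap_X p _ j).symm τ ?_ ?_ (τ.commutes _) ?_ _ ht ?_)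
    · intro b hb
      refine (AlgHom.eqOn_adjoin_iff (φ := τ) (ψ := AlgHom.id _ _)).mpr ?_ hb
      rintro _ (rfl | ⟨l, hl, rfl⟩)
      · show aut p _ _ (zed p a μ s) = _
        rw [aut_zed, hν, show (nu p 0 : MvPowerSeries (Fin n) k) = 0 by simp [nu], mul_zero, map_zero, add_zero]; rfl
      · have h1 : l ≠ j := fun h => hjT (h ▸ hl)
        have h2 : l ≠ i₁ := fun h => hi1.2 (h ▸ hl)
        show aut p _ _ (u p _ l) = _
        rw [aut_u]; simp [ν, nu, h1, h2]
    · show aut p _ _ (u p _ j) = _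
      rw [aut_u]; simp [ν, nu, Ne.symm hi1.1]
    · rw [Finset.coe_insert, Set.image_insert_eq, Set.insert_comm]
      exact Set.insert_subset_insert Algebra.subset_adjoin
    · show aut p _ _ (algebraMap _ _ (nu p (s i₁) * co p a s i₁) ^ M * t) = _
      rw [map_mul (aut p _ _), map_pow (aut p _ _), AlgEquiv.commutes, h ν hν]

theorem mem_range_of_fixed_orth (hμ : μ ≠ 0) (ha : ∀ i, a i ≠ 0) (ham : ∀ i, MvPowerSeries.constantCoeff (a i) = 0)
    (hcop : ∀ i j, i ≠ j → IsRelPrime (a i) (a j)) (hs : s ≠ 0) (t : Alg p (cc p fun i => μ * a i))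
    (h : ∀ ν : Fin n → ZMod p, ∑ i, ν i * s i = 0 → aut p (fun i => μ * a i) (Multiplicative.ofAdd ν) t = t) :
    t ∈ (Polynomial.aeval (zed p a μ s) : Polynomial (MvPowerSeries (Fin n) k) →ₐ[MvPowerSeries (Fin n) k] _).range := by
  have hinj := injective_algebraMap p (cc p fun i => μ * a i) (hp2 p)
  have := isDomain p _ (hp2 p) (cc_mul_mem p a μ ham)
  have := charP p fun i => μ * a i
  haveI : IsRegularLocalRing (MvPowerSeries (Fin n) k) := Groth.Calg6.isRegularLocalRing_mvPowerSeries k n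
  haveI : IsDomain (MvPowerSeries (Fin n) k) := NoZeroDivisors.to_isDomain _
  haveI := Groth.PicAux.ufd_of_isRegularLocalRing (MvPowerSeries (Fin n) k)
  obtain ⟨hm, hd⟩ := monic_zedPoly p a μ s
  have hne : zedPoly p a μ s ≠ 1 := fun h1 => by
    rw [h1, Polynomial.natDegree_one] at hd; exact (Fact.out : p.Prime).ne_zero hd.symm
  let δ : Fin n → MvPowerSeries (Fin n) k := fun i => nu p (s i) * co p a s i
  have hδ : ∀ i, s i ≠ 0 → δ i ≠ 0 := fun i hi => mul_ne_zero (fun hz => hi (by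
    rw [nu, map_eq_zero_iff _ (algebraMap k (MvPowerSeries (Fin n) k)).injective] at hz
    exact (map_eq_zero_iff _ (ZMod.castHom_injective k)).mp hz)) (Finset.prod_ne_zero_iff.mpr fun j _ => ha j)
  have hN : ∀ i ∈ supp p s, ∃ N : ℕ, ∀ M, N ≤ M → algebraMap _ _ (δ i) ^ M * t ∈
      Algebra.adjoin (MvPowerSeries (Fin n) k) ({zed p a μ s} : Set (Alg p (cc p fun i => μ * a i))) :=
    fun i hi => exists_pow_mul_eq_aeval p a μ s hμ ha ham i (by simpa using hi) t h
  choose! N hN using hN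
  let M := (supp p s).sum N
  have hq : ∀ i ∈ supp p s, ∃ q : Polynomial (MvPowerSeries (Fin n) k), q.natDegree < p ∧
      Polynomial.aeval (zed p a μ s) q = algebraMap _ _ (δ i) ^ M * t := by
    intro i hi
    obtain ⟨q, hq⟩ := Algebra.adjoin_mem_exists_aeval (R := MvPowerSeries (Fin n) k) (x := zed p a μ s)
      (hN i hi M (Finset.single_le_sum (fun j _ => Nat.zero_le _) hi))
    exact ⟨q %ₘ zedPoly p a μ s, (Polynomial.natDegree_modByMonic_lt q hm hne).trans_eq hd,
      (Polynomial.aeval_modByMonic_eq_self_of_root (aeval_zed p a μ s)).trans hq⟩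
  choose! q hqd hq using hq
  obtain ⟨i₁, hi₁⟩ : ∃ i, s i ≠ 0 := Function.ne_iff.mp hs
  have hmem : i₁ ∈ supp p s := by simp [hi₁]
  have hdvd : Polynomial.C (δ i₁ ^ M) ∣ q i₁ := by
    rw [Polynomial.C_dvd_iff_dvd_coeff]
    intro e
    have hu : IsUnit (nu p (s i₁) : MvPowerSeries (Fin n) k) :=
      ((IsUnit.mk0 _ hi₁).map (ZMod.castHom (dvd_refl p) k)).map (algebraMap k _)
    show (nu p (s i₁) * co p a s i₁) ^ M ∣ _
    rw [mul_pow, (hu.pow M).mul_left_dvd, ← Finset.prod_pow]
    refine Finset.prod_dvd_of_isRelPrime (fun l _ l' _ hll' => (hcop l l' hll').pow) fun l hl => ?_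
    obtain ⟨hl1, hl2⟩ := Finset.mem_erase.mp hl
    have hcross : Polynomial.C (δ l ^ M) * q i₁ - Polynomial.C (δ i₁ ^ M) * q l = 0 := by
      refine eq_zero_of_aeval_zed p a μ s hμ ha ham hs _ ?_ ?_
      · refine lt_of_le_of_lt (Polynomial.natDegree_sub_le _ _) (max_lt ?_ ?_)
        · exact lt_of_le_of_lt (Polynomial.natDegree_C_mul_le _ _) (hqd i₁ hmem)
        · exact lt_of_le_of_lt (Polynomial.natDegree_C_mul_le _ _) (hqd l hl2)
      · rw [map_sub, map_mul, map_mul, Polynomial.aeval_C, Polynomial.aeval_C, hq _ hmem, hq _ hl2, map_pow, map_pow]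
        ring
    have hc := congr_arg (fun P => Polynomial.coeff P e) hcross
    simp only [Polynomial.coeff_sub, Polynomial.coeff_C_mul, Polynomial.coeff_zero, sub_eq_zero] at hc
    have h1 : a l ^ M ∣ δ l ^ M * (q i₁).coeff e := by
      rw [hc]
      exact dvd_mul_of_dvd_left (pow_dvd_pow_of_dvd (dvd_mul_of_dvd_right (Finset.dvd_prod_of_mem _ hl) _) M) _
    refine IsRelPrime.dvd_of_dvd_mul_left ?_ h1
    refine (IsRelPrime.mul_right ?_ (IsRelPrime.prod_right fun j hj => ?_)).pow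
    · exact (((IsUnit.mk0 _ (by simpa using hl2 : s l ≠ 0)).map (ZMod.castHom (dvd_refl p) k)).map
        (algebraMap k _)).isRelPrime_right
    · exact hcop l j (Finset.ne_of_mem_erase hj).symm
  obtain ⟨w, hw⟩ := hdvd
  refine ⟨w, ?_⟩
  show Polynomial.aeval (zed p a μ s) w = t
  have h2 := hq i₁ hmem
  rw [hw, map_mul, Polynomial.aeval_C, map_pow] at h2
  exact mul_left_cancel₀ (pow_ne_zero _ fun hz => hδ i₁ hi₁ ((map_eq_zero_iff _ hinj).mp hz)) h2

end Groth.ASFamily
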