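import Mathlib

/-! A chain of negative weighted sum under gap bounds, via the lower convex envelope. -/

set_option autoImplicit false

namespace Groth.ChainSum

open Finset

variable {n : ℕ}

/-- Positive part. -/
noncomputable def pp (x : ℝ) : ℝ := max x 0

theorem pp_nonneg (x : ℝ) : 0 ≤ pp x := le_max_right _ _
theorem le_pp (x : ℝ) : x ≤ pp x := le_max_left _ _

/-- The value of a chain. -/
def val (e r : Fin (n + 1) → ℝ) {μ : ℕ} (c : Fin (μ + 1) → Fin (n + 1)) : ℝ :=
  ∑ j : Fin μ, (e (c j.succ) - e (c j.castSucc)) * (r (c j.succ) + r (c j.castSucc))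

/-- Data at `c`: a chain to the end and a convex minorant interpolating it. -/
def Good (e r : Fin (n + 1) → ℝ) (c : Fin (n + 1)) : Prop :=
  ∃ (μ : ℕ) (ch : Fin (μ + 1) → Fin (n + 1)) (L : List (ℝ × ℝ)),
    StrictMono ch ∧ ch 0 = c ∧ ch (Fin.last μ) = Fin.last n ∧
    (∀ p ∈ L, e c < p.1 ∧ p.1 ≤ e (Fin.last n) ∧ 0 ≤ p.2) ∧
    val e r ch = 2 * r (Fin.last n) * (e (Fin.last n) - e c) + (L.map fun p => p.2 * (p.1 - e c) ^ 2).sum ∧
    (∀ i, c ≤ i → r (Fin.last n) + (L.map fun p => p.2 * pp (p.1 - e i)).sum ≤ r i) ∧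
    r (Fin.last n) + (L.map fun p => p.2 * (p.1 - e c)).sum = r c ∧
    ((L.map Prod.snd).sum = 0 ∨ ∃ i, c < i ∧ e c < e i ∧ r i - r c = -(L.map Prod.snd).sum * (e i - e c))

theorem good_of_gap (e r : Fin (n + 1) → ℝ) (he : Monotone e) (hr : Antitone r) :
    ∀ c : Fin (n + 1), (∀ i, c < i → e c < e i) → Good e r c := by
  intro c
  induction c using WellFoundedGT.induction with
  | _ c ih =>
    intro hgap
    rcases eq_or_lt_of_le (Fin.le_last c) with rfl | hc
    · refine ⟨0, fun _ => Fin.last n, [], Subsingleton.strictMono (α := Fin 1) _, rfl, rfl,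
        by simp, by simp [val], fun i hi => ?_, by simp, Or.inl (by simp)⟩
      simp [le_antisymm (Fin.le_last i) hi]
    let sl : Fin (n + 1) → ℝ := fun i => (r i - r c) / (e i - e c)
    obtain ⟨i₀, hi₀, hmin⟩ := exists_min_image (Ioi c) sl ⟨Fin.last n, mem_Ioi.mpr hc⟩
    let T := (Ioi c).filter fun i => sl i = sl i₀
    have hT : T.Nonempty := ⟨i₀, mem_filter.mpr ⟨hi₀, rfl⟩⟩
    let d := T.max' hT
    obtain ⟨hdc', hdm⟩ := mem_filter.mp (T.max'_mem hT)
    have hdc : c < d := mem_Ioi.mp hdc'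
    have hed : 0 < e d - e c := sub_pos.mpr (hgap d hdc)
    have hle : ∀ i, c < i → sl d ≤ sl i := fun i hi => hdm.le.trans (hmin i (mem_Ioi.mpr hi))
    have hdgap : ∀ i, d < i → e d < e i := by
      intro i hi
      by_contra hne
      have he' : e i = e d := le_antisymm (not_lt.mp hne) (he hi.le)
      have : sl i ≤ sl d := by
        simp only [sl, he']
        exact div_le_div_of_nonneg_right (by linarith [hr hi.le]) hed.le
      have : i ∈ T := mem_filter.mpr ⟨mem_Ioi.mpr (hdc.trans hi),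
        (le_antisymm this (hle i (hdc.trans hi))).trans hdm⟩
      exact absurd (T.le_max' i this) (not_le.mpr hi)
    obtain ⟨μ, ch, L, hmono, h0, hlast, hL, hval, hbound, heq, hW⟩ := ih d hdc hdgap
    let W := (L.map Prod.snd).sum
    have hm0 : sl d ≤ 0 := div_nonpos_of_nonpos_of_nonneg (by linarith [hr hdc.le]) hed.le
    have hWm : W ≤ -sl d := by
      rcases hW with h | ⟨i, hdi, hei, hi⟩
      · simp only [W, h]; linarith
      · have hci : c < i := hdc.trans hdi
        have h1 := hle i hci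
        have hpos : 0 < e i - e c := sub_pos.mpr (hgap i hci)
        rw [show sl i = (r i - r c) / (e i - e c) from rfl, le_div_iff₀ hpos] at h1
        have h2 : sl d * (e d - e c) = r d - r c := div_mul_cancel₀ _ hed.ne'
        nlinarith [sub_pos.mpr hei]
    let q : ℝ × ℝ := (e d, -sl d - W)
    have hsum : ∀ x : ℝ, (L.map fun p => p.2 * (p.1 - x)).sum =
        (L.map fun p => p.2 * (p.1 - e d)).sum + W * (e d - x) := by
      intro x
      simp only [W]
      clear hval hbound heq hW hWm q hL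
      induction L with
      | nil => simp
      | cons p L ih => simp only [List.map_cons, List.sum_cons, ih]; ring
    have hsum2 : (L.map fun p => p.2 * (p.1 - e c) ^ 2).sum =
        (L.map fun p => p.2 * (p.1 - e d) ^ 2).sum + 2 * (e d - e c) * (L.map fun p => p.2 * (p.1 - e d)).sum
          + W * (e d - e c) ^ 2 := by
      simp only [W]
      clear hval hbound heq hW hWm q hL hsum
      induction L with
      | nil => simp
      | cons p L ih => simp only [List.map_cons, List.sum_cons, ih]; ring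
    have hmul : sl d * (e d - e c) = r d - r c := div_mul_cancel₀ _ hed.ne'
    refine ⟨μ + 1, Fin.cons c ch, q :: L, ?_, rfl, ?_, ?_, ?_, ?_, ?_, ?_⟩
    · refine Fin.strictMono_iff_lt_succ.mpr fun j => ?_
      refine Fin.cases ?_ (fun j => ?_) j
      · simpa [h0] using hdc
      · rw [← Fin.succ_castSucc, Fin.cons_succ, Fin.cons_succ]
        exact hmono Fin.castSucc_lt_succ
    · rw [← Fin.succ_last, Fin.cons_succ, hlast]
    · intro p hp
      rcases List.mem_cons.mp hp with rfl | hp
      · exact ⟨hgap d hdc, he (Fin.le_last d), by simp only [q]; linarith⟩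
      · exact ⟨(hgap d hdc).trans (hL p hp).1, (hL p hp).2⟩
    · simp only [val] at hval ⊢
      rw [Fin.sum_univ_succ]
      simp only [Fin.cons_succ, Fin.castSucc_zero, Fin.cons_zero, ← Fin.succ_castSucc]
      rw [hval, h0, List.map_cons, List.sum_cons, hsum2]
      simp only [q]
      linear_combination (e d - e c) * hmul - 2 * (e d - e c) * heq
    · intro i hi
      simp only [List.map_cons, List.sum_cons, q]
      rcases le_or_gt d i with hdi | hdi
      · have : pp (e d - e i) = 0 := max_eq_right (by linarith [he hdi])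
        rw [this]
        linarith [hbound i hdi]
      · have hx : e i ≤ e d := he hdi.le
        have hlin : (L.map fun p => p.2 * pp (p.1 - e i)).sum = (L.map fun p => p.2 * (p.1 - e i)).sum := by
          refine congrArg List.sum (List.map_congr_left fun p hp => ?_)
          rw [show pp (p.1 - e i) = p.1 - e i from max_eq_left (by linarith [(hL p hp).1])]
        rw [hlin, hsum, show pp (e d - e i) = e d - e i from max_eq_left (by linarith)]
        rcases eq_or_lt_of_le hi with rfl | hci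
        · linarith [hmul]
        · have h1 := hle i hci
          have hpos : 0 < e i - e c := sub_pos.mpr (hgap i hci)
          rw [show sl i = (r i - r c) / (e i - e c) from rfl, le_div_iff₀ hpos] at h1
          linarith [hmul]
    · simp only [List.map_cons, List.sum_cons, q]
      rw [hsum]
      linarith [hmul]
    · right
      refine ⟨d, hdc, hgap d hdc, ?_⟩
      simp only [List.map_cons, List.sum_cons, q]
      linarith [hmul]

theorem sum_pp_sub (e : Fin (n + 1) → ℝ) (he0 : ∀ i, e i ≤ (i : ℕ)) (s : ℝ) (hs : 0 ≤ s) (hsn : s ≤ n) :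
    s * (s + 1) / 2 ≤ ∑ i, pp (s - e i) := by
  have key : ∀ m : ℕ, s ≤ m → s * (s + 1) / 2 ≤ ∑ i ∈ range (m + 1), pp (s - i) := by
    intro m hm
    have hf := Nat.floor_le hs
    have hf' := Nat.lt_floor_add_one s
    have hsub : range (⌊s⌋₊ + 1) ⊆ range (m + 1) := by
      refine range_subset_range.mpr (Nat.succ_le_succ (Nat.floor_le_of_le hm))
    refine le_trans ?_ (sum_le_sum_of_subset_of_nonneg hsub fun _ _ _ => pp_nonneg _)
    refine le_trans ?_ (sum_le_sum fun i _ => le_pp (s - i))
    have hid : ∀ m : ℕ, (∑ i ∈ range (m + 1), (s - (i : ℝ))) = (m + 1) * s - m * (m + 1) / 2 := by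
      intro m
      induction m with
      | zero => simp
      | succ m ih => rw [sum_range_succ, ih]; push_cast; ring
    rw [hid]
    nlinarith
  calc s * (s + 1) / 2 ≤ ∑ i ∈ range (n + 1), pp (s - i) := key n hsn
    _ = ∑ i : Fin (n + 1), pp (s - (i : ℕ)) := (Fin.sum_univ_eq_sum_range (fun i : ℕ => pp (s - i)) (n + 1)).symm
    _ ≤ _ := sum_le_sum fun i _ => max_le_max (by linarith [he0 i]) le_rfl

/-- The inequality on each elementary convex function. -/
theorem kink_lt (g : ℕ) (hg : 1 ≤ g) (hn : 2 * g ≤ n) (e : Fin (n + 1) → ℝ)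
    (hle : ∀ i : Fin (n + 1), (i : ℕ) ≤ n - g → e i ≤ (i : ℕ)) (hle' : ∀ i : Fin (n + 1), e i ≤ (i : ℕ) + g)
    (s : ℝ) (hs : 0 < s) (hsE : s ≤ n + g) :
    (n + 1) * s ^ 2 / 2 < (n + g) * ∑ i, pp (s - e i) := by
  let N := n - g
  have hN : (N : ℝ) = n - g := by simp only [N]; rw [Nat.cast_sub (by omega)]
  let ê : ℕ → ℝ := fun i => if i ≤ N then (i : ℝ) else i + g
  have hcmp : ∑ i ∈ range (n + 1), pp (s - ê i) ≤ ∑ i, pp (s - e i) := by
    rw [← Fin.sum_univ_eq_sum_range (fun i : ℕ => pp (s - ê i)) (n + 1)]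
    refine sum_le_sum fun i _ => max_le_max ?_ le_rfl
    simp only [ê]
    split_ifs with h
    · linarith [hle i h]
    · linarith [hle' i]
  have hsplit : ∑ i ∈ range (n + 1), pp (s - ê i) =
      ∑ i ∈ range (N + 1), pp (s - i) + ∑ l ∈ range g, pp (s - n - (l + 1 : ℕ)) := by
    rw [show n + 1 = (N + 1) + g by omega, sum_range_add]
    congr 1
    · exact sum_congr rfl fun i hi => by simp only [ê, if_pos (Nat.lt_succ_iff.mp (mem_range.mp hi))]
    · refine sum_congr rfl fun l _ => ?_
      simp only [ê, if_neg (show ¬ N + 1 + l ≤ N by omega)]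
      congr 1
      push_cast
      rw [hN]; ring
  have hlin : ∀ m : ℕ, (∑ i ∈ range (m + 1), (s - (i : ℝ))) = (m + 1) * s - m * (m + 1) / 2 := by
    intro m
    induction m with
    | zero => simp
    | succ m ih => rw [sum_range_succ, ih]; push_cast; ring
  have h1 : (1 : ℝ) ≤ g := by exact_mod_cast hg
  have h2 : 2 * (g : ℝ) ≤ n := by exact_mod_cast hn
  refine lt_of_lt_of_le ?_ (mul_le_mul_of_nonneg_left hcmp (by linarith))
  rw [hsplit]
  have hsecond : 0 ≤ ∑ l ∈ range g, pp (s - n - (l + 1 : ℕ)) := sum_nonneg fun _ _ => pp_nonneg _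
  rcases le_or_gt s N with hsN | hsN
  · have h := sum_pp_sub (n := N) (fun i => ((i : ℕ) : ℝ)) (fun i => le_rfl) s hs.le hsN
    rw [Fin.sum_univ_eq_sum_range (fun i : ℕ => pp (s - i)) (N + 1)] at h
    have := mul_le_mul_of_nonneg_left h (show (0 : ℝ) ≤ n + g by linarith)
    have h3 : (n + 1) * s ^ 2 / 2 < (n + g) * (s * (s + 1) / 2) := by
      nlinarith [mul_pos hs hs]
    linarith [mul_nonneg (show (0 : ℝ) ≤ n + g by linarith) hsecond]
  · have hA : (N + 1 : ℝ) * s - N * (N + 1) / 2 ≤ ∑ i ∈ range (N + 1), pp (s - i) :=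
      (hlin N).symm.le.trans (sum_le_sum fun i _ => le_pp _)
    rcases le_or_gt s n with hsn | hsn
    · -- concave in `s`: compare with the end points
      have hend1 : (n + 1) * (N : ℝ) ^ 2 / 2 < (n + g) * ((N + 1) * N - N * (N + 1) / 2) := by
        rw [hN]; nlinarith [mul_nonneg (show (0:ℝ) ≤ g - 1 by linarith) (sq_nonneg ((n:ℝ) - g))]
      have hend2 : (n + 1) * (n : ℝ) ^ 2 / 2 < (n + g) * ((N + 1) * n - N * (N + 1) / 2) := by
        rw [hN]; nlinarith [mul_nonneg (show (0:ℝ) ≤ g by linarith) (sub_nonneg.mpr h2),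
          mul_nonneg (sub_nonneg.mpr h2) (sub_nonneg.mpr h2), mul_pos (show (0:ℝ) < g by linarith) (show (0:ℝ) < g by linarith)]
      have hQ : (n + 1) * s ^ 2 / 2 < (n + g) * ((N + 1) * s - N * (N + 1) / 2) := by
        have hN' : (N : ℝ) < n := by rw [hN]; linarith
        nlinarith [mul_nonneg (mul_nonneg (sub_nonneg.mpr hsN.le) (sub_nonneg.mpr hsn)) (show (0:ℝ) ≤ n + 1 by linarith),
          mul_lt_mul_of_pos_left hend2 (sub_pos.mpr hsN),
          mul_le_mul_of_nonneg_left hend1.le (sub_nonneg.mpr hsn)]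
      have := mul_le_mul_of_nonneg_left hA (show (0 : ℝ) ≤ n + g by linarith)
      linarith [mul_nonneg (show (0 : ℝ) ≤ n + g by linarith) hsecond]
    · -- the last window
      let u := s - n
      have hu : 0 ≤ u := by simp only [u]; linarith
      have hug : u ≤ g := by simp only [u]; linarith
      have hB : u * (u - 1) / 2 ≤ ∑ l ∈ range g, pp (s - n - (l + 1 : ℕ)) := by
        have h := sum_pp_sub (n := g) (fun i => ((i : ℕ) : ℝ)) (fun i => le_rfl) u hu hug
        rw [Fin.sum_univ_eq_sum_range (fun i : ℕ => pp (u - i)) (g + 1), sum_range_succ'] at h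
        have h0 : pp (u - ((0 : ℕ) : ℝ)) = u := by simp [pp, hu]
        rw [h0] at h
        simp only [u] at h ⊢
        linarith
      have hfin : (n + 1) * s ^ 2 / 2 < (n + g) * ((N + 1) * s - N * (N + 1) / 2 + u * (u - 1) / 2) := by
        rw [hN]
        have hs' : s = n + u := by simp only [u]; ring
        rw [hs']
        have hk : 0 ≤ (g - u) * (n + 2 * g ^ 2 - g - (g - 1) * (g + u)) := by
          refine mul_nonneg (sub_nonneg.mpr hug) ?_
          nlinarith [mul_le_mul_of_nonneg_left hug (show (0:ℝ) ≤ g - 1 by linarith)]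
        nlinarith [mul_pos (mul_pos (show (0:ℝ) < n + g by linarith) (show (0:ℝ) < g by linarith))
          (show (0:ℝ) < n + 1 - 2 * g by linarith)]
      have := mul_le_mul_of_nonneg_left (add_le_add hA hB) (show (0 : ℝ) ≤ n + g by linarith)
      linarith

/-- The chain. -/
theorem exists_chain (g : ℕ) (hg : 1 ≤ g) (hn : 2 * g ≤ n) (e : Fin (n + 1) → ℝ) (he0 : e 0 = 0)
    (hen : e (Fin.last n) = n + g) (hmono : Monotone e)
    (hle : ∀ i : Fin (n + 1), (i : ℕ) ≤ n - g → e i ≤ (i : ℕ)) (hle' : ∀ i : Fin (n + 1), e i ≤ (i : ℕ) + g)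
    (r : Fin (n + 1) → ℝ) (hanti : Antitone r) (hsum : ∑ i, r i = 0) (hr : r ≠ 0) :
    ∃ (μ : ℕ) (c : Fin (μ + 1) → Fin (n + 1)), StrictMono c ∧ c 0 = 0 ∧ c (Fin.last μ) = Fin.last n ∧
      val e r c < 0 := by
  classical
  let T := univ.filter fun i : Fin (n + 1) => e i = 0
  have hT : T.Nonempty := ⟨0, by simp [T, he0]⟩
  let c₀ := T.max' hT
  have hc₀ : e c₀ = 0 := (mem_filter.mp (T.max'_mem hT)).2
  have hgap : ∀ i, c₀ < i → e c₀ < e i := by
    intro i hi
    refine lt_of_le_of_ne (hmono hi.le) fun h => ?_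
    exact absurd (T.le_max' i (mem_filter.mpr ⟨mem_univ _, h ▸ hc₀⟩)) (not_le.mpr hi)
  obtain ⟨μ, ch, L, hch, h0, hlast, hL, hval, hbound, heq, -⟩ := good_of_gap e r hmono hanti c₀ hgap
  have hn0 : (0 : ℝ) < n + g := by
    have : (1 : ℝ) ≤ g := by exact_mod_cast hg
    linarith [show (0:ℝ) ≤ n from Nat.cast_nonneg n]
  have hrn : r (Fin.last n) < 0 := by
    by_contra h
    refine hr (funext fun i => ?_)
    exact (sum_eq_zero_iff_of_nonneg (fun i _ => (not_lt.mp h).trans (hanti (Fin.le_last i)))).mp hsum i (mem_univ i)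
  have hall : ∀ i, r (Fin.last n) + (L.map fun p => p.2 * pp (p.1 - e i)).sum ≤ r i := by
    intro i
    rcases le_or_gt c₀ i with h | h
    · exact hbound i h
    · have hi : e i = 0 := le_antisymm (hc₀ ▸ hmono h.le) (he0 ▸ hmono (Fin.zero_le i))
      calc _ = r (Fin.last n) + (L.map fun p => p.2 * pp (p.1 - e c₀)).sum := by rw [hi, hc₀]
        _ ≤ r c₀ := hbound c₀ le_rfl
        _ ≤ r i := hanti h.le
  have hvneg : val e r ch < 0 := by
    rw [hval, hen, hc₀]
    have hswap : ∀ L : List (ℝ × ℝ), ∑ i : Fin (n + 1), (L.map fun p => p.2 * pp (p.1 - e i)).sum =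
        (L.map fun p => p.2 * ∑ i : Fin (n + 1), pp (p.1 - e i)).sum := by
      intro L
      induction L with
      | nil => simp
      | cons p L ih => simp only [List.map_cons, List.sum_cons, sum_add_distrib, ih, mul_sum]
    have hS : (n + 1 : ℝ) * r (Fin.last n) + (L.map fun p => p.2 * ∑ i : Fin (n + 1), pp (p.1 - e i)).sum ≤ 0 := by
      have := sum_le_sum fun i (_ : i ∈ (univ : Finset (Fin (n + 1)))) => hall i
      rw [sum_add_distrib, hswap, hsum] at this
      simpa using this
    have hmain : ∀ L : List (ℝ × ℝ), (∀ p ∈ L, 0 < p.1 ∧ p.1 ≤ n + g ∧ 0 ≤ p.2) →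
        (n + 1) * (L.map fun p => p.2 * (p.1 - 0) ^ 2).sum + (L.map Prod.snd).sum * 0 ≤
          2 * (n + g) * (L.map fun p => p.2 * ∑ i : Fin (n + 1), pp (p.1 - e i)).sum ∧
        ((L.map fun p => p.2 * (p.1 - 0) ^ 2).sum ≠ 0 →
          (n + 1) * (L.map fun p => p.2 * (p.1 - 0) ^ 2).sum <
            2 * (n + g) * (L.map fun p => p.2 * ∑ i : Fin (n + 1), pp (p.1 - e i)).sum) := by
      intro L hL
      induction L with
      | nil => simp
      | cons p L ih =>
        obtain ⟨h1, h2, h3⟩ := hL p List.mem_cons_self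
        obtain ⟨ha, hb⟩ := ih fun q hq => hL q (List.mem_cons_of_mem _ hq)
        have hk := kink_lt g hg hn e hle hle' p.1 h1 h2
        simp only [List.map_cons, List.sum_cons, mul_zero, add_zero, sub_zero] at ha hb ⊢
        rcases h3.eq_or_lt with h4 | h4
        · rw [← h4]; simp only [zero_mul, zero_add]; exact ⟨ha, hb⟩
        · have := mul_lt_mul_of_pos_left hk h4
          constructor <;> intros <;> linarith
    obtain ⟨ha, hb⟩ := hmain L fun p hp => ⟨hc₀ ▸ (hL p hp).1, hen ▸ (hL p hp).2.1, (hL p hp).2.2⟩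
    have h5 := mul_le_mul_of_nonneg_left hS (show (0:ℝ) ≤ 2 * (n + g) by linarith)
    simp only [mul_zero, add_zero] at ha
    rcases eq_or_ne ((L.map fun p => p.2 * (p.1 - 0) ^ 2).sum) 0 with h | h
    · rw [h]; nlinarith
    · have := hb h
      nlinarith
  rcases eq_or_lt_of_le (Fin.zero_le c₀) with h | h
  · exact ⟨μ, ch, hch, h0.trans h.symm, hlast, hvneg⟩
  · refine ⟨μ + 1, Fin.cons 0 ch, ?_, rfl, by rw [← Fin.succ_last, Fin.cons_succ, hlast], ?_⟩
    · refine Fin.strictMono_iff_lt_succ.mpr fun j => ?_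
      refine Fin.cases ?_ (fun j => ?_) j
      · simpa [h0] using h
      · rw [← Fin.succ_castSucc, Fin.cons_succ, Fin.cons_succ]
        exact hch Fin.castSucc_lt_succ
    · have : val e r (Fin.cons 0 ch) = val e r ch := by
        simp only [val]
        rw [Fin.sum_univ_succ]
        simp only [Fin.cons_succ, Fin.castSucc_zero, Fin.cons_zero, ← Fin.succ_castSucc, h0, hc₀, he0]
        simp
      rw [this]; exact hvneg

end Groth.ChainSum
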