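import Groth.Prelude.Def_Fitting
import Groth.Prelude.Def_Mor2
import Groth.Agent.Misc3Fitt.Props
import Groth.Agent.Misc3Fitt.Local
import Groth.Agent.Misc3Fitt.Strict
import Groth.Agent.Misc3Fitt.Split
import Groth.Agent.Divisors.IdealComap
import Groth.Agent.Ega2Proj.AffineBC

/-!
# Fitting ideals of a finite morphism

For a finite `f : X ⟶ Y` the Fitting ideals of `Γ(f⁻¹U, O_X)` over `Γ(U, O_Y)` form ideal sheaves
`fitData f k` on `Y`, compatible with base change.  They define the stratification by rank.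
-/

set_option autoImplicit false

universe u

open CategoryTheory CategoryTheory.Limits AlgebraicGeometry TopologicalSpace

noncomputable section

namespace Groth.FinStrata

variable {X Y X' Y' : Scheme.{u}}

/-- The algebra of sections over an open. -/
abbrev secAlg (f : X ⟶ Y) (U : Y.Opens) : Algebra Γ(Y, U) Γ(X, f ⁻¹ᵁ U) := (f.app U).hom.toAlgebra

theorem finite_secAlg (f : X ⟶ Y) [IsFinite f] {U : Y.Opens} (hU : IsAffineOpen U) :
    letI := secAlg f U; Module.Finite Γ(Y, U) Γ(X, f ⁻¹ᵁ U) :=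
  IsFinite.finite_app (f := f) U hU

/-- The `k`-th Fitting ideal of the sections over `U`. -/
def fitIdeal (f : X ⟶ Y) (k : ℕ) (U : Y.Opens) : Ideal Γ(Y, U) :=
  letI := secAlg f U
  Fitt.ideal Γ(Y, U) Γ(X, f ⁻¹ᵁ U) k

theorem fitIdeal_baseChange {f : X ⟶ Y} [IsFinite f] {g : Y' ⟶ Y} {g' : X' ⟶ X} {f' : X' ⟶ Y'}
    (h : IsPullback g' f' f g) (k : ℕ) {U : Y.Opens} (hU : IsAffineOpen U) {V : Y'.Opens}
    (hV : IsAffineOpen V) (e : V ≤ g ⁻¹ᵁ U) :
    fitIdeal f' k V = (fitIdeal f k U).map (g.appLE U V e).hom := by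
  have e' : f' ⁻¹ᵁ V ≤ g' ⁻¹ᵁ (f ⁻¹ᵁ U) := by
    rw [← Scheme.Hom.comp_preimage, h.w, Scheme.Hom.comp_preimage]
    exact f'.preimage_mono e
  have hpo := Groth.Ega2Proj.AffBC.isPushout_appLE f g g' f' h hU hV e e'
  letI algRA := secAlg f U
  letI algSB := secAlg f' V
  letI algRS : Algebra Γ(Y, U) Γ(Y', V) := (g.appLE U V e).hom.toAlgebra
  letI algAB : Algebra Γ(X, f ⁻¹ᵁ U) Γ(X', f' ⁻¹ᵁ V) := (g'.appLE _ _ e').hom.toAlgebra
  letI algRB : Algebra Γ(Y, U) Γ(X', f' ⁻¹ᵁ V) := (g.appLE U V e ≫ f'.app V).hom.toAlgebra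
  haveI : IsScalarTower Γ(Y, U) Γ(Y', V) Γ(X', f' ⁻¹ᵁ V) := IsScalarTower.of_algebraMap_eq fun _ => rfl
  haveI : IsScalarTower Γ(Y, U) Γ(X, f ⁻¹ᵁ U) Γ(X', f' ⁻¹ᵁ V) :=
    IsScalarTower.of_algebraMap_eq fun r => congr(($(hpo.w)).hom r)
  haveI hp : Algebra.IsPushout Γ(Y, U) Γ(Y', V) Γ(X, f ⁻¹ᵁ U) Γ(X', f' ⁻¹ᵁ V) :=
    CommRingCat.isPushout_iff_isPushout.1 hpo
  haveI := finite_secAlg f hU
  exact Groth.Misc3Fitt.ideal_of_isBaseChange hp.out k

/-- The Fitting ideal sheaves of a finite morphism. -/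
def fitData (f : X ⟶ Y) [IsFinite f] (k : ℕ) : Y.IdealSheafData where
  ideal U := fitIdeal f k U.1
  map_ideal_basicOpen U g := by
    have h : IsPullback (𝟙 X) f f (𝟙 Y) := IsPullback.of_horiz_isIso ⟨by simp⟩
    rw [fitIdeal_baseChange h k U.2 (Y.affineBasicOpen g).2 (Y.basicOpen_le g)]
    rw [Scheme.Hom.appLE, Scheme.Hom.id_app]
    rfl

theorem comap_fitData {f : X ⟶ Y} [IsFinite f] {g : Y' ⟶ Y} {g' : X' ⟶ X} {f' : X' ⟶ Y'} [IsFinite f']
    (h : IsPullback g' f' f g) (k : ℕ) : (fitData f k).comap g = fitData f' k := by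
  refine Groth.Divisors.ext_of_cover fun x => ?_
  obtain ⟨U, hU, -⟩ := Groth.Divisors.exists_affine_le (g x) ⊤ trivial
  obtain ⟨V, hV, hVU⟩ := Groth.Divisors.exists_affine_le x (g ⁻¹ᵁ U.1) hU
  refine ⟨V, hV, ?_⟩
  rw [Groth.Divisors.ideal_comap_affine _ g U V hVU]
  exact (fitIdeal_baseChange h k U.2 V.2 hVU).symm

theorem fitData_congr {f : X ⟶ Y} [IsFinite f] {f' : X' ⟶ Y} [IsFinite f'] (φ : X' ≅ X)
    (h : φ.hom ≫ f = f') (k : ℕ) : fitData f' k = fitData f k := by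
  rw [← comap_fitData (g := 𝟙 Y) (IsPullback.of_horiz_isIso ⟨by rw [h, Category.comp_id]⟩) k,
    Scheme.IdealSheafData.comap_id]

variable (f : X ⟶ Y) [IsFinite f]

theorem fitData_mono {k k' : ℕ} (h : k ≤ k') : fitData f k ≤ fitData f k' := fun U => by
  letI := secAlg f U.1
  haveI : Module.Finite Γ(Y, U.1) Γ(X, f ⁻¹ᵁ U.1) := finite_secAlg f U.2
  exact Groth.Misc3Fitt.ideal_mono h

theorem fitData_zero (hinj : ∀ U : Y.affineOpens, Function.Injective (f.app U.1).hom) :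
    fitData f 0 = ⊥ := by
  refine le_bot_iff.1 fun U => ?_
  letI := secAlg f U.1
  haveI : Module.Finite Γ(Y, U.1) Γ(X, f ⁻¹ᵁ U.1) := finite_secAlg f U.2
  intro a ha
  have h0 := Groth.Misc3Fitt.ideal_le_annihilator (R := Γ(Y, U.1)) (M := Γ(X, f ⁻¹ᵁ U.1)) ha
  have h1 : a • (1 : Γ(X, f ⁻¹ᵁ U.1)) = 0 := Module.mem_annihilator.1 h0 1
  rw [Algebra.smul_def, mul_one] at h1
  rw [Scheme.IdealSheafData.ideal_bot]
  exact hinj U (h1.trans (map_zero _).symm)

theorem exists_notMem_support (y : Y) : ∃ k, y ∉ (fitData f k).support := by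
  obtain ⟨U, hU, -⟩ := Groth.Divisors.exists_affine_le y ⊤ trivial
  letI := secAlg f U.1
  haveI := finite_secAlg f U.2
  obtain ⟨n, x, hx⟩ := Module.Finite.exists_fin (R := Γ(Y, U.1)) (M := Γ(X, f ⁻¹ᵁ U.1))
  refine ⟨n, fun hy => ?_⟩
  have h := ((fitData f n).coe_support_inter U).le ⟨hy, hU⟩
  rw [show (fitData f n).ideal U = ⊤ from Groth.Misc3Fitt.ideal_eq_top_of_span x hx le_rfl] at h
  simpa using h

open scoped Classical in
/-- The rank of `f` at a point: the least number of local generators. -/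
def rk (y : Y) : ℕ := Nat.find (exists_notMem_support f y)

theorem notMem_support_rk (y : Y) : y ∉ (fitData f (rk f y)).support := by
  classical exact Nat.find_spec (exists_notMem_support f y)

theorem notMem_support_iff {y : Y} {k : ℕ} : y ∉ (fitData f k).support ↔ rk f y ≤ k := by
  classical
  refine ⟨fun h => Nat.find_min' _ h, fun h hy => notMem_support_rk f y ?_⟩
  exact Scheme.IdealSheafData.support_antitone (fitData_mono f h) hy

/-- A finite morphism whose Fitting ideals are `⊥` below `n` and `⊤` from `n` on is locally free of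
rank `n`. -/
theorem isFinLocFreeOfDeg {n : ℕ} (h0 : ∀ k < n, fitData f k = ⊥) (h1 : fitData f n = ⊤) :
    Mor2.IsFinLocFreeOfDeg n f := by
  have key : ∀ U : Y.affineOpens, letI := secAlg f U.1
      (Module.FinitePresentation Γ(Y, U.1) Γ(X, f ⁻¹ᵁ U.1) ∧ Module.Projective Γ(Y, U.1) Γ(X, f ⁻¹ᵁ U.1)) ∧
        ∀ p : PrimeSpectrum Γ(Y, U.1), Module.rankAtStalk Γ(X, f ⁻¹ᵁ U.1) p = n := by
    intro U
    letI := secAlg f U.1
    haveI := finite_secAlg f U.2
    have e0 : ∀ k < n, Fitt.ideal Γ(Y, U.1) Γ(X, f ⁻¹ᵁ U.1) k = ⊥ := fun k hk => by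
      have := congrArg (fun I : Y.IdealSheafData => I.ideal U) (h0 k hk)
      rw [Scheme.IdealSheafData.ideal_bot] at this
      exact this
    have e1 : ∀ k, n ≤ k → Fitt.ideal Γ(Y, U.1) Γ(X, f ⁻¹ᵁ U.1) k = ⊤ := fun k hk => by
      have := congrArg (fun I : Y.IdealSheafData => I.ideal U) (top_le_iff.1 (h1.ge.trans (fitData_mono f hk)))
      rw [Scheme.IdealSheafData.ideal_top] at this
      exact this
    have hloc := (Groth.Misc3Fitt.locallyFree_rank_iff (R := Γ(Y, U.1)) (M := Γ(X, f ⁻¹ᵁ U.1)) n).2 ⟨e0, e1⟩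
    obtain ⟨hfp, hproj⟩ := Groth.Misc3Fitt.projective_of_locallyFree
      (R := Γ(Y, U.1)) (N := Γ(X, f ⁻¹ᵁ U.1)) (fun p _ => (hloc p).imp fun g hg => ⟨hg.1, hg.2.1⟩)
    refine ⟨⟨hfp, hproj⟩, fun p => ?_⟩
    haveI := hproj
    haveI : Module.Flat Γ(Y, U.1) Γ(X, f ⁻¹ᵁ U.1) := inferInstance
    rw [Module.rankAtStalk_eq]
    have hne : ∀ k, n ≤ k → ¬ Fitt.ideal Γ(Y, U.1) Γ(X, f ⁻¹ᵁ U.1) k ≤ p.asIdeal := fun k hk hle =>
      p.2.ne_top (top_le_iff.1 ((e1 k hk).ge.trans hle))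
    refine le_antisymm ((Groth.Misc3Fitt.not_le_prime_iff_finrank p.asIdeal).1 (hne n le_rfl)) ?_
    by_contra hlt
    exact (Groth.Misc3Fitt.not_le_prime_iff_finrank p.asIdeal).2 le_rfl
      ((e0 _ (not_le.1 hlt)).le.trans bot_le)
  haveI : Flat f := by
    refine (HasRingHomProperty.iff_exists_appLE (P := @Flat)
      (RingHom.Flat.stableUnderComposition.stableUnderCompositionWithLocalizationAway
        RingHom.Flat.holdsForLocalizationAway).1).2 fun x => ?_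
    obtain ⟨U, hU, -⟩ := Groth.Divisors.exists_affine_le (f x) ⊤ trivial
    letI := secAlg f U.1
    haveI := (key U).1.2
    refine ⟨U, ⟨_, U.2.preimage f⟩, hU, le_rfl, ?_⟩
    rw [Scheme.Hom.appLE_eq_app]
    exact (inferInstance : Module.Flat Γ(Y, U.1) Γ(X, f ⁻¹ᵁ U.1))
  haveI : LocallyOfFinitePresentation f := by
    refine (HasRingHomProperty.iff_exists_appLE (P := @LocallyOfFinitePresentation)
      (RingHom.finitePresentation_stableUnderComposition.stableUnderCompositionWithLocalizationAway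
        RingHom.finitePresentation_holdsForLocalizationAway).1).2 fun x => ?_
    obtain ⟨U, hU, -⟩ := Groth.Divisors.exists_affine_le (f x) ⊤ trivial
    letI := secAlg f U.1
    haveI := (key U).1.1
    refine ⟨U, ⟨_, U.2.preimage f⟩, hU, le_rfl, ?_⟩
    rw [Scheme.Hom.appLE_eq_app]
    exact Algebra.FinitePresentation.of_finitePresentation Γ(Y, U.1) Γ(X, f ⁻¹ᵁ U.1)
  refine ⟨⟨inferInstance, inferInstance, inferInstance⟩, fun y => ?_⟩
  obtain ⟨U, hU, -⟩ := Groth.Divisors.exists_affine_le y ⊤ trivial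
  have hW' := U.2.preimage f
  have hpb : IsPullback hW'.fromSpec (Spec.map (f.app U.1)) f U.2.fromSpec := by
    refine (IsOpenImmersion.isPullback _ _ _ _ ?_ ?_).flip
    · rw [Scheme.Hom.app_eq_appLE]
      exact (IsAffineOpen.SpecMap_appLE_fromSpec f U.2 hW' le_rfl).symm
    · rw [U.2.opensRange_fromSpec, hW'.opensRange_fromSpec]
  obtain ⟨p, hp⟩ : ∃ p, U.2.fromSpec p = y := by
    have : y ∈ U.2.fromSpec.opensRange := by rwa [U.2.opensRange_fromSpec]
    exact this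
  rw [← hp, ← Scheme.Hom.finrank_of_isPullback _ _ _ _ hpb]
  letI := secAlg f U.1
  haveI := finite_secAlg f U.2
  haveI := (key U).1.2
  have hflat : (f.app U.1).hom.Flat := (inferInstance : Module.Flat Γ(Y, U.1) Γ(X, f ⁻¹ᵁ U.1))
  rw [Scheme.Hom.finrank_SpecMap_eq_finrank (IsFinite.finite_app (f := f) U.1 U.2) hflat]
  change (algebraMap Γ(Y, U.1) Γ(X, f ⁻¹ᵁ U.1)).finrank p = n
  rw [RingHom.finrank_algebraMap]
  exact (key U).2 p

end Groth.FinStrata
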