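import Mathlib
import Groth.Agent.GitQuot.AffGpd.Norm

/-! Near generic points, images of principal zero loci under finite maps of finite presentation are principal. -/

set_option autoImplicit false

universe u

open CategoryTheory TensorProduct

noncomputable section

namespace Groth.GitQuot.GenericNorm

theorem exists_preimage_tensor {B B' C : Type u} [CommRing B] [CommRing B'] [CommRing C]
    [Algebra B B'] [Algebra B C] (q : PrimeSpectrum B') (r : PrimeSpectrum C)
    (h : PrimeSpectrum.comap (algebraMap B B') q = PrimeSpectrum.comap (algebraMap B C) r) :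
    ∃ z : PrimeSpectrum (B' ⊗[B] C),
      PrimeSpectrum.comap (Algebra.TensorProduct.includeLeftRingHom : B' →+* B' ⊗[B] C) z = q ∧
      PrimeSpectrum.comap
        (Algebra.TensorProduct.includeRight : C →ₐ[B] B' ⊗[B] C).toRingHom z = r := by
  open AlgebraicGeometry in
  obtain ⟨w, hw1, hw2⟩ := Scheme.Pullback.exists_preimage_pullback
    (f := Spec.map (CommRingCat.ofHom (algebraMap B B')))
    (g := Spec.map (CommRingCat.ofHom (algebraMap B C))) q r h
  refine ⟨(AlgebraicGeometry.pullbackSpecIso B B' C).hom w, ?_, ?_⟩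
  · rw [← hw1, ← AlgebraicGeometry.pullbackSpecIso_hom_fst B B' C]; rfl
  · rw [← hw2, ← AlgebraicGeometry.pullbackSpecIso_hom_snd B B' C]; rfl

/-- At finitely many minimal primes of the base there is a basic open neighbourhood over which the image
of every principal zero locus is cut out by one function. -/
theorem exists_away_norm (B C : Type u) [CommRing B] [CommRing C] [Algebra B C] [Module.Finite B C]
    [Algebra.FinitePresentation B C] (P : Set (PrimeSpectrum B)) (hP : P.Finite)
    (hmin : ∀ p ∈ P, p.asIdeal ∈ minimalPrimes B) :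
    ∃ f : B, (∀ p ∈ P, f ∉ p.asIdeal) ∧ ∀ c : C, ∃ N : B, ∀ p : PrimeSpectrum B, f ∉ p.asIdeal →
      (N ∉ p.asIdeal ↔ ∀ r : PrimeSpectrum C, PrimeSpectrum.comap (algebraMap B C) r = p → c ∉ r.asIdeal) := by
  classical
  let π : B →+* B ⧸ nilradical B := Ideal.Quotient.mk _
  let B₁ := B ⧸ nilradical B
  let M₁ := B₁ ⊗[B] C
  have : Module.FinitePresentation B C := .of_finite_of_finitePresentation _ _
  have : IsReduced B₁ := (Ideal.isRadical_iff_quotient_reduced _).mp (Ideal.radical_isRadical _)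
  have hsurj : Function.Surjective π := Ideal.Quotient.mk_surjective
  let e : PrimeSpectrum B₁ → PrimeSpectrum B := PrimeSpectrum.comap π
  have he : Function.Surjective e := fun p => by
    have : p ∈ Set.range e := by
      change p ∈ Set.range (PrimeSpectrum.comap π)
      rw [range_comap_of_surjective _ π hsurj, Ideal.mk_ker]
      exact nilradical_le_prime _
    exact this
  -- the free locus contains the given points
  have hfree : ∀ p₁ : PrimeSpectrum B₁, e p₁ ∈ P → p₁ ∈ Module.freeLocus B₁ M₁ := by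
    intro p₁ hp₁
    have hm : p₁.asIdeal ∈ minimalPrimes B₁ := by
      refine ⟨⟨p₁.isPrime, bot_le⟩, fun q hq hle => ?_⟩
      have hqp : q.comap π ≤ (e p₁).asIdeal := Ideal.comap_mono hle
      have := (hmin _ hp₁).2 ⟨hq.1.comap π, bot_le⟩ hqp
      intro z hz
      obtain ⟨z, rfl⟩ := hsurj z
      exact this hz
    rw [Module.mem_freeLocus_iff_tensor _ (Localization.AtPrime p₁.asIdeal)]
    have : Ring.KrullDimLE 0 (Localization.AtPrime p₁.asIdeal) :=
      Ring.KrullDimLE.of_isLocalization p₁.asIdeal hm _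
    let := (Ring.KrullDimLE.isField_of_isReduced (R := Localization.AtPrime p₁.asIdeal)).toField
    exact Module.Free.of_divisionRing _ _
  obtain ⟨J, hJ⟩ := (PrimeSpectrum.isClosed_iff_zeroLocus_ideal _).mp
    (Module.isOpen_freeLocus (R := B₁) (M := M₁)).isClosed_compl
  obtain ⟨f, hfJ, hfP⟩ : ∃ f ∈ J.comap π, ∀ p ∈ P, f ∉ p.asIdeal := by
    by_contra! hne
    obtain ⟨p₀, -, -⟩ := hne 0 (Ideal.zero_mem _)
    obtain ⟨p, hp, hle⟩ := (Ideal.subset_union_prime (s := hP.toFinset) (f := fun p => p.asIdeal)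
      p₀ p₀ (fun p _ _ _ => p.isPrime)).mp (fun z hz => by
        obtain ⟨p, hp, hz⟩ := hne z hz
        exact Set.mem_biUnion (hP.mem_toFinset.mpr hp) hz)
    obtain ⟨p₁, rfl⟩ := he p
    have : p₁ ∈ PrimeSpectrum.zeroLocus (J : Set B₁) := fun z hz => by
      obtain ⟨z, rfl⟩ := hsurj z
      exact hle (Ideal.mem_comap.mpr hz)
    rw [← hJ] at this
    exact this (hfree p₁ (hP.mem_toFinset.mp hp))
  refine ⟨f, hfP, fun c => ?_⟩
  let B₂ := Localization.Away (π f)
  let M₂ := B₂ ⊗[B] C
  have hrange : Set.range (PrimeSpectrum.comap (algebraMap B₁ B₂)) = PrimeSpectrum.basicOpen (π f) :=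
    PrimeSpectrum.localization_away_comap_range _ _
  have hproj : Module.Projective B₂ M₂ := by
    rw [← Module.freeLocus_eq_univ_iff]
    refine Set.eq_univ_of_forall fun q => ?_
    rw [← Module.freeLocus_congr (TensorProduct.AlgebraTensorModule.cancelBaseChange B B₁ B₂ B₂ C)]
    refine Module.comap_freeLocus_le (R := B₁) (M := M₁) ?_
    by_contra hq
    have hq' : PrimeSpectrum.comap (algebraMap B₁ B₂) q ∈ PrimeSpectrum.zeroLocus (J : Set B₁) :=
      hJ ▸ hq
    exact (hrange.le ⟨q, rfl⟩) (hq' hfJ)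
  let F : CommRingCat.of B₂ ⟶ CommRingCat.of M₂ := CommRingCat.ofHom (algebraMap B₂ M₂)
  obtain ⟨n, ⟨D⟩⟩ := Groth.AffGpd.DualSys.exists_of_projective (f := F)
    (RingHom.finite_algebraMap.mpr inferInstance) (by
      have e : F.hom.toAlgebra = (inferInstance : Algebra B₂ M₂) := Algebra.algebra_ext _ _ fun _ => rfl
      rw [e]; exact hproj)
  obtain ⟨⟨b, ⟨_, k, rfl⟩⟩, hb⟩ := IsLocalization.surj (Submonoid.powers (π f)) (D.nrm ((1 : B₂) ⊗ₜ[B] c : M₂))
  obtain ⟨N, rfl⟩ := hsurj b
  refine ⟨N, fun p hfp => ?_⟩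
  obtain ⟨p₁, rfl⟩ := he p
  obtain ⟨q, rfl⟩ : p₁ ∈ Set.range (PrimeSpectrum.comap (algebraMap B₁ B₂)) := hrange.ge hfp
  have hcomp : (algebraMap B B₂) = (algebraMap B₁ B₂).comp π := IsScalarTower.algebraMap_eq B B₁ B₂
  have hq : e (PrimeSpectrum.comap (algebraMap B₁ B₂) q) = PrimeSpectrum.comap (algebraMap B B₂) q := by
    rw [hcomp, PrimeSpectrum.comap_comp_apply]
  have hN : N ∉ (e (PrimeSpectrum.comap (algebraMap B₁ B₂) q)).asIdeal ↔
      D.nrm ((1 : B₂) ⊗ₜ[B] c : M₂) ∉ q.asIdeal := by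
    change algebraMap B₁ B₂ (π N) ∉ q.asIdeal ↔ _
    rw [← hb, q.isPrime.mul_mem_iff_mem_or_mem, or_iff_left]
    intro h
    exact (hrange.le ⟨q, rfl⟩) (q.isPrime.mem_of_pow_mem k (by simpa [map_pow] using h))
  rw [hN, D.nrm_notMem_iff q.asIdeal]
  constructor
  · intro h r hr hc
    obtain ⟨z, hz1, hz2⟩ := exists_preimage_tensor q r (by rw [hr, hq])
    exact h z.asIdeal z.isPrime (congrArg PrimeSpectrum.asIdeal hz1) (by
      have : c ∈ (PrimeSpectrum.comap
        (Algebra.TensorProduct.includeRight : C →ₐ[B] M₂).toRingHom z).asIdeal := hz2 ▸ hc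
      exact this)
  · intro h r hr hru hc
    let r' : PrimeSpectrum M₂ := ⟨r, hr⟩
    refine h (PrimeSpectrum.comap (Algebra.TensorProduct.includeRight : C →ₐ[B] M₂).toRingHom r') ?_ hc
    rw [hq, ← PrimeSpectrum.comap_comp_apply,
      show (Algebra.TensorProduct.includeRight : C →ₐ[B] M₂).toRingHom.comp (algebraMap B C) =
        algebraMap B M₂ from RingHom.ext fun x => (Algebra.TensorProduct.includeRight : C →ₐ[B] M₂).commutes x]
    rw [IsScalarTower.algebraMap_eq B B₂ M₂, PrimeSpectrum.comap_comp_apply]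
    congr 1
    exact PrimeSpectrum.ext hru

end Groth.GitQuot.GenericNorm
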