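import Mathlib

/-!
# Automorphisms of huge algebraically closed fields; residue fields at sections
-/

set_option autoImplicit false

universe u

open CategoryTheory AlgebraicGeometry Cardinal

noncomputable section

namespace Groth.GrpdBigField

/-- Equipotent transcendence bases give an isomorphism of algebras. -/
theorem nonempty_algEquiv {R K L : Type u} [CommRing R] [Field K] [Field L] [Algebra R K] [Algebra R L]
    [IsAlgClosed K] [IsAlgClosed L] {s : Set K} {t : Set L}
    (hs : IsTranscendenceBasis R ((↑) : s → K)) (ht : IsTranscendenceBasis R ((↑) : t → L))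
    (e : s ≃ t) : Nonempty (K ≃ₐ[R] L) := by
  letI := IsAlgClosed.isAlgClosure_of_transcendence_basis _ hs
  letI := IsAlgClosed.isAlgClosure_of_transcendence_basis _ ht
  let e' := hs.1.aevalEquiv.symm.trans ((MvPolynomial.renameEquiv R e).trans ht.1.aevalEquiv)
  let φ := IsAlgClosure.equivOfEquiv K L e'.toRingEquiv
  refine ⟨AlgEquiv.ofRingEquiv (f := φ) fun x => ?_⟩
  have h := IsAlgClosure.equivOfEquiv_algebraMap K L e'.toRingEquiv
    (algebraMap R (Algebra.adjoin R (Set.range ((↑) : s → K))) x)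
  rw [← IsScalarTower.algebraMap_apply] at h
  rw [h, show e'.toRingEquiv (algebraMap R _ x) = algebraMap R _ x from e'.commutes x, ← IsScalarTower.algebraMap_apply]

/-- Two embeddings of a small field into a big algebraically closed field are conjugate. -/
theorem exists_conj {k Ω : Type u} [Field k] [Field Ω] [IsAlgClosed Ω] (a b : k →+* Ω)
    (hΩ : max #k ℵ₀ < #Ω) : ∃ σ : Ω ≃+* Ω, ∀ x, σ (a x) = b x := by
  have key : ∀ c : k →+* Ω, ∃ s : Set Ω,
      (letI := c.toAlgebra; IsTranscendenceBasis k ((↑) : s → Ω)) ∧ #s = #Ω := by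
    intro c
    letI := c.toAlgebra
    obtain ⟨s, hs⟩ := exists_isTranscendenceBasis k Ω
    refine ⟨s, hs, le_antisymm (mk_set_le s) ?_⟩
    have h := IsAlgClosed.cardinal_le_max_transcendence_basis' ((↑) : s → Ω) hs
    by_contra hlt
    rw [not_le] at hlt
    exact absurd h (not_le.2 (max_lt (max_lt (lt_of_le_of_lt (le_max_left _ _) hΩ) hlt)
      (lt_of_le_of_lt (le_max_right _ _) hΩ)))
  obtain ⟨s, hs, hsc⟩ := key a
  obtain ⟨t, ht, htc⟩ := key b
  obtain ⟨e⟩ := Cardinal.eq.1 (hsc.trans htc.symm)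
  obtain ⟨φ⟩ := @nonempty_algEquiv k Ω Ω _ _ _ a.toAlgebra b.toAlgebra _ _ s t hs ht e
  exact ⟨@AlgEquiv.toRingEquiv k Ω Ω _ _ _ a.toAlgebra b.toAlgebra φ,
    fun x => @AlgEquiv.commutes k Ω Ω _ _ _ a.toAlgebra b.toAlgebra φ x⟩

/-- A field has algebraically closed extensions of arbitrarily large cardinality. -/
theorem exists_big_field (L k : Type u) [Field L] :
    ∃ (Ω : Type u) (_ : Field Ω) (_ : IsAlgClosed Ω), Nonempty (L →+* Ω) ∧ max #k ℵ₀ < #Ω := by
  let I : Type u := Set (k ⊕ ULift.{u} ℕ)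
  let F := FractionRing (MvPolynomial I L)
  refine ⟨AlgebraicClosure F, inferInstance, inferInstance,
    ⟨(algebraMap F _).comp (algebraMap L F)⟩, ?_⟩
  have h1 : #I ≤ #(AlgebraicClosure F) := by
    refine mk_le_of_injective (f := fun i => algebraMap F _ (algebraMap (MvPolynomial I L) F (MvPolynomial.X i))) ?_
    exact (RingHom.injective (algebraMap F (AlgebraicClosure F))).comp
      ((IsFractionRing.injective (MvPolynomial I L) F).comp MvPolynomial.X_injective)
  refine lt_of_lt_of_le (lt_of_le_of_lt ?_ (cantor #(k ⊕ ULift.{u} ℕ))) (by rwa [← mk_set])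
  simp

/-- At a section the residue field map of the projection is bijective. -/
theorem isIso_residueFieldMap {X Y : Scheme.{u}} (π : X ⟶ Y) (p : Y ⟶ X) [IsIso (p ≫ π)] (y : Y) :
    IsIso (π.residueFieldMap (p y)) := by
  have hp : IsIso ((p ≫ π).residueFieldMap y) := inferInstance
  rw [Scheme.residueFieldMap_comp] at hp
  have hb := @ConcreteCategory.bijective_of_isIso _ _ _ _ _ _ _ _ (π.residueFieldMap (p y) ≫ p.residueFieldMap y) hp
  refine (ConcreteCategory.isIso_iff_bijective _).2 ⟨(π.residueFieldMap (p y)).hom.injective, fun x => ?_⟩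
  obtain ⟨z, hz⟩ := hb.2 (p.residueFieldMap y x)
  exact ⟨z, (p.residueFieldMap y).hom.injective hz⟩

end Groth.GrpdBigField
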