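import Groth.Agent.GitQuot.GrpdField
import Groth.Agent.Calg4.GrpdFieldEquidim
import Groth.Agent.GrpschAbsch.FieldComp
import Groth.Agent.PropsBasic2.Reduced
import Groth.Agent.PropsBasic2.SchTop

/-!
# Irreducible components of a groupoid scheme over a field
-/

set_option autoImplicit false

universe u

open AlgebraicGeometry CategoryTheory CategoryTheory.Limits

noncomputable section

namespace Groth.GrpdComp

open Groth.GrpdBasic (comp comp_congr)
open Groth.GrpschAbsch (exists_isMax_lift eq_of_closure_eq isMax_homeomorph)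

theorem eq_of_le_max {X : Scheme.{u}} {a ζ : X} (ha : IsMax a) (h : a ≤ ζ) : ζ = a :=
  ((Scheme.le_iff_specializes.mp (ha h)).antisymm (Scheme.le_iff_specializes.mp h)).eq.symm

theorem exists_max_over {X' X : Scheme.{u}} (p : X' ⟶ X) [Flat p] {y : X'} {ξ : X} (hξ : IsMax ξ)
    (h : p y ≤ ξ) : ∃ ξ', IsMax ξ' ∧ p ξ' = ξ ∧ y ≤ ξ' := by
  have hgen : GeneralizingMap p := Flat.generalizingMap p
  obtain ⟨y', hy', hpy'⟩ := hgen (Scheme.le_iff_specializes.mp h)
  obtain ⟨ξ', hyξ, hmax, hpξ⟩ := exists_isMax_lift p hξ hpy'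
  exact ⟨ξ', hmax, hpξ, (Scheme.le_iff_specializes.mpr hy').trans hyξ⟩

/-- A partial multiplication with two-sided unit over an algebraically closed field has a single
component through the unit. -/
theorem unique_of_mul {K : Type u} [Field K] [IsAlgClosed K] {X : Scheme.{u}}
    (s t : X ⟶ Spec (CommRingCat.of K)) (e : Spec (CommRingCat.of K) ⟶ X)
    (hs : e ≫ s = 𝟙 _) (ht : e ≫ t = 𝟙 _) (c : Limits.pullback s t ⟶ X)
    (hr : pullback.lift (𝟙 X) (s ≫ e) (by simp [ht]) ≫ c = 𝟙 X)
    (hl : pullback.lift (t ≫ e) (𝟙 X) (by simp [hs]) ≫ c = 𝟙 X)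
    {a b : X} (ha : IsMax a) (hb : IsMax b)
    (hea : e (IsLocalRing.closedPoint K) ≤ a) (heb : e (IsLocalRing.closedPoint K) ≤ b) : a = b := by
  have sub : ∀ {a : X}, e (IsLocalRing.closedPoint K) ≤ a → ∃ (Z : Scheme.{u}) (i : Z ⟶ X)
      (z : Spec (CommRingCat.of K) ⟶ Z), Set.range i = closure {a} ∧ IrreducibleSpace Z ∧ z ≫ i = e := by
    intro a hea
    let C : TopologicalSpace.Closeds X := ⟨closure {a}, isClosed_closure⟩
    let I := Scheme.IdealSheafData.vanishingIdeal C
    have hrange : Set.range I.subschemeι = closure {a} := by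
      rw [Scheme.IdealSheafData.range_subschemeι]; simp [I, C]
    obtain ⟨z, hz⟩ : ∃ z, z ≫ I.subschemeι = e := by
      refine PropsBasic2.exists_lift_of_isReduced e I.subschemeι ?_
      rintro _ ⟨q, rfl⟩
      rw [hrange, Subsingleton.elim (α := ↥(Spec (CommRingCat.of K))) q (IsLocalRing.closedPoint K)]
      exact specializes_iff_mem_closure.mp (Scheme.le_iff_specializes.mp hea)
    obtain ⟨a', ha'⟩ : a ∈ Set.range I.subschemeι := hrange ▸ subset_closure rfl
    refine ⟨_, I.subschemeι, z, hrange, IrreducibleSpace.mk (toPreirreducibleSpace := ⟨?_⟩) ⟨a'⟩, hz⟩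
    have : closure ({a'} : Set I.subscheme) = Set.univ := by
      refine Set.eq_univ_of_forall fun y => ?_
      rw [← specializes_iff_mem_closure,
        ← I.subschemeι.isClosedEmbedding.isInducing.specializes_iff, ha', specializes_iff_mem_closure, ← hrange]
      exact ⟨y, rfl⟩
    exact this ▸ isPreirreducible_singleton.closure
  obtain ⟨Z₁, i₁, z₁, hr₁, _, hz₁⟩ := sub hea
  obtain ⟨Z₂, i₂, z₂, hr₂, _, hz₂⟩ := sub heb
  have := GrpschAbsch.geometricallyIrreducible_of_isSepClosed (i₁ ≫ s)
  have : IrreducibleSpace ↥(Limits.pullback (i₁ ≫ s) (i₂ ≫ t)) := inferInstance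
  let m := pullback.map (i₁ ≫ s) (i₂ ≫ t) s t i₁ i₂ (𝟙 _) (by simp) (by simp) ≫ c
  have hT : IsIrreducible (closure (Set.range m)) := by
    rw [← Set.image_univ]
    exact ((IrreducibleSpace.isIrreducible_univ _).image _ m.continuous.continuousOn).closure
  have h1 : pullback.lift (𝟙 Z₁) ((i₁ ≫ s) ≫ z₂) (by
      simp [← Category.assoc z₂, hz₂, ht]) ≫ m = i₁ := by
    refine Eq.trans ?_ ((congrArg (i₁ ≫ ·) hr).trans (Category.comp_id _))
    simp only [m, ← Category.assoc]
    congr 1
    apply pullback.hom_ext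
    · simp only [Category.assoc, pullback.map, pullback.lift_fst, pullback.lift_fst_assoc, Category.id_comp,
        Category.comp_id]
    · simp only [Category.assoc, pullback.map, pullback.lift_snd, pullback.lift_snd_assoc, hz₂]
  have h2 : pullback.lift ((i₂ ≫ t) ≫ z₁) (𝟙 Z₂) (by
      simp [← Category.assoc z₁, hz₁, hs]) ≫ m = i₂ := by
    refine Eq.trans ?_ ((congrArg (i₂ ≫ ·) hl).trans (Category.comp_id _))
    simp only [m, ← Category.assoc]
    congr 1
    apply pullback.hom_ext
    · simp only [Category.assoc, pullback.map, pullback.lift_fst, pullback.lift_fst_assoc, hz₁]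
    · simp only [Category.assoc, pullback.map, pullback.lift_snd, pullback.lift_snd_assoc, Category.id_comp,
        Category.comp_id]
  obtain ⟨ζ, hζ⟩ := QuasiSober.sober hT isClosed_closure
  have key : ∀ {Z : Scheme.{u}} (i : Z ⟶ X) (v : Z ⟶ Limits.pullback (i₁ ≫ s) (i₂ ≫ t)), v ≫ m = i →
      ∀ x ∈ Set.range i, x ≤ ζ := by
    rintro Z i v hv _ ⟨q, rfl⟩
    refine Scheme.le_iff_specializes.mpr (hζ.specializes (subset_closure ⟨v q, ?_⟩))
    rw [← Scheme.Hom.comp_apply, hv]
  rw [← eq_of_le_max ha (key i₁ _ h1 a (hr₁ ▸ subset_closure rfl)),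
    eq_of_le_max hb (key i₂ _ h2 b (hr₂ ▸ subset_closure rfl))]

section

variable {S : Scheme.{u}} (G : Grpd.GroupoidScheme S) {k : Type u} [Field k]
  (eU : G.U ≅ Spec (CommRingCat.of k))

/-- The unit point of the fibre of `s` over a field-valued point. -/
def unitPt {K : Type u} [Field K] (σ : Spec (CommRingCat.of K) ⟶ G.U) :
    Spec (CommRingCat.of K) ⟶ Limits.pullback G.s σ :=
  pullback.lift (σ ≫ G.e) (𝟙 _) (by rw [Category.assoc, G.e_s, Category.comp_id, Category.id_comp])

include eU in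
/-- Over an algebraically closed field the fibre of `s` has a single component through the unit. -/
theorem unique_fibre {K : Type u} [Field K] [IsAlgClosed K] (σ : Spec (CommRingCat.of K) ⟶ G.U)
    {a b : ↥(Limits.pullback G.s σ)} (ha : IsMax a) (hb : IsMax b)
    (hea : unitPt G σ (IsLocalRing.closedPoint K) ≤ a) (heb : unitPt G σ (IsLocalRing.closedPoint K) ≤ b) :
    a = b := by
  let A := Limits.pullback G.s σ
  let τ : A ⟶ G.U := pullback.fst G.s σ ≫ G.t
  let R' := Limits.pullback τ σ
  let π : R' ⟶ A := pullback.fst τ σ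
  let s' : R' ⟶ Spec (CommRingCat.of K) := π ≫ pullback.snd G.s σ
  let t' : R' ⟶ Spec (CommRingCat.of K) := pullback.snd τ σ
  let α : R' ⟶ G.R := π ≫ pullback.fst G.s σ
  have hα_s : α ≫ G.s = s' ≫ σ := by simp [α, s', pullback.condition]
  have hα_t : α ≫ G.t = t' ≫ σ := by simpa [α, τ, t'] using (pullback.condition (f := τ) (g := σ))
  let e' : Spec (CommRingCat.of K) ⟶ R' := pullback.lift (unitPt G σ) (𝟙 _)
    (by simp [τ, unitPt, pullback.lift_fst_assoc, G.e_t])
  have he's : e' ≫ s' = 𝟙 _ :=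
    (pullback.lift_fst_assoc _ _ _ (pullback.snd G.s σ)).trans (pullback.lift_snd _ _ _)
  have he't : e' ≫ t' = 𝟙 _ := pullback.lift_snd _ _ _
  have he'α : e' ≫ α = σ ≫ G.e :=
    (pullback.lift_fst_assoc _ _ _ (pullback.fst G.s σ)).trans (pullback.lift_fst _ _ _)
  have hα : π ≫ pullback.fst G.s σ = α := rfl
  have hs' : π ≫ pullback.snd G.s σ = s' := rfl
  have he'π' : e' ≫ π = unitPt G σ := pullback.lift_fst _ _ _
  clear_value α e' s'
  have hpair : (pullback.fst s' t' ≫ α) ≫ G.s = (pullback.snd s' t' ≫ α) ≫ G.t := by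
    rw [Category.assoc, Category.assoc, hα_s, hα_t, ← Category.assoc, pullback.condition, Category.assoc]
  let γ := comp G (pullback.fst s' t' ≫ α) (pullback.snd s' t' ≫ α) hpair
  let γA : Limits.pullback s' t' ⟶ A := pullback.lift γ (pullback.snd s' t' ≫ s')
    (by rw [GrpdBasic.comp_s, Category.assoc, hα_s, Category.assoc])
  let c' : Limits.pullback s' t' ⟶ R' := pullback.lift γA (pullback.fst s' t' ≫ t') (by
    show γA ≫ pullback.fst G.s σ ≫ G.t = _
    rw [← Category.assoc, pullback.lift_fst, GrpdBasic.comp_t, Category.assoc, hα_t, Category.assoc])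
  have hr : pullback.lift (𝟙 R') (s' ≫ e') (by simp [he't]) ≫ c' = 𝟙 R' := by
    apply pullback.hom_ext
    · refine Eq.trans ?_ (Category.id_comp _).symm
      rw [Category.assoc, pullback.lift_fst]
      apply pullback.hom_ext
      · rw [Category.assoc, pullback.lift_fst, GrpdBasic.precomp_comp]
        refine Eq.trans ?_ ((GrpdBasic.comp_unit G α (u := s' ≫ σ) hα_s).trans hα.symm)
        apply comp_congr
        · rw [pullback.lift_fst_assoc, Category.id_comp]
        · rw [pullback.lift_snd_assoc, Category.assoc, he'α, Category.assoc]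
      · rw [Category.assoc, pullback.lift_snd, pullback.lift_snd_assoc, Category.assoc, he's, Category.comp_id]
        exact hs'.symm
    · rw [Category.assoc, pullback.lift_snd, pullback.lift_fst_assoc]
  have hl : pullback.lift (t' ≫ e') (𝟙 R') (by simp [he's]) ≫ c' = 𝟙 R' := by
    apply pullback.hom_ext
    · refine Eq.trans ?_ (Category.id_comp _).symm
      rw [Category.assoc, pullback.lift_fst]
      apply pullback.hom_ext
      · rw [Category.assoc, pullback.lift_fst, GrpdBasic.precomp_comp]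
        refine Eq.trans ?_ ((GrpdBasic.unit_comp G α (u := t' ≫ σ) hα_t).trans hα.symm)
        apply comp_congr
        · rw [pullback.lift_fst_assoc, Category.assoc, he'α, Category.assoc]
        · rw [pullback.lift_snd_assoc, Category.id_comp]
      · rw [Category.assoc, pullback.lift_snd, pullback.lift_snd_assoc, Category.id_comp]
        exact hs'.symm
    · rw [Category.assoc, pullback.lift_snd, pullback.lift_fst_assoc, Category.assoc, he't, Category.comp_id,
        Category.id_comp]
  have := GrpdBasic.subsingleton_of_iso_field k eU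
  have := GrpdBasic.isIntegral_of_iso_field k eU
  have : Flat π := inferInstance
  have he'π : π (e' (IsLocalRing.closedPoint K)) = unitPt G σ (IsLocalRing.closedPoint K) := by
    rw [← Scheme.Hom.comp_apply, he'π']
  obtain ⟨a', ha', hpa, hea'⟩ := exists_max_over π (y := e' (IsLocalRing.closedPoint K)) ha (by rwa [he'π])
  obtain ⟨b', hb', hpb, heb'⟩ := exists_max_over π (y := e' (IsLocalRing.closedPoint K)) hb (by rwa [he'π])
  rw [← hpa, ← hpb, unique_of_mul s' t' e' he's he't c' hr hl ha' hb' hea' heb']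

include eU in
/-- Every point of `R` specializes from a single maximal point. -/
theorem isMax_unique {r a b : G.R} (ha : IsMax a) (hb : IsMax b) (hra : r ≤ a) (hrb : r ≤ b) : a = b := by
  let K := AlgebraicClosure (G.R.residueField r)
  let ρ : Spec (CommRingCat.of K) ⟶ G.R :=
    Spec.map (CommRingCat.ofHom (algebraMap (G.R.residueField r) K)) ≫ G.R.fromSpecResidueField r
  let o := IsLocalRing.closedPoint K
  have hρ : ρ o = r := by
    rw [Scheme.Hom.comp_apply]; exact Scheme.fromSpecResidueField_apply _ _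
  let θ := Calg4.GrpdDim.rightTransIso G ρ
  let x := unitPt G (ρ ≫ G.t) ≫ θ.hom
  have hx : x ≫ pullback.fst G.s (ρ ≫ G.s) = ρ := by
    rw [Category.assoc, show θ.hom ≫ pullback.fst G.s (ρ ≫ G.s) =
        comp G (pullback.fst G.s (ρ ≫ G.t)) (pullback.snd G.s (ρ ≫ G.t) ≫ ρ)
          (by rw [Category.assoc]; exact pullback.condition) from pullback.lift_fst _ _ _,
      GrpdBasic.precomp_comp]
    refine Eq.trans ?_ (GrpdBasic.unit_comp G ρ (u := ρ ≫ G.t) rfl)
    apply comp_congr
    · exact pullback.lift_fst _ _ _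
    · exact ((Category.assoc _ _ _).symm.trans
        (congrArg (fun f => f ≫ ρ) (pullback.lift_snd _ _ _))).trans (Category.id_comp ρ)
  have hxr : pullback.fst G.s (ρ ≫ G.s) (x o) = r := by
    rw [← Scheme.Hom.comp_apply, hx, hρ]
  have := GrpdBasic.subsingleton_of_iso_field k eU
  have := GrpdBasic.isIntegral_of_iso_field k eU
  obtain ⟨a', ha', hpa, hxa⟩ := exists_max_over (pullback.fst G.s (ρ ≫ G.s)) (y := x o) ha (by rwa [hxr])
  obtain ⟨b', hb', hpb, hxb⟩ := exists_max_over (pullback.fst G.s (ρ ≫ G.s)) (y := x o) hb (by rwa [hxr])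
  let φ := Scheme.homeoOfIso θ
  have hle : ∀ {c}, x o ≤ c → unitPt G (ρ ≫ G.t) o ≤ φ.symm c := fun {c} hc => by
    have h := (Scheme.le_iff_specializes.mp hc).map φ.symm.continuous
    rw [show x o = φ (unitPt G (ρ ≫ G.t) o) from Scheme.Hom.comp_apply _ _ _, φ.symm_apply_apply] at h
    exact Scheme.le_iff_specializes.mpr h
  have := unique_fibre G eU (ρ ≫ G.t) (isMax_homeomorph' φ.symm ha') (isMax_homeomorph' φ.symm hb')
    (hle hxa) (hle hxb)
  rw [← hpa, ← hpb, φ.symm.injective this]
where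
  isMax_homeomorph' {X Y : Scheme.{u}} (φ : X ≃ₜ Y) {a : X} (ha : IsMax a) : IsMax (φ a) := fun z hz ↦ by
    have h1 := (Scheme.le_iff_specializes.mp hz).map φ.symm.continuous
    rw [φ.symm_apply_apply] at h1
    have h2 := (Scheme.le_iff_specializes.mp (ha (Scheme.le_iff_specializes.mpr h1))).map φ.continuous
    rw [φ.apply_symm_apply] at h2
    exact Scheme.le_iff_specializes.mpr h2

theorem isMax_of_mem_irreducibleComponents {X : Scheme.{u}} {Z : Set X} (hZ : Z ∈ irreducibleComponents X)
    {ξ : X} (hξ : IsGenericPoint ξ Z) : IsMax ξ := fun z hz ↦ by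
  have h1 : Z ⊆ closure {z} := by
    rw [← hξ]
    exact closure_minimal (Set.singleton_subset_iff.mpr
      ((Scheme.le_iff_specializes.mp hz).mem_closed isClosed_closure (subset_closure rfl))) isClosed_closure
  exact Scheme.le_iff_specializes.mpr (hξ.specializes
    (hZ.2 isIrreducible_singleton.closure h1 (subset_closure rfl)))

include eU in
theorem existsUnique_component (r : G.R) :
    ∃! Z : Set G.R, Z ∈ irreducibleComponents (G.R : Type u) ∧ r ∈ Z := by
  obtain ⟨ξ, hξ, hrξ⟩ := PropsBasic2.exists_genericPoint_specializes r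
  refine ⟨closure {ξ}, ⟨hξ, specializes_iff_mem_closure.mp hrξ⟩, fun Z hZ => ?_⟩
  obtain ⟨η, hη⟩ := QuasiSober.sober hZ.1.1 (isClosed_of_mem_irreducibleComponents _ hZ.1)
  rw [← hη, isMax_unique G eU (isMax_of_mem_irreducibleComponents hZ.1 hη)
    (isMax_of_mem_irreducibleComponents hξ rfl)
    (Scheme.le_iff_specializes.mpr (hη.specializes hZ.2)) (Scheme.le_iff_specializes.mpr hrξ)]

include eU in
theorem minimalPrimes_subsingleton (r : G.R) : (minimalPrimes (G.R.presheaf.stalk r)).Subsingleton := by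
  have hmax : ∀ p (hp : p ∈ minimalPrimes (G.R.presheaf.stalk r)),
      IsMax (G.R.fromSpecStalk r ⟨p, hp.1.1⟩) ∧ r ≤ G.R.fromSpecStalk r ⟨p, hp.1.1⟩ := by
    intro p hp
    have hge : ∀ q, G.R.fromSpecStalk r q ⤳ r := fun q => by
      have := Set.mem_range_self (f := G.R.fromSpecStalk r) q
      rw [Scheme.range_fromSpecStalk] at this
      exact this
    refine ⟨fun z hz => ?_, Scheme.le_iff_specializes.mpr (hge _)⟩
    have hzr : z ⤳ r := (Scheme.le_iff_specializes.mp hz).trans (hge _)
    obtain ⟨q, rfl⟩ : z ∈ Set.range (G.R.fromSpecStalk r) := by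
      rw [Scheme.range_fromSpecStalk]; exact hzr
    have hsp := (G.R.fromSpecStalk r).isEmbedding.isInducing.specializes_iff.1 (Scheme.le_iff_specializes.mp hz)
    have hle : q.asIdeal ≤ p := (PrimeSpectrum.le_iff_specializes q ⟨p, hp.1.1⟩).2 hsp
    rw [show q = ⟨p, hp.1.1⟩ from PrimeSpectrum.ext (le_antisymm hle (hp.2 ⟨q.2, bot_le⟩ hle))]
  intro p hp q hq
  have := (G.R.fromSpecStalk r).isEmbedding.injective
    (isMax_unique G eU (hmax p hp).1 (hmax q hq).1 (hmax p hp).2 (hmax q hq).2)
  exact congrArg PrimeSpectrum.asIdeal this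

include eU in
/-- The component of the identity is geometrically irreducible through `s`. -/
theorem geometricallyIrreducible_component {Z : Scheme.{u}} (ι : Z ⟶ G.R) [IsClosedImmersion ι]
    [IrreducibleSpace Z] (hZ : Set.range ι ∈ irreducibleComponents (G.R : Type u))
    (u₀ : G.U) (he : G.e u₀ ∈ Set.range ι) : GeometricallyIrreducible (ι ≫ G.s ≫ eU.hom) := by
  let K := AlgebraicClosure k
  let g := Spec.map (CommRingCat.ofHom (algebraMap k K))
  have : IsIntegralHom g := IsIntegralHom.SpecMap_iff.mpr (algebraMap_isIntegral_iff.mpr inferInstance)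
  have : Surjective g := inferInstance
  suffices hirr : IrreducibleSpace ↥(Limits.pullback (ι ≫ G.s ≫ eU.hom) g) by
    have h := GrpschAbsch.geometricallyIrreducible_of_isSepClosed (pullback.snd (ι ≫ G.s ≫ eU.hom) g)
    rw [geometricallyIrreducible_iff] at h ⊢
    exact Flatmor4.geometrically_of_surjective_base_change (P := fun S ↦ IrreducibleSpace S)
      Flatmor4.irreducibleSpace_of_surjective (IsPullback.of_hasPullback _ _) h
  let σ : Spec (CommRingCat.of K) ⟶ G.U := g ≫ eU.inv
  have : IsIntegralHom σ := inferInstance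
  let p := pullback.fst G.s σ
  have := GrpdBasic.subsingleton_of_iso_field k eU
  have := GrpdBasic.isIntegral_of_iso_field k eU
  let e' := unitPt G σ (IsLocalRing.closedPoint K)
  have hu : σ (IsLocalRing.closedPoint K) = u₀ := Subsingleton.elim _ _
  have he' : p e' = G.e u₀ := by
    rw [← hu]
    exact (Scheme.Hom.comp_apply _ _ _).symm.trans ((congrArg (fun f : Spec (CommRingCat.of K) ⟶ G.R => f (IsLocalRing.closedPoint K))
      (pullback.lift_fst _ _ _)).trans (Scheme.Hom.comp_apply _ _ _))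
  have hfib : (p.base ⁻¹' {G.e u₀}).Subsingleton := by
    have : Subsingleton ↥(Limits.pullback G.e p) :=
      (pullbackRightPullbackFstIso G.s σ G.e ≪≫ pullback.congrHom G.e_s rfl ≪≫
        asIso (pullback.snd (𝟙 _) σ)).hom.homeomorph.injective.subsingleton
    intro q₁ h₁ q₂ h₂
    obtain ⟨w₁, -, hw₁⟩ := Scheme.Pullback.exists_preimage_pullback (f := G.e) (g := p) u₀ q₁ h₁.symm
    obtain ⟨w₂, -, hw₂⟩ := Scheme.Pullback.exists_preimage_pullback (f := G.e) (g := p) u₀ q₂ h₂.symm
    rw [← hw₁, ← hw₂, Subsingleton.elim w₁ w₂]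
  obtain ⟨ξ, hξ⟩ := QuasiSober.sober hZ.1 (isClosed_of_mem_irreducibleComponents _ hZ)
  have hξmax : IsMax ξ := isMax_of_mem_irreducibleComponents hZ hξ
  have hmax_e : ∀ {ξ'}, p ξ' = ξ → e' ≤ ξ' := by
    intro ξ' hp
    obtain ⟨w, hw, hwe⟩ : G.e u₀ ∈ p '' closure {ξ'} :=
      (hξ.specializes he).mem_closed (p.isClosedMap _ isClosed_closure) ⟨ξ', subset_closure rfl, hp⟩
    rw [hfib hwe he'] at hw
    exact Scheme.le_iff_specializes.mpr (specializes_iff_mem_closure.mpr hw)
  have hall : ∀ y, p y ∈ Set.range ι → ∃ ξ', IsMax ξ' ∧ p ξ' = ξ ∧ y ≤ ξ' := fun y hy =>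
    exists_max_over p hξmax (Scheme.le_iff_specializes.mpr (hξ.specializes hy))
  obtain ⟨W, hW, hpW, -⟩ := hall e' (by rwa [he'])
  let P := Limits.pullback (ι ≫ G.s) σ
  let j : P ⟶ Limits.pullback G.s σ := pullback.map _ _ _ _ ι (𝟙 _) (𝟙 _) (by simp) (by simp)
  have hrange : Set.range j = p ⁻¹' Set.range ι := by
    rw [Scheme.Pullback.range_map]; simp [p]
  have : IsClosedImmersion j := by
    have hsq : IsPullback (pullback.fst (ι ≫ G.s) σ) j ι p := ?_
    · exact MorphismProperty.of_isPullback (P := @IsClosedImmersion) hsq ‹IsClosedImmersion ι›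
    refine (IsPullback.of_bot ?_ (pullback.lift_fst _ _ _).symm (IsPullback.of_hasPullback G.s σ))
    rw [show j ≫ pullback.snd G.s σ = pullback.snd _ _ from (pullback.lift_snd _ _ _).trans (Category.comp_id _)]
    exact IsPullback.of_hasPullback (ι ≫ G.s) σ
  obtain ⟨w, hw⟩ : W ∈ Set.range j := by
    rw [hrange]
    show p W ∈ Set.range ι
    rw [hpW]; exact hξ.mem
  have hirrP : IrreducibleSpace P := by
    refine IrreducibleSpace.mk (toPreirreducibleSpace := ⟨?_⟩) ⟨w⟩
    have : closure ({w} : Set P) = Set.univ := by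
      refine Set.eq_univ_of_forall fun y ↦ ?_
      rw [← specializes_iff_mem_closure, ← j.isClosedEmbedding.isInducing.specializes_iff, hw]
      obtain ⟨ξ', hmax, hpξ, hle⟩ := hall (j y) (by
        have : j y ∈ p ⁻¹' Set.range ι := hrange ▸ Set.mem_range_self y
        exact this)
      rw [← unique_fibre G eU σ hmax hW (hmax_e hpξ) (hmax_e hpW)]
      exact Scheme.le_iff_specializes.mp hle
    rw [← this]
    exact isPreirreducible_singleton.closure
  let ε : P ≅ Limits.pullback (ι ≫ G.s ≫ eU.hom) g := pullback.congrHom rfl rfl ≪≫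
    asIso (pullback.map (ι ≫ G.s) σ (ι ≫ G.s ≫ eU.hom) g (𝟙 _) (𝟙 _) eU.hom (by simp) (by simp [σ]))
  exact ε.hom.homeomorph.irreducibleSpace_iff.1 hirrP

include eU in
theorem geometricallyIrreducible_component_both {Z : Scheme.{u}} (ι : Z ⟶ G.R) [IsClosedImmersion ι]
    [IrreducibleSpace Z] (hZ : Set.range ι ∈ irreducibleComponents (G.R : Type u))
    (u₀ : G.U) (he : G.e u₀ ∈ Set.range ι) :
    GeometricallyIrreducible (ι ≫ G.s ≫ eU.hom) ∧ GeometricallyIrreducible (ι ≫ G.t ≫ eU.hom) := by
  refine ⟨geometricallyIrreducible_component G eU ι hZ u₀ he, ?_⟩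
  have hei : G.e ≫ G.i = G.e := by
    have h := GrpdBasic.inv_comp G G.e
    rw [G.e_s, Category.id_comp] at h
    refine Eq.trans ?_ h
    exact (GrpdBasic.comp_unit G (G.e ≫ G.i) (u := 𝟙 _) (by rw [Category.assoc, G.i_s, G.e_t])).symm.trans
      (comp_congr G _ rfl (Category.id_comp G.e))
  obtain ⟨z, hz⟩ := he
  have h := geometricallyIrreducible_component G eU (ι ≫ G.i) ?_ u₀ ⟨z, ?_⟩
  · rwa [Category.assoc, reassoc_of% G.i_s] at h
  · rw [Scheme.Hom.comp_base, TopCat.coe_comp, Set.range_comp]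
    exact image_mem_irreducibleComponents G.i.homeomorph hZ
  · rw [Scheme.Hom.comp_apply, hz, ← Scheme.Hom.comp_apply, hei]
where
  image_mem_irreducibleComponents {X Y : Scheme.{u}} (φ : X ≃ₜ Y) {Z : Set X}
      (hZ : Z ∈ irreducibleComponents X) : φ '' Z ∈ irreducibleComponents Y := by
    refine ⟨hZ.1.image _ φ.continuous.continuousOn, fun W hW hle => ?_⟩
    have h1 : Z ⊆ φ.symm '' W := fun x hx => ⟨φ x, hle ⟨x, hx, rfl⟩, φ.symm_apply_apply x⟩
    intro w hw
    exact ⟨φ.symm w, hZ.2 (hW.image _ φ.symm.continuous.continuousOn) h1 ⟨w, hw, rfl⟩, φ.apply_symm_apply w⟩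

end

end Groth.GrpdComp
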