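import Groth.Agent.GitQuot.GrpdFinStrata

/-!
# The open stratum of a groupoid scheme with finite source and target

An invariant open `W` whose closure meets every orbit, with a thickened invariant closed subscheme
over which source and target are finite locally free.
-/

set_option autoImplicit false

universe u

open CategoryTheory CategoryTheory.Limits AlgebraicGeometry TopologicalSpace

noncomputable section

namespace Groth.GrpdFinStrata

open Groth.FinStrata

theorem ker_ι_of_eq_top {X : Scheme.{u}} {A : X.Opens} (h : A = ⊤) : A.ι.ker = ⊥ := by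
  subst h
  haveI : IsIso (⊤ : X.Opens).ι := by
    rw [← X.topIso_hom]; infer_instance
  exact Scheme.Hom.ker_eq_bot_of_isIso _

theorem ker_ι_of_eq_bot {X : Scheme.{u}} {A : X.Opens} (h : A = ⊥) [QuasiCompact A.ι] : A.ι.ker = ⊤ :=
  eq_top_of_forall_notMem fun x hx => by
    rw [← SetLike.mem_coe, Scheme.Hom.support_ker, Scheme.Opens.range_ι, h] at hx
    simp at hx

theorem comap_ker_clopen {T X : Scheme.{u}} (A : X.Opens) [IsClosedImmersion A.ι] (g : T ⟶ X) :
    A.ι.ker.comap g = (g ⁻¹ᵁ A).ι.ker := by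
  rw [← Scheme.IdealSheafData.ker_fst_of_isClosedImmersion A.ι g, ← pullbackRestrictIsoRestrict_hom_ι g A,
    Scheme.Hom.ker_comp_of_isIso]

theorem isClosedImmersion_preimage {T X : Scheme.{u}} (A : X.Opens) [IsClosedImmersion A.ι] (g : T ⟶ X) :
    IsClosedImmersion (g ⁻¹ᵁ A).ι := by
  refine IsClosedImmersion.of_isPreimmersion _ ?_
  rw [Scheme.Opens.range_ι]
  have h := A.ι.isClosedEmbedding.isClosed_range
  rw [Scheme.Opens.range_ι] at h
  exact h.preimage g.continuous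

theorem ker_ι_congr {X : Scheme.{u}} {A B : X.Opens} (h : A = B) : A.ι.ker = B.ι.ker := by rw [h]

theorem lfp_subschemeι {X : Scheme.{u}} (I : X.IdealSheafData)
    (h : ∀ x : X, ∃ V : X.affineOpens, x ∈ V.1 ∧ (I.ideal V).FG) :
    LocallyOfFinitePresentation I.subschemeι := by
  refine (HasRingHomProperty.iff_exists_appLE (P := @LocallyOfFinitePresentation)
    (RingHom.finitePresentation_stableUnderComposition.stableUnderCompositionWithLocalizationAway
      RingHom.finitePresentation_holdsForLocalizationAway).1).2 fun z => ?_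
  obtain ⟨V, hV, hfg⟩ := h (I.subschemeι z)
  refine ⟨V, ⟨_, V.2.preimage I.subschemeι⟩, hV, le_rfl, ?_⟩
  rw [Scheme.Hom.appLE_eq_app]
  refine RingHom.FinitePresentation.of_surjective _ (I.subschemeι.app_surjective V.1 V.2) ?_
  rwa [← Scheme.Hom.ker_apply, Scheme.IdealSheafData.ker_subschemeι]

variable {S : Scheme.{u}} (G : Grpd.GroupoidScheme S) [IsFinite G.s] [IsFinite G.t]

/-- The points moved into `C`. -/
def sat (C : Set G.U) : Set G.U := G.t '' (G.s ⁻¹' C)

omit [IsFinite G.s] [IsFinite G.t] in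
theorem subset_sat (C : Set G.U) : C ⊆ sat G C := fun x hx => by
  refine ⟨G.e x, ?_, ?_⟩
  · show G.s (G.e x) ∈ C
    rw [← Scheme.Hom.comp_apply, G.e_s]; exact hx
  · rw [← Scheme.Hom.comp_apply, G.e_t]; rfl

omit [IsFinite G.s] [IsFinite G.t] in
theorem exists_comp_arrow {a b : G.R} (h : G.s a = G.t b) : ∃ c, G.s c = G.s b ∧ G.t c = G.t a := by
  obtain ⟨z, ha, hb⟩ := Scheme.Pullback.exists_preimage_pullback (f := G.s) (g := G.t) a b h
  refine ⟨G.c z, ?_, ?_⟩
  · rw [← hb, ← Scheme.Hom.comp_apply, ← Scheme.Hom.comp_apply (pullback.snd G.s G.t), GrpdBasic.c_s]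
  · rw [← ha, ← Scheme.Hom.comp_apply, ← Scheme.Hom.comp_apply (pullback.fst G.s G.t), GrpdBasic.c_t]

omit [IsFinite G.s] [IsFinite G.t] in
theorem sat_invariant (C : Set G.U) (a : G.R) : G.s a ∈ sat G C ↔ G.t a ∈ sat G C := by
  constructor
  · rintro ⟨b, hb, hba⟩
    obtain ⟨c, hc₁, hc₂⟩ := exists_comp_arrow G hba.symm
    exact ⟨c, show G.s c ∈ C from hc₁ ▸ hb, hc₂⟩
  · rintro ⟨b, hb, hba⟩
    have hi₁ : G.s (G.i a) = G.t a := by rw [← Scheme.Hom.comp_apply, G.i_s]
    have hi₂ : G.t (G.i a) = G.s a := by rw [← Scheme.Hom.comp_apply, G.i_t]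
    obtain ⟨c, hc₁, hc₂⟩ := exists_comp_arrow G (hi₁.trans hba.symm)
    exact ⟨c, show G.s c ∈ C from hc₁ ▸ hb, hc₂.trans hi₂⟩

/-- The open `{rk ≤ r}`. -/
def A (r : ℕ) : G.U.Opens := (fitData G.s r).support.compl

omit [IsFinite G.t] in
theorem mem_A {u : G.U} {r : ℕ} : u ∈ A G r ↔ rk G.s u ≤ r := notMem_support_iff G.s

/-- The complement of the saturation of a closure. -/
def satCompl (V : G.U.Opens) : G.U.Opens :=
  ⟨(sat G (closure (V : Set G.U)))ᶜ,
    (G.t.isClosedMap _ (isClosed_closure.preimage G.s.continuous)).isOpen_compl⟩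

/-- The union of the strata of rank `< r`. -/
def Wlt : ℕ → G.U.Opens
  | 0 => ⊥
  | r + 1 => Wlt r ⊔ (A G r ⊓ satCompl G (Wlt r))

/-- The stratum of rank `r`. -/
def piece (r : ℕ) : G.U.Opens := A G r ⊓ satCompl G (Wlt G r)

/-- The invariant open. -/
def Wop : G.U.Opens := ⨆ r, piece G r

theorem piece_le_Wlt {j r : ℕ} (h : j < r) : piece G j ≤ Wlt G r := by
  induction r with
  | zero => exact absurd h (Nat.not_lt_zero _)
  | succ r ih =>
    rcases Nat.lt_succ_iff_lt_or_eq.1 h with h | rfl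
    · exact (ih h).trans le_sup_left
    · exact le_sup_right

theorem Wlt_le_Wop (r : ℕ) : Wlt G r ≤ Wop G := by
  induction r with
  | zero => exact bot_le
  | succ r ih => exact sup_le ih (le_iSup (piece G) r)

theorem Wlt_mono {j r : ℕ} (h : j ≤ r) : Wlt G j ≤ Wlt G r := by
  induction h with
  | refl => exact le_rfl
  | step _ ih => exact ih.trans le_sup_left

theorem mem_piece_or (u : G.U) :
    u ∈ piece G (rk G.s u) ∨ u ∈ sat G (closure (Wlt G (rk G.s u) : Set G.U)) := by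
  by_cases h : u ∈ sat G (closure (Wlt G (rk G.s u) : Set G.U))
  · exact Or.inr h
  · exact Or.inl ⟨(mem_A G).2 le_rfl, h⟩

theorem rk_piece {u : G.U} {r : ℕ} (hu : u ∈ piece G r) : rk G.s u = r := by
  refine le_antisymm ((mem_A G).1 hu.1) (not_lt.1 fun hlt => hu.2 ?_)
  rcases mem_piece_or G u with h | h
  · exact subset_sat G _ (subset_closure (piece_le_Wlt G hlt h))
  · exact Set.image_mono (Set.preimage_mono (closure_mono (Wlt_mono G hlt.le))) h

theorem piece_invariant (r : ℕ) (a : G.R) : G.s a ∈ piece G r ↔ G.t a ∈ piece G r :=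
  and_congr (by rw [SetLike.mem_coe, SetLike.mem_coe, mem_A, mem_A, rk_s_eq_rk_t])
    (not_congr (sat_invariant G _ a))

theorem mem_Wop {u : G.U} : u ∈ Wop G ↔ u ∈ piece G (rk G.s u) := by
  refine ⟨fun h => ?_, fun h => Opens.mem_iSup.2 ⟨_, h⟩⟩
  obtain ⟨r, hr⟩ := Opens.mem_iSup.1 h
  rwa [rk_piece G hr]

theorem Wop_invariant : G.s ⁻¹ᵁ Wop G = G.t ⁻¹ᵁ Wop G :=
  Opens.ext <| Set.ext fun a => by
    show G.s a ∈ Wop G ↔ G.t a ∈ Wop G
    rw [mem_Wop, mem_Wop, rk_s_eq_rk_t]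
    exact piece_invariant G _ a

theorem exists_orbit_closure (u : G.U) : ∃ r : G.R, G.t r = u ∧ G.s r ∈ closure (Wop G : Set G.U) := by
  rcases mem_piece_or G u with h | ⟨a, ha, hau⟩
  · exact ⟨G.e u, by rw [← Scheme.Hom.comp_apply, G.e_t]; rfl, subset_closure (by
      rw [← Scheme.Hom.comp_apply, G.e_s]; exact (mem_Wop G).2 h)⟩
  · exact ⟨a, hau, closure_mono (Wlt_le_Wop G _) ha⟩

/-- The clopen part `{rk ≤ k}` of `W`. -/
def Ak (k : ℕ) : (Wop G).toScheme.Opens := (Wop G).ι ⁻¹ᵁ A G k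

instance (k : ℕ) : IsClosedImmersion (Ak G k).ι := by
  refine IsClosedImmersion.of_isPreimmersion _ ?_
  rw [Scheme.Opens.range_ι, ← isOpen_compl_iff]
  have : ((Ak G k : Set (Wop G).toScheme))ᶜ = ⋃ j ∈ {j | k < j}, (Wop G).ι ⁻¹' piece G j := by
    ext x
    have hx := (mem_Wop G).1 x.2
    simp only [Set.mem_compl_iff, SetLike.mem_coe, Set.mem_iUnion, Set.mem_preimage, Set.mem_setOf_eq,
      exists_prop]
    show ¬ (Wop G).ι x ∈ A G k ↔ _
    rw [mem_A, not_le]
    exact ⟨fun h => ⟨_, h, hx⟩, fun ⟨j, hj, hxj⟩ => lt_of_lt_of_eq hj (rk_piece G hxj).symm⟩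
  rw [this]
  exact isOpen_biUnion fun j _ => (piece G j).2.preimage (Wop G).ι.continuous

/-- The thickened stratum. -/
def ideal' : (Wop G).toScheme.IdealSheafData :=
  ⨆ k, (fitData G.s k).comap (Wop G).ι * (Ak G k).ι.ker

theorem comap_ideal' {T : Scheme.{u}} (g : T ⟶ (Wop G).toScheme) :
    (ideal' G).comap g = ⨆ k, (fitData G.s k).comap (g ≫ (Wop G).ι) * (g ⁻¹ᵁ Ak G k).ι.ker := by
  rw [ideal', (Scheme.IdealSheafData.map_gc g).l_iSup]
  simp_rw [Groth.Divisors.comap_mul, comap_ker_clopen, Scheme.IdealSheafData.comap_comp]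

theorem support_ideal' : (ideal' G).support = ⊤ := by
  refine SetLike.ext fun x => iff_of_true ?_ trivial
  rw [ideal', Scheme.IdealSheafData.support_iSup]
  simp only [Closeds.mem_iInf, Scheme.IdealSheafData.support_mul]
  intro k
  by_cases hk : x ∈ Ak G k
  · refine Or.inr ?_
    rw [SetLike.mem_coe, ← SetLike.mem_coe, Scheme.Hom.support_ker, Scheme.Opens.range_ι]
    exact subset_closure hk
  · refine Or.inl ?_
    rw [SetLike.mem_coe, Scheme.IdealSheafData.support_comap]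
    exact not_not.1 hk

/-- Inclusion of the thickened stratum. -/
abbrev incl : (ideal' G).subscheme ⟶ G.U := (ideal' G).subschemeι ≫ (Wop G).ι

theorem exists_invariant_iso : ∃ φ : pullback G.s (incl G) ≅ pullback G.t (incl G),
    φ.hom ≫ pullback.fst G.t (incl G) = pullback.fst G.s (incl G) := by
  let V := G.s ⁻¹ᵁ Wop G
  let sR : V.toScheme ⟶ (Wop G).toScheme := G.s ∣_ Wop G
  let tR : V.toScheme ⟶ (Wop G).toScheme := G.t.resLE (Wop G) V (Wop_invariant G).le
  have hsR : sR ≫ (Wop G).ι = V.ι ≫ G.s := morphismRestrict_ι G.s (Wop G)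
  have htR : tR ≫ (Wop G).ι = V.ι ≫ G.t := G.t.resLE_comp_ι _
  have hs : IsPullback V.ι sR G.s (Wop G).ι := (isPullback_morphismRestrict G.s (Wop G)).flip
  have ht : IsPullback V.ι tR G.t (Wop G).ι := by
    refine (IsOpenImmersion.isPullback tR V.ι (Wop G).ι G.t htR.symm ?_).flip
    rw [Scheme.Opens.opensRange_ι, Scheme.Opens.opensRange_ι]
    exact (Wop_invariant G).symm
  have hpre : ∀ k, sR ⁻¹ᵁ Ak G k = tR ⁻¹ᵁ Ak G k := fun k => Opens.ext <| Set.ext fun x => by
    show (Wop G).ι (sR x) ∈ A G k ↔ (Wop G).ι (tR x) ∈ A G k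
    rw [← Scheme.Hom.comp_apply, ← Scheme.Hom.comp_apply, hsR, htR, Scheme.Hom.comp_apply,
      Scheme.Hom.comp_apply, mem_A, mem_A, rk_s_eq_rk_t]
  have hJ : (ideal' G).comap sR = (ideal' G).comap tR := by
    rw [comap_ideal', comap_ideal']
    refine iSup_congr fun k => ?_
    rw [hsR, htR, Scheme.IdealSheafData.comap_comp, Scheme.IdealSheafData.comap_comp, comap_fitData_eq G k,
      ker_ι_congr (hpre k)]
  obtain ⟨φ, hφ⟩ := exists_pullback_iso (ideal' G) hJ
  have hs' := (IsPullback.of_hasPullback sR (ideal' G).subschemeι).paste_horiz hs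
  have ht' := (IsPullback.of_hasPullback tR (ideal' G).subschemeι).paste_horiz ht
  exact exists_iso_of_squares hs' ht' φ hφ
where
  exists_iso_of_squares {P P' T Z : Scheme.{u}} {a : P ⟶ T} {b : P' ⟶ T} {p : P ⟶ Z} {p' : P' ⟶ Z}
      {j : T ⟶ G.R} {s t : G.R ⟶ G.U} {m : Z ⟶ G.U} (h : IsPullback (a ≫ j) p s m)
      (h' : IsPullback (b ≫ j) p' t m) (φ : P ≅ P') (hφ : φ.hom ≫ b = a) :
      ∃ ψ : pullback s m ≅ pullback t m, ψ.hom ≫ pullback.fst t m = pullback.fst s m :=
    ⟨h.isoPullback.symm ≪≫ φ ≪≫ h'.isoPullback, by simp [reassoc_of% hφ]⟩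

theorem isFinLocFree_incl : Mor2.IsFinLocFree (pullback.snd G.s (incl G)) := by
  let O : ℕ → (ideal' G).subscheme.Opens := fun j => incl G ⁻¹ᵁ piece G j
  have hcov : ⨆ j, O j = ⊤ := top_le_iff.1 fun x _ =>
    Opens.mem_iSup.2 ⟨_, (mem_Wop G).1 ((ideal' G).subschemeι x).2⟩
  have h : ∀ j, Mor2.IsFinLocFreeOfDeg j (pullback.snd G.s (incl G) ∣_ O j) := fun j => by
    have hsq : IsPullback ((pullback.snd G.s (incl G) ⁻¹ᵁ O j).ι ≫ pullback.fst G.s (incl G))
        (pullback.snd G.s (incl G) ∣_ O j) G.s ((O j).ι ≫ incl G) :=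
      (isPullback_morphismRestrict _ (O j)).flip.paste_horiz (IsPullback.of_hasPullback G.s (incl G))
    have hc : ∀ k, fitData (pullback.snd G.s (incl G) ∣_ O j) k = (fitData G.s k).comap ((O j).ι ≫ incl G) :=
      fun k => (comap_fitData hsq k).symm
    have hrk : ∀ x : (O j).toScheme, rk G.s ((Wop G).ι ((ideal' G).subschemeι ((O j).ι x))) = j := fun x =>
      rk_piece G x.2
    refine isFinLocFreeOfDeg _ (fun k hk => ?_) ?_
    · have h0 : (ideal' G).comap ((O j).ι ≫ (ideal' G).subschemeι) = ⊥ := by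
        rw [Scheme.IdealSheafData.comap_comp, comap_subschemeι_eq_bot le_rfl, Scheme.IdealSheafData.comap_bot]
      rw [comap_ideal'] at h0
      have h1 := iSup_eq_bot.1 h0 k
      have hempty : ((O j).ι ≫ (ideal' G).subschemeι) ⁻¹ᵁ Ak G k = ⊥ :=
        Opens.ext <| Set.eq_empty_of_forall_notMem fun x hx => by
          have h2 : rk G.s ((Wop G).ι ((ideal' G).subschemeι ((O j).ι x))) ≤ k :=
            (mem_A G).1 (show (Wop G).ι (((O j).ι ≫ (ideal' G).subschemeι) x) ∈ A G k from hx)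
          rw [hrk] at h2
          omega
      haveI := isClosedImmersion_preimage (Ak G k) ((O j).ι ≫ (ideal' G).subschemeι)
      rw [ker_ι_of_eq_bot hempty, Scheme.IdealSheafData.mul_top, Category.assoc] at h1
      rw [hc, h1]
    · rw [hc]
      refine eq_top_of_forall_notMem fun x hx => ?_
      rw [← SetLike.mem_coe, Scheme.IdealSheafData.support_comap] at hx
      refine (notMem_support_iff G.s).2 ?_ hx
      rw [Scheme.Hom.comp_apply, Scheme.Hom.comp_apply, hrk]
  exact ⟨inferInstance, IsZariskiLocalAtTarget.of_iSup_eq_top O hcov fun j => (h j).1.2.1,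
    IsZariskiLocalAtTarget.of_iSup_eq_top O hcov fun j => (h j).1.2.2⟩

theorem isFinLocFree_incl_t : Mor2.IsFinLocFree (pullback.snd G.t (incl G)) := by
  obtain ⟨h₁, h₂, h₃⟩ := isFinLocFree_incl G
  haveI : IsIso G.i := ⟨G.i, GrpdBasic.i_i G, GrpdBasic.i_i G⟩
  let e := pullback.map G.t (incl G) G.s (incl G) G.i (𝟙 _) (𝟙 _) (by simp [G.i_s]) (by simp)
  have he : pullback.snd G.t (incl G) = e ≫ pullback.snd G.s (incl G) :=
    ((pullback.lift_snd _ _ _).trans (Category.comp_id _)).symm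
  refine ⟨inferInstance, ?_, ?_⟩ <;> · rw [he]; infer_instance

section maximal

variable [LocallyOfFinitePresentation G.s]

omit [IsFinite G.t] in
theorem fitData_fg (k : ℕ) (V : G.U.affineOpens) : ((fitData G.s k).ideal V).FG := by
  letI := secAlg G.s V.1
  haveI : Module.Finite Γ(G.U, V.1) Γ(G.R, G.s ⁻¹ᵁ V.1) := finite_secAlg G.s V.2
  haveI : Algebra.FinitePresentation Γ(G.U, V.1) Γ(G.R, G.s ⁻¹ᵁ V.1) := by
    have := HasRingHomProperty.appLE @LocallyOfFinitePresentation G.s inferInstance V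
      ⟨_, V.2.preimage G.s⟩ le_rfl
    rwa [Scheme.Hom.appLE_eq_app] at this
  haveI := Module.FinitePresentation.of_finite_of_finitePresentation Γ(G.U, V.1) Γ(G.R, G.s ⁻¹ᵁ V.1)
  exact Groth.Misc3Fitt.ideal_fg k

theorem exists_notMem_mul_nilpotent {A : Type*} [CommRing A] {p : Ideal A} (hp : p ∈ minimalPrimes A)
    {a : A} (ha : a ∈ p) : ∃ f ∉ p, IsNilpotent (f * a) := by
  haveI := hp.1.1
  by_contra hne
  push Not at hne
  let M : Submonoid A := p.primeCompl ⊔ Submonoid.powers a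
  have h0 : Disjoint ((⊥ : Ideal A) : Set A) M := by
    rw [Set.disjoint_left]
    rintro x (rfl : x = 0) hx
    obtain ⟨f, hf, _, ⟨n, rfl⟩, h⟩ := Submonoid.mem_sup.1 hx
    refine hne f hf ⟨n + 1, ?_⟩
    change f * a ^ n = 0 at h
    rw [mul_pow, pow_succ f n, pow_succ a n]
    linear_combination (f ^ n * a) * h
  obtain ⟨q, hq, -, hd⟩ := Ideal.exists_le_prime_disjoint ⊥ M h0
  have hqp : q ≤ p := fun x hx => by_contra fun hxp =>
    Set.disjoint_left.1 hd hx (le_sup_left (a := p.primeCompl) hxp)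
  have hpq : p ≤ q := hp.2 ⟨hq, bot_le⟩ hqp
  exact Set.disjoint_left.1 hd (hpq ha) (le_sup_right (a := p.primeCompl) (Submonoid.mem_powers a))

theorem exists_nhd_support {u : G.U} (hu : ∀ x : G.U, x ⤳ u → x = u) {k : ℕ}
    (hk : u ∈ (fitData G.s k).support) : ∃ O : G.U.Opens, u ∈ O ∧ ∀ x ∈ O, x ∈ (fitData G.s k).support := by
  obtain ⟨V, hV, -⟩ := Groth.Divisors.exists_affine_le u ⊤ trivial
  obtain ⟨gs, hgs⟩ := fitData_fg G k V
  obtain ⟨p, hp⟩ : ∃ p, V.2.fromSpec p = u := by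
    have : u ∈ V.2.fromSpec.opensRange := by rwa [V.2.opensRange_fromSpec]
    exact this
  have hmin : p.asIdeal ∈ minimalPrimes Γ(G.U, V.1) := by
    refine ⟨⟨p.2, bot_le⟩, fun q hq hle => ?_⟩
    let q' : PrimeSpectrum Γ(G.U, V.1) := ⟨q, hq.1⟩
    have hsp : V.2.fromSpec q' ⤳ u := hp ▸ ((PrimeSpectrum.le_iff_specializes q' p).1 hle).map
      V.2.fromSpec.continuous
    have := V.2.fromSpec.isOpenEmbedding.injective ((hu _ hsp).trans hp.symm)
    exact (congrArg PrimeSpectrum.asIdeal this).ge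
  have hmem : ∀ (x : PrimeSpectrum Γ(G.U, V.1)),
      V.2.fromSpec x ∈ (fitData G.s k).support ↔ (fitData G.s k).ideal V ≤ x.asIdeal := fun x => by
    have hx : V.2.fromSpec x ∈ V.1 := by
      have : V.2.fromSpec x ∈ V.2.fromSpec.opensRange := ⟨x, rfl⟩
      rwa [V.2.opensRange_fromSpec] at this
    have h2 := congrArg (V.2.fromSpec x ∈ ·) ((fitData G.s k).coe_support_inter V)
    simp only [Set.mem_inter_iff, SetLike.mem_coe, hx, and_true, eq_iff_iff] at h2
    rw [h2]
    exact (Set.ext_iff.1 (IsAffineOpen.fromSpec_preimage_zeroLocus V.2 _) x).trans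
      (PrimeSpectrum.mem_zeroLocus _ _)
  have hle : (fitData G.s k).ideal V ≤ p.asIdeal := (hmem p).1 (hp.symm ▸ hk)
  have hex : ∀ a ∈ gs, ∃ f ∉ p.asIdeal, IsNilpotent (f * a) := fun a ha =>
    exists_notMem_mul_nilpotent hmin (hle (hgs.le (Ideal.subset_span ha)))
  choose! f hf hnil using hex
  let g := ∏ a ∈ gs, f a
  have hg : g ∉ p.asIdeal := fun h => by
    obtain ⟨a, ha, h⟩ := p.2.prod_mem_iff.1 h
    exact hf a ha h
  refine ⟨G.U.basicOpen g, ?_, fun x hx => ?_⟩
  · rw [← hp]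
    have : p ∈ V.2.fromSpec ⁻¹ᵁ G.U.basicOpen g := by rw [V.2.fromSpec_preimage_basicOpen]; exact hg
    exact this
  · obtain ⟨q, rfl⟩ : ∃ q, V.2.fromSpec q = x := by
      have : x ∈ V.2.fromSpec.opensRange := by
        rw [V.2.opensRange_fromSpec]; exact G.U.basicOpen_le g hx
      exact this
    have hgq : g ∉ q.asIdeal := by
      have : q ∈ V.2.fromSpec ⁻¹ᵁ G.U.basicOpen g := hx
      rwa [V.2.fromSpec_preimage_basicOpen] at this
    refine (hmem q).2 ?_
    rw [← hgs, Ideal.span_le]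
    intro a ha
    obtain ⟨n, hn⟩ := hnil a ha
    rcases q.2.mem_or_mem (q.2.mem_of_pow_mem n (hn ▸ q.asIdeal.zero_mem)) with h | h
    · exact absurd (Ideal.mem_of_dvd _ (Finset.dvd_prod_of_mem f ha) h) hgq
    · exact h

theorem mem_Wop_of_maximal (u : G.U) (h : ∀ r : G.R, G.s r = u → ∀ x : G.U, x ⤳ G.t r → x = G.t r) :
    u ∈ Wop G := by
  rw [mem_Wop]
  refine (mem_piece_or G u).resolve_right ?_
  rintro ⟨a, ha, hau⟩
  rcases hr : rk G.s u with _ | r
  · rw [hr] at ha
    simp [Wlt] at ha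
  have hmax : ∀ x : G.U, x ⤳ G.s a → x = G.s a := by
    have := h (G.i a) (by rw [← Scheme.Hom.comp_apply, G.i_s, hau])
    rwa [← Scheme.Hom.comp_apply, G.i_t] at this
  have hsa : rk G.s (G.s a) = r + 1 := by rw [rk_s_eq_rk_t, hau, hr]
  obtain ⟨O, hO, hOs⟩ := exists_nhd_support G hmax (k := r) (by
    by_contra hn
    have := (notMem_support_iff G.s).1 hn
    omega)
  rw [hr] at ha
  obtain ⟨x, hxO, hxW⟩ := mem_closure_iff.1 ha O O.2 hO
  have hxA : ∀ {r j : ℕ}, j ≤ r + 1 → ∀ {x}, x ∈ Wlt G j → rk G.s x ≤ r := by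
    intro r j hj
    induction j with
    | zero => intro x hx; exact absurd hx (by simp [Wlt])
    | succ j ih =>
      rintro x (hx | hx)
      · exact ih (by omega) hx
      · exact ((mem_A G).1 hx.1).trans (by omega)
  exact (notMem_support_iff G.s).2 (hxA le_rfl hxW) (hOs x hxO)

theorem lfp_ideal' : LocallyOfFinitePresentation (ideal' G).subschemeι := by
  refine lfp_subschemeι _ fun x => ?_
  let j := rk G.s ((Wop G).ι x)
  obtain ⟨V, hxV, hVj⟩ := Groth.Divisors.exists_affine_le x ((Wop G).ι ⁻¹ᵁ piece G j) ((mem_Wop G).1 x.2)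
  obtain ⟨U, hxU, -⟩ := Groth.Divisors.exists_affine_le ((Wop G).ι x) ⊤ trivial
  obtain ⟨V', hxV', hV'⟩ := Groth.Divisors.exists_affine_le x (V.1 ⊓ (Wop G).ι ⁻¹ᵁ U.1) ⟨hxV, hxU⟩
  refine ⟨V', hxV', ?_⟩
  have hrk : ∀ y ∈ V'.1, rk G.s ((Wop G).ι y) = j := fun y hy => rk_piece G (hVj (hV' hy).1)
  have key : (ideal' G).ideal V' = ⨆ k ∈ Finset.range j, ((fitData G.s k).comap (Wop G).ι).ideal V' := by
    rw [ideal', Scheme.IdealSheafData.ideal_iSup, iSup_apply]
    refine iSup_congr fun k => ?_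
    rw [Scheme.IdealSheafData.ideal_mul, Pi.mul_apply]
    by_cases hk : k ∈ Finset.range j
    · have htop : (Ak G k).ι.ker.ideal V' = ⊤ := by
        rw [Scheme.Hom.ker_apply, eq_top_iff]
        intro s _
        rw [RingHom.mem_ker]
        haveI : Subsingleton Γ((Ak G k).toScheme, (Ak G k).ι ⁻¹ᵁ V'.1) := by
          have he : (Ak G k).ι ⁻¹ᵁ V'.1 = ⊥ := Opens.ext <| Set.eq_empty_of_forall_notMem fun y hy => by
            have h1 := (mem_A G).1 (show (Wop G).ι ((Ak G k).ι y) ∈ A G k from y.2)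
            rw [hrk _ hy] at h1
            have := Finset.mem_range.1 hk
            omega
          rw [he]; exact CommRingCat.subsingleton_of_isTerminal (Scheme.sheaf (Ak G k).toScheme).isTerminalOfEmpty
        exact Subsingleton.elim _ _
      rw [htop, Ideal.mul_top, iSup_pos hk]
    · have hbot : (Ak G k).ι.ker.ideal V' = ⊥ := by
        rw [Scheme.Hom.ker_apply, RingHom.ker_eq_bot_iff_eq_zero]
        intro s hs
        have hle : V'.1 ≤ Ak G k := fun y hy => by
          show (Wop G).ι y ∈ A G k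
          rw [mem_A, hrk y hy]
          exact not_lt.1 fun h => hk (Finset.mem_range.2 h)
        haveI : IsIso ((Ak G k).ι.app V'.1) := Scheme.Hom.isIso_app _ _ (by rwa [Scheme.Opens.opensRange_ι])
        exact (ConcreteCategory.bijective_of_isIso ((Ak G k).ι.app V'.1)).1 (hs.trans (map_zero _).symm)
      rw [hbot, Ideal.mul_bot, iSup_neg hk]
  rw [key]
  refine Submodule.fg_biSup _ _ fun k _ => ?_
  rw [Groth.Divisors.ideal_comap_affine _ (Wop G).ι U V' (fun y hy => (hV' hy).2)]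
  exact (fitData_fg G k U).map _

end maximal

end Groth.GrpdFinStrata
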