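import Groth.Agent.GitQuot.GrpdInvAffine
import Groth.Agent.GitQuot.GrpdFinW
import Groth.Agent.FlatMor2.AffineThickening

/-!
# Invariant affine opens around orbits of maximal points, finite source and target
-/

set_option autoImplicit false

universe u

open CategoryTheory CategoryTheory.Limits AlgebraicGeometry TopologicalSpace

noncomputable section

namespace Groth.GrpdFinAffine

open Groth.GrpdBasic Groth.GrpdFinStrata

variable {S : Scheme.{u}} (G : Grpd.GroupoidScheme S)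

/-- Invariant affine neighbourhoods, given norms over affine opens of `O`. -/
theorem exists_invariant_affineOpen_of_norm [IsFinite G.s] [IsFinite G.t]
    (T : Set G.U) (hT : T.Finite) (V : G.U.Opens) (hV : IsAffineOpen V) (huV : ∀ r : G.R, G.s r ∈ T → G.t r ∈ V)
    (O : G.U.Opens) (hOinv : G.s ⁻¹ᵁ O = G.t ⁻¹ᵁ O) (huO : ∀ u ∈ T, u ∈ O)
    (hnorm : ∀ D : G.U.Opens, IsAffineOpen D → D ≤ O → ∀ b : Γ(G.R, G.s ⁻¹ᵁ D),
      ∃ W : G.U.Opens, IsAffineOpen W ∧ ∀ y, y ∈ W ↔ y ∈ D ∧ ∀ x, G.s x = y → x ∈ G.R.basicOpen b) :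
    ∃ W : G.U.Opens, IsAffineOpen W ∧ (∀ u ∈ T, u ∈ W) ∧ W ≤ V ⊓ O ∧ G.s ⁻¹ᵁ W = G.t ⁻¹ᵁ W := by
  classical
  have hE := orbit_equivalence G
  have hZc : IsClosed (⇑G.t '' (⇑G.s ⁻¹' (V : Set G.U)ᶜ)) :=
    G.t.isClosedMap _ (V.2.isClosed_compl.preimage G.s.continuous)
  let W₀ : G.U.Opens := ⟨_, hZc.isOpen_compl⟩
  have hW₀ : ∀ w, w ∈ W₀ ↔ ∀ r : G.R, G.t r = w → G.s r ∈ V := by
    intro w
    change ¬ (∃ r, G.s r ∉ V ∧ G.t r = w) ↔ _
    push Not
    exact forall_congr' fun r => ⟨fun h e => by_contra fun hn => h hn e, fun h hn e => hn (h e)⟩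
  have hW₀' : ∀ w, w ∈ W₀ ↔ ∀ r : G.R, G.s r = w → G.t r ∈ V := by
    intro w
    rw [hW₀]
    constructor
    · intro h r hr
      obtain ⟨r', h1, h2⟩ := hE.symm ⟨r, rfl, hr⟩
      exact h2 ▸ h r' h1
    · intro h r hr
      obtain ⟨r', h1, h2⟩ := hE.symm ⟨r, hr, rfl⟩
      exact h1 ▸ h r' h2
  have hW₀V : W₀ ≤ V := fun w hw => by
    have := (hW₀ w).1 hw (G.e w) (by rw [← Scheme.Hom.comp_apply, G.e_t]; rfl)
    rwa [← Scheme.Hom.comp_apply, G.e_s] at this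
  have hW₀inv : ∀ r, G.s r ∈ W₀ → G.t r ∈ W₀ := by
    intro r hr
    rw [hW₀] at hr ⊢
    intro r' hr'
    obtain ⟨r'', h1, h2⟩ := hE.trans (hE.symm ⟨r, rfl, rfl⟩) ⟨r', hr', rfl⟩
    exact h2 ▸ hr r'' h1
  let W₁ : G.U.Opens := W₀ ⊓ O
  have hW₁inv : ∀ r, G.s r ∈ W₁ → G.t r ∈ W₁ := fun r hr =>
    ⟨hW₀inv r hr.1, (SetLike.ext_iff.1 hOinv r).1 hr.2⟩
  have hfin : (⇑G.t '' (⇑G.s ⁻¹' T)).Finite := (G.s.finite_preimage hT).image _
  have hO : ∀ v ∈ ⇑G.t '' (⇑G.s ⁻¹' T), v ∈ W₁ := by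
    rintro _ ⟨r, hr, rfl⟩
    exact hW₁inv r ⟨(hW₀' _).2 fun r' hr' => huV r' (hr' ▸ (show G.s r ∈ T from hr)), huO _ hr⟩
  -- choose a function
  let Z : Set (PrimeSpectrum Γ(G.U, V)) := (⇑hV.fromSpec ⁻¹' (W₁ : Set G.U))ᶜ
  have hZ : IsClosed Z := (W₁.2.preimage hV.fromSpec.continuous).isClosed_compl
  let P : Set (PrimeSpectrum Γ(G.U, V)) := ⇑hV.fromSpec ⁻¹' (⇑G.t '' (⇑G.s ⁻¹' T))
  have hP : P.Finite := hfin.preimage hV.fromSpec.isOpenEmbedding.injective.injOn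
  obtain ⟨φ, hφZ, hφP⟩ : ∃ φ ∈ PrimeSpectrum.vanishingIdeal Z, ∀ p ∈ P, φ ∉ p.asIdeal := by
    by_contra hne
    push Not at hne
    obtain ⟨p₀, -, -⟩ := hne 0 (Ideal.zero_mem _)
    have hsub : ((PrimeSpectrum.vanishingIdeal Z : Ideal Γ(G.U, V)) : Set Γ(G.U, V)) ⊆
        ⋃ p ∈ (hP.toFinset : Set (PrimeSpectrum Γ(G.U, V))), (p.asIdeal : Set Γ(G.U, V)) := by
      intro x hx
      obtain ⟨p, hp, hxp⟩ := hne x hx
      simp only [Set.mem_iUnion]
      exact ⟨p, Finset.mem_coe.2 (hP.mem_toFinset.2 hp), hxp⟩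
    rw [Ideal.subset_union_prime (f := fun p : PrimeSpectrum Γ(G.U, V) => p.asIdeal) p₀ p₀
      (fun p _ _ _ => p.isPrime)] at hsub
    obtain ⟨p, hp, hle⟩ := hsub
    have : p ∈ Z := by
      rw [← hZ.closure_eq, ← PrimeSpectrum.zeroLocus_vanishingIdeal_eq_closure]
      exact hle
    exact this (hO _ (hP.mem_toFinset.1 hp))
  let D := G.U.basicOpen φ
  have hDW₁ : D ≤ W₁ := by
    intro w hw
    have hwV : w ∈ V := G.U.basicOpen_le _ hw
    by_contra hn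
    have hpZ : hV.primeIdealOf ⟨w, hwV⟩ ∈ Z := by
      change hV.fromSpec (hV.primeIdealOf ⟨w, hwV⟩) ∉ (W₁ : Set G.U)
      rw [hV.fromSpec_primeIdealOf]
      exact hn
    have hp : φ ∉ (hV.primeIdealOf ⟨w, hwV⟩).asIdeal := (mem_basicOpen_iff_notMem hV w hwV φ).1 hw
    exact hp ((PrimeSpectrum.mem_vanishingIdeal _ _).1 hφZ _ hpZ)
  have hOD : ∀ r : G.R, G.s r ∈ T → G.t r ∈ D := by
    intro r hr
    have hwV : G.t r ∈ V := huV r hr
    refine (mem_basicOpen_iff_notMem hV _ hwV φ).2 (hφP _ ?_)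
    change hV.fromSpec (hV.primeIdealOf ⟨G.t r, hwV⟩) ∈ ⇑G.t '' (⇑G.s ⁻¹' T)
    rw [hV.fromSpec_primeIdealOf]
    exact ⟨r, hr, rfl⟩
  have hle : G.s ⁻¹ᵁ D ≤ G.t ⁻¹ᵁ V := fun r hr => hW₀V (hW₀inv r (hDW₁ hr).1)
  obtain ⟨W, hWaff, hW⟩ := hnorm D (hV.basicOpen φ) (fun w hw => (hDW₁ hw).2)
    ((G.t.appLE V (G.s ⁻¹ᵁ D) hle).hom φ)
  have hb : ∀ r, r ∈ G.R.basicOpen ((G.t.appLE V (G.s ⁻¹ᵁ D) hle).hom φ) ↔ G.s r ∈ D ∧ G.t r ∈ D := by
    intro r
    rw [Scheme.basicOpen_appLE]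
    exact Iff.rfl
  have hW' : ∀ w, w ∈ W ↔ ∀ x, (∃ r, G.t r = x ∧ G.s r = w) → x ∈ D := by
    intro w
    rw [hW]
    constructor
    · rintro ⟨-, h⟩ x ⟨r, rfl, hr⟩
      exact ((hb r).1 (h r hr)).2
    · intro h
      have hwD : w ∈ D := h w (hE.refl w)
      exact ⟨hwD, fun r hr => (hb r).2 ⟨hr ▸ hwD, h _ ⟨r, rfl, hr⟩⟩⟩
  refine ⟨W, hWaff, fun u hu => (hW' u).2 (fun x ⟨r, h1, h2⟩ => h1 ▸ hOD r (h2 ▸ hu)),
    fun w hw => ⟨G.U.basicOpen_le φ ((hW w).1 hw).1, (hDW₁ ((hW w).1 hw).1).2⟩, ?_⟩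
  ext r
  simp only [TopologicalSpace.Opens.map_coe, Set.mem_preimage, SetLike.mem_coe, hW']
  constructor
  · intro h x hx
    exact h x (hE.trans hx ⟨r, rfl, rfl⟩)
  · intro h x hx
    exact h x (hE.trans hx (hE.symm ⟨r, rfl, rfl⟩))

variable [IsFinite G.s] [IsFinite G.t]

omit [IsFinite G.t] in
/-- Norms over affine opens contained in the stratified open. -/
theorem exists_norm_of_le {Z : Scheme.{u}} {W : G.U.Opens} (i : Z ⟶ W.toScheme) [IsClosedImmersion i]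
    [Surjective i] [IsFinite (pullback.snd G.s (i ≫ W.ι))] [Flat (pullback.snd G.s (i ≫ W.ι))]
    [LocallyOfFinitePresentation (pullback.snd G.s (i ≫ W.ι))]
    (D : G.U.Opens) (hD : IsAffineOpen D) (hDW : D ≤ W) (b : Γ(G.R, G.s ⁻¹ᵁ D)) :
    ∃ V : G.U.Opens, IsAffineOpen V ∧ ∀ y, y ∈ V ↔ y ∈ D ∧ ∀ x, G.s x = y → x ∈ G.R.basicOpen b := by
  let m := i ≫ W.ι
  let f := pullback.snd G.s m
  let q := pullback.fst G.s m
  have hW : IsAffineOpen (W.ι ⁻¹ᵁ D) := hD.preimage_of_isOpenImmersion W.ι (by rwa [Scheme.Opens.opensRange_ι])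
  have hD' : IsAffineOpen (m ⁻¹ᵁ D) := hW.preimage i
  have hle : f ⁻¹ᵁ (m ⁻¹ᵁ D) ≤ q ⁻¹ᵁ (G.s ⁻¹ᵁ D) := by
    rw [← Scheme.Hom.comp_preimage, ← pullback.condition]; rfl
  obtain ⟨V', hV', hmem⟩ := exists_affineOpen_forall_fibre f (m ⁻¹ᵁ D) hD'
    ((q.appLE (G.s ⁻¹ᵁ D) _ hle).hom b)
  have hhom : IsHomeomorph i := (isHomeomorph_iff_isEmbedding_surjective).2 ⟨i.isClosedEmbedding.isEmbedding, i.surjective⟩
  let V₁ : W.toScheme.Opens := ⟨i '' V', hhom.isOpenMap _ V'.2⟩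
  have hpre : i ⁻¹ᵁ V₁ = V' := Opens.ext (Set.preimage_image_eq _ i.isClosedEmbedding.injective)
  have hV₁ : IsAffineOpen V₁ := by
    haveI : IsAffine (i ⁻¹ᵁ V₁).toScheme := by rw [hpre]; exact hV'
    haveI : Surjective (i ∣_ V₁) := IsZariskiLocalAtTarget.restrict ‹Surjective i› V₁
    haveI : IsClosedImmersion (i ∣_ V₁) := IsZariskiLocalAtTarget.restrict ‹IsClosedImmersion i› V₁
    exact Groth.FlatMor2.isAffine_of_surjective_closedImmersion (i ∣_ V₁)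
  refine ⟨W.ι ''ᵁ V₁, hV₁.image_of_isOpenImmersion W.ι, fun y => ?_⟩
  have hbo : ∀ z, z ∈ (pullback G.s m).basicOpen ((q.appLE (G.s ⁻¹ᵁ D) _ hle).hom b) ↔
      f z ∈ m ⁻¹ᵁ D ∧ q z ∈ G.R.basicOpen b := fun z => by
    rw [Scheme.basicOpen_appLE]; exact Iff.rfl
  constructor
  · rintro ⟨_, ⟨v, hv, rfl⟩, rfl⟩
    refine ⟨((hmem v).1 hv).1, fun x hx => ?_⟩
    obtain ⟨z, hz₁, hz₂⟩ := Scheme.Pullback.exists_preimage_pullback (f := G.s) (g := m) x v
      (hx.trans (Scheme.Hom.comp_apply i W.ι v).symm)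
    rw [← hz₁]
    exact ((hbo z).1 (((hmem v).1 hv).2 z hz₂)).2
  · rintro ⟨hyD, hy⟩
    obtain ⟨v, hv⟩ := i.surjective ⟨y, hDW hyD⟩
    have hmv : m v = y := by rw [Scheme.Hom.comp_apply, hv]; rfl
    refine ⟨i v, ⟨v, (hmem v).2 ⟨show m v ∈ D from hmv ▸ hyD, fun z hz => (hbo z).2 ⟨?_, ?_⟩⟩, rfl⟩, ?_⟩
    · show m (f z) ∈ D
      rw [hz, hmv]; exact hyD
    · refine hy _ ?_
      rw [← hmv, ← hz, ← Scheme.Hom.comp_apply, pullback.condition, Scheme.Hom.comp_apply]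
    · rw [hv]; rfl

instance : Surjective (ideal' G).subschemeι :=
  ⟨fun x => by
    have : x ∈ Set.range (ideal' G).subschemeι := by
      rw [Scheme.IdealSheafData.range_subschemeι, support_ideal']; trivial
    exact this⟩

section maximal

variable [LocallyOfFinitePresentation G.s]

omit [IsFinite G.s] [IsFinite G.t] [LocallyOfFinitePresentation G.s] in
/-- Finitely many maximal points of a quasi-separated scheme lie in an affine open. -/
theorem exists_affineOpen_maximal {X : Scheme.{u}} [QuasiSeparatedSpace X] {F : Set X} (hF : F.Finite)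
    (hmax : ∀ η ∈ F, ∀ x : X, x ⤳ η → x = η) : ∃ V : X.Opens, IsAffineOpen V ∧ F ⊆ V := by
  induction F, hF using Set.Finite.induction_on with
  | empty => exact ⟨⊥, isAffineOpen_bot X, Set.empty_subset _⟩
  | @insert η s _ _ ih =>
    obtain ⟨V, hV, hsV⟩ := ih fun x hx => hmax x (Set.mem_insert_of_mem _ hx)
    by_cases hη : η ∈ V
    · exact ⟨V, hV, Set.insert_subset hη hsV⟩
    obtain ⟨D, hηD, -⟩ := Groth.Divisors.exists_affine_le η ⊤ trivial
    let p := D.2.primeIdealOf ⟨η, hηD⟩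
    have hp : D.2.fromSpec p = η := D.2.fromSpec_primeIdealOf ⟨η, hηD⟩
    have hmin : p.asIdeal ∈ minimalPrimes Γ(X, D.1) := by
      refine ⟨⟨p.2, bot_le⟩, fun q hq hle => ?_⟩
      let q' : PrimeSpectrum Γ(X, D.1) := ⟨q, hq.1⟩
      have hsp : D.2.fromSpec q' ⤳ η := hp ▸ ((PrimeSpectrum.le_iff_specializes q' p).1 hle).map
        D.2.fromSpec.continuous
      exact (congrArg PrimeSpectrum.asIdeal (D.2.fromSpec.isOpenEmbedding.injective
        ((hmax η (Set.mem_insert _ _) _ hsp).trans hp.symm))).ge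
    have hQ : IsCompact ((D.1 : Set X) ∩ V) :=
      QuasiSeparatedSpace.inter_isCompact _ _ D.1.2 D.2.isCompact V.2 hV.isCompact
    have hex : ∀ x : ↥((D.1 : Set X) ∩ V), ∃ g : Γ(X, D.1), X.basicOpen g ≤ V ∧ x.1 ∈ X.basicOpen g :=
      fun x => D.2.exists_basicOpen_le ⟨x.1, x.2.2⟩ x.2.1
    choose g hgV hg using hex
    obtain ⟨t, ht⟩ := hQ.elim_finite_subcover (fun x => (X.basicOpen (g x) : Set X))
      (fun x => (X.basicOpen (g x)).2) fun x hx => Set.mem_iUnion.2 ⟨⟨x, hx⟩, hg ⟨x, hx⟩⟩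
    have hgp : ∀ x, g x ∈ p.asIdeal := fun x => by
      by_contra hn
      exact hη (hgV x ((mem_basicOpen_iff_notMem D.2 η hηD (g x)).2 hn))
    choose f hf hnil using fun x => Groth.GrpdFinStrata.exists_notMem_mul_nilpotent hmin (hgp x)
    have hF₀ : ∏ x ∈ t, f x ∉ p.asIdeal := fun h => by
      obtain ⟨x, -, h⟩ := p.2.prod_mem_iff.1 h
      exact hf x h
    refine ⟨V ⊔ X.basicOpen (∏ x ∈ t, f x), ?_, Set.insert_subset
      (Or.inr ((mem_basicOpen_iff_notMem D.2 η hηD _).2 hF₀)) fun x hx => Or.inl (hsV hx)⟩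
    have hdis : ∀ z, z ∈ V → z ∉ X.basicOpen (∏ x ∈ t, f x) := fun z hzV hz => by
      have hzD : z ∈ D.1 := X.basicOpen_le _ hz
      obtain ⟨x, hx, hzx⟩ := Set.mem_iUnion₂.1 (ht ⟨hzD, hzV⟩)
      have h1 := (mem_basicOpen_iff_notMem D.2 z hzD _).1 hz
      have h2 := (mem_basicOpen_iff_notMem D.2 z hzD (g x)).1 hzx
      obtain ⟨n, hn⟩ := hnil x
      set q := D.2.primeIdealOf ⟨z, hzD⟩
      rcases q.2.mem_or_mem (q.2.mem_of_pow_mem n (hn ▸ q.asIdeal.zero_mem)) with h | h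
      · exact h1 (Ideal.mem_of_dvd _ (Finset.dvd_prod_of_mem f hx) h)
      · exact h2 h
    rw [sup_eq_iSup]
    refine IsAffineOpen.iSup_of_disjoint (fun b => ?_) fun a b hab => ?_
    · cases b
      · exact D.2.basicOpen _
      · exact hV
    · rw [Function.onFun, disjoint_iff]
      refine Opens.ext (Set.eq_empty_of_forall_notMem ?_)
      cases a <;> cases b <;> simp at hab
      · exact fun z hz => hdis z hz.2 hz.1
      · exact fun z hz => hdis z hz.1 hz.2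

omit [LocallyOfFinitePresentation G.s] in
theorem exists_invariant_iso_le {W₁ : G.U.Opens} (h : W₁ ≤ Wop G) (hinv : G.s ⁻¹ᵁ W₁ = G.t ⁻¹ᵁ W₁) :
    ∃ φ : pullback G.s (((ideal' G).comap (G.U.homOfLE h)).subschemeι ≫ W₁.ι) ≅
        pullback G.t (((ideal' G).comap (G.U.homOfLE h)).subschemeι ≫ W₁.ι),
      φ.hom ≫ pullback.fst G.t _ = pullback.fst G.s _ := by
  let V := G.s ⁻¹ᵁ W₁
  let sR : V.toScheme ⟶ W₁.toScheme := G.s ∣_ W₁
  let tR : V.toScheme ⟶ W₁.toScheme := G.t.resLE W₁ V (hinv).le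
  have hsR : sR ≫ W₁.ι = V.ι ≫ G.s := morphismRestrict_ι G.s W₁
  have htR : tR ≫ W₁.ι = V.ι ≫ G.t := G.t.resLE_comp_ι _
  have hs : IsPullback V.ι sR G.s W₁.ι := (isPullback_morphismRestrict G.s W₁).flip
  have ht : IsPullback V.ι tR G.t W₁.ι := by
    refine (IsOpenImmersion.isPullback tR V.ι W₁.ι G.t htR.symm ?_).flip
    rw [Scheme.Opens.opensRange_ι, Scheme.Opens.opensRange_ι]
    exact (hinv).symm
  have hw : G.U.homOfLE h ≫ (Wop G).ι = W₁.ι := Scheme.homOfLE_ι _ _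
  have hsW : (sR ≫ G.U.homOfLE h) ≫ (Wop G).ι = V.ι ≫ G.s := by rw [Category.assoc, hw, hsR]
  have htW : (tR ≫ G.U.homOfLE h) ≫ (Wop G).ι = V.ι ≫ G.t := by rw [Category.assoc, hw, htR]
  have hpre : ∀ k, (sR ≫ G.U.homOfLE h) ⁻¹ᵁ Ak G k = (tR ≫ G.U.homOfLE h) ⁻¹ᵁ Ak G k := fun k =>
    Opens.ext <| Set.ext fun x => by
      show (Wop G).ι ((sR ≫ G.U.homOfLE h) x) ∈ A G k ↔ (Wop G).ι ((tR ≫ G.U.homOfLE h) x) ∈ A G k
      rw [← Scheme.Hom.comp_apply, ← Scheme.Hom.comp_apply, hsW, htW, Scheme.Hom.comp_apply,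
        Scheme.Hom.comp_apply, mem_A, mem_A, rk_s_eq_rk_t]
  have hJ : ((ideal' G).comap (G.U.homOfLE h)).comap sR = ((ideal' G).comap (G.U.homOfLE h)).comap tR := by
    rw [← Scheme.IdealSheafData.comap_comp, ← Scheme.IdealSheafData.comap_comp, comap_ideal', comap_ideal']
    refine iSup_congr fun k => ?_
    rw [hsW, htW, Scheme.IdealSheafData.comap_comp, Scheme.IdealSheafData.comap_comp, comap_fitData_eq G k,
      ker_ι_congr (hpre k)]
  obtain ⟨φ, hφ⟩ := exists_pullback_iso _ hJ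
  have hs' := (IsPullback.of_hasPullback sR ((ideal' G).comap (G.U.homOfLE h)).subschemeι).paste_horiz hs
  have ht' := (IsPullback.of_hasPullback tR ((ideal' G).comap (G.U.homOfLE h)).subschemeι).paste_horiz ht
  exact Groth.GrpdFinStrata.exists_invariant_iso.exists_iso_of_squares G hs' ht' φ hφ

/-- Invariant affine opens around finitely many orbits of maximal points, with a thickened finite locally
free invariant closed subscheme. -/
theorem exists_invariant_thickening [QuasiSeparatedSpace G.U] [LocallyOfFinitePresentation G.t]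
    {m : ℕ} (u : Fin m → G.U) (hu : ∀ i (r : G.R), G.s r = u i → ∀ x : G.U, x ⤳ G.t r → x = G.t r) :
    ∃ (V : G.U.Opens) (V' : (↑V : Scheme.{u}).IdealSheafData), IsAffineOpen V ∧ (∀ i, u i ∈ V) ∧
      G.s ⁻¹ᵁ V = G.t ⁻¹ᵁ V ∧ V'.support = ⊤ ∧ LocallyOfFinitePresentation V'.subschemeι ∧
      (∃ φ : pullback G.s (V'.subschemeι ≫ V.ι) ≅ pullback G.t (V'.subschemeι ≫ V.ι),
        φ.hom ≫ pullback.fst G.t (V'.subschemeι ≫ V.ι) = pullback.fst G.s (V'.subschemeι ≫ V.ι)) ∧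
      Mor2.IsFinLocFree (pullback.snd G.s (V'.subschemeι ≫ V.ι)) ∧
      Mor2.IsFinLocFree (pullback.snd G.t (V'.subschemeι ≫ V.ι)) := by
  let T : Set G.U := Set.range u
  let O : Set G.U := G.t '' (G.s ⁻¹' T)
  have hO : O.Finite := (G.s.finite_preimage (Set.finite_range u)).image _
  obtain ⟨V₀, hV₀, hOV₀⟩ := exists_affineOpen_maximal hO (by
    rintro _ ⟨r, ⟨i, hi⟩, rfl⟩ x hx
    exact hu i r hi.symm x hx)
  obtain ⟨hfin, hflat, hlfp⟩ := isFinLocFree_incl G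
  obtain ⟨V, hV, hTV, hVle, hinv⟩ := exists_invariant_affineOpen_of_norm G T (Set.finite_range u) V₀ hV₀
    (fun r hr => hOV₀ ⟨r, hr, rfl⟩) (Wop G) (Wop_invariant G)
    (by rintro _ ⟨i, rfl⟩; exact mem_Wop_of_maximal G _ (hu i))
    (fun D hD hDW b => exists_norm_of_le G (ideal' G).subschemeι D hD hDW b)
  have hVW : V ≤ Wop G := hVle.trans inf_le_right
  let w := G.U.homOfLE hVW
  have hw : w ≫ (Wop G).ι = V.ι := Scheme.homOfLE_ι _ _
  let V' := (ideal' G).comap w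
  let j : V'.subscheme ⟶ (ideal' G).subscheme := ((ideal' G).comapIso w).hom ≫ pullback.snd _ _
  have hj : V'.subschemeι ≫ V.ι = j ≫ incl G := by
    rw [← hw]
    simp only [j, V', incl, Category.assoc, ← pullback.condition_assoc]
    rw [← Category.assoc ((ideal' G).comapIso w).hom, Scheme.IdealSheafData.comapIso_hom_fst]
  have hfree : ∀ f : G.R ⟶ G.U, Mor2.IsFinLocFree (pullback.snd f (incl G)) →
      Mor2.IsFinLocFree (pullback.snd f (V'.subschemeι ≫ V.ι)) := by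
    rintro f ⟨hf₁, hf₂, hf₃⟩
    have hsq := (IsPullback.of_hasPullback f (incl G)).flip
    have hsq' : IsPullback (pullback.fst f (V'.subschemeι ≫ V.ι)) (pullback.snd f (V'.subschemeι ≫ V.ι)) f
        (j ≫ incl G) := hj ▸ IsPullback.of_hasPullback f (V'.subschemeι ≫ V.ι)
    let k : pullback f (V'.subschemeι ≫ V.ι) ⟶ pullback f (incl G) :=
      pullback.lift (pullback.fst _ _) (pullback.snd _ _ ≫ j) (by rw [Category.assoc, hsq'.w])
    have hk : IsPullback k (pullback.snd f (V'.subschemeι ≫ V.ι)) (pullback.snd f (incl G)) j := by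
      refine IsPullback.of_right ?_ (pullback.lift_snd _ _ _) (IsPullback.of_hasPullback f (incl G))
      rw [pullback.lift_fst]; exact hsq'
    exact ⟨MorphismProperty.of_isPullback (P := @IsFinite) hk hf₁,
      MorphismProperty.of_isPullback (P := @Flat) hk hf₂,
      MorphismProperty.of_isPullback (P := @LocallyOfFinitePresentation) hk hf₃⟩
  refine ⟨V, V', hV, fun i => hTV _ ⟨i, rfl⟩, hinv, ?_, ?_, exists_invariant_iso_le G hVW hinv,
    hfree _ (isFinLocFree_incl G), hfree _ (isFinLocFree_incl_t G)⟩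
  · rw [Scheme.IdealSheafData.support_comap, support_ideal']
    rfl
  · haveI := lfp_ideal' G
    rw [← Scheme.IdealSheafData.comapIso_hom_fst]
    infer_instance

end maximal

end Groth.GrpdFinAffine
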