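import Groth.Agent.GitQuot.FinStrata
import Groth.Agent.GitQuot.GrpdShear

/-!
# The rank stratification of a groupoid scheme with finite source map
-/

set_option autoImplicit false

universe u

open CategoryTheory CategoryTheory.Limits AlgebraicGeometry TopologicalSpace

noncomputable section

namespace Groth.GrpdFinStrata

open Groth.FinStrata

variable {X U R : Scheme.{u}}

theorem exists_subscheme_iso {I I' : X.IdealSheafData} (h : I = I') :
    ∃ φ : I.subscheme ≅ I'.subscheme, φ.hom ≫ I'.subschemeι = I.subschemeι := by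
  subst h; exact ⟨Iso.refl _, Category.id_comp _⟩

/-- Pullbacks of a closed subscheme along two maps with the same inverse image ideal agree. -/
theorem exists_pullback_iso (I : U.IdealSheafData) {s t : R ⟶ U} (h : I.comap s = I.comap t) :
    ∃ φ : pullback s I.subschemeι ≅ pullback t I.subschemeι,
      φ.hom ≫ pullback.fst t I.subschemeι = pullback.fst s I.subschemeι := by
  obtain ⟨φ, hφ⟩ := exists_subscheme_iso h
  refine ⟨(I.comapIso s).symm ≪≫ φ ≪≫ I.comapIso t, ?_⟩
  simp [hφ]

theorem comap_subschemeι_eq_bot {I J : X.IdealSheafData} (h : J ≤ I) : J.comap I.subschemeι = ⊥ := by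
  refine le_bot_iff.1 (Scheme.IdealSheafData.le_map_iff_comap_le.1 ?_)
  rwa [Scheme.IdealSheafData.map_bot, Scheme.IdealSheafData.ker_subschemeι]

theorem eq_top_of_forall_notMem {I : X.IdealSheafData} (h : ∀ x, x ∉ I.support) : I = ⊤ :=
  (Scheme.IdealSheafData.support_eq_bot_iff I).1 (SetLike.ext fun x => iff_of_false (h x) id)

section

variable {S : Scheme.{u}} (G : Grpd.GroupoidScheme S) [IsFinite G.s] [IsFinite G.t]

theorem comap_fitData_eq (k : ℕ) : (fitData G.s k).comap G.s = (fitData G.s k).comap G.t := by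
  rw [comap_fitData (IsPullback.of_hasPullback G.s G.s) k, comap_fitData (IsPullback.of_hasPullback G.s G.t) k]
  exact (fitData_congr (GrpdBasic.shearS G) (pullback.lift_snd _ _ _) k).symm

theorem rk_s_eq_rk_t (r : G.R) : rk G.s (G.s r) = rk G.s (G.t r) := by
  have h : ∀ k, rk G.s (G.s r) ≤ k ↔ rk G.s (G.t r) ≤ k := fun k => by
    have h := congrArg (fun I : G.R.IdealSheafData => r ∈ I.support) (comap_fitData_eq G k)
    simp only [Scheme.IdealSheafData.support_comap, eq_iff_iff] at h
    rw [← notMem_support_iff, ← notMem_support_iff]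
    exact not_congr h
  exact le_antisymm ((h _).2 le_rfl) ((h _).1 le_rfl)

theorem injective_app_s (V : G.U.affineOpens) : Function.Injective (G.s.app V.1).hom := by
  have h : Function.Injective ((G.e ≫ G.s).app V.1).hom := by
    rw [Scheme.Hom.congr_app G.e_s]
    exact (ConcreteCategory.bijective_of_isIso _).1
  rw [Scheme.Hom.comp_app] at h
  exact Function.Injective.of_comp (f := (G.e.app (G.s ⁻¹ᵁ V.1)).hom) h

theorem exists_fittingStrata : ∃ Z : ℕ → G.U.IdealSheafData, Z 0 = ⊥ ∧ Monotone Z ∧
    (⋂ r, ((Z r).support : Set G.U)) = ∅ ∧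
    (∀ r, ∃ φ : pullback G.s (Z r).subschemeι ≅ pullback G.t (Z r).subschemeι,
      φ.hom ≫ pullback.fst G.t (Z r).subschemeι = pullback.fst G.s (Z r).subschemeι) ∧
    ∀ r, Mor2.IsFinLocFreeOfDeg (r + 1)
      (pullback.snd G.s (((Z r).subschemeι ⁻¹ᵁ (Z (r + 1)).support.compl).ι ≫ (Z r).subschemeι)) := by
  refine ⟨fitData G.s, fitData_zero G.s (injective_app_s G), fun a b h => fitData_mono G.s h, ?_,
    fun r => exists_pullback_iso _ (comap_fitData_eq G r), fun r => ?_⟩
  · refine Set.eq_empty_of_forall_notMem fun x hx => ?_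
    exact notMem_support_rk G.s x (Set.mem_iInter.1 hx _)
  · let i := (fitData G.s r).subschemeι
    let O := i ⁻¹ᵁ (fitData G.s (r + 1)).support.compl
    have hc : ∀ k, fitData (pullback.snd G.s (O.ι ≫ i)) k = ((fitData G.s k).comap i).comap O.ι := fun k => by
      rw [← Scheme.IdealSheafData.comap_comp, comap_fitData (IsPullback.of_hasPullback G.s (O.ι ≫ i)) k]
    refine isFinLocFreeOfDeg _ (fun k hk => ?_) ?_
    · rw [hc, comap_subschemeι_eq_bot (fitData_mono G.s (Nat.lt_succ_iff.1 hk)), Scheme.IdealSheafData.comap_bot]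
    · rw [hc]
      refine eq_top_of_forall_notMem fun x hx => ?_
      simp only [Scheme.IdealSheafData.support_comap] at hx
      exact x.2 hx

end

end Groth.GrpdFinStrata
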