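import Mathlib
import Groth.Agent.GitQuot.GrpdBasic
import Groth.Agent.GitQuot.GenericNorm

/-! Invariant affine neighbourhoods of orbits made of generic points. -/

set_option autoImplicit false

universe u

open AlgebraicGeometry CategoryTheory CategoryTheory.Limits

noncomputable section

namespace Groth.GrpdGeneric

theorem notMem_primeIdealOf_iff {X : Scheme.{u}} {V : X.Opens} (hV : IsAffineOpen V) (g : Γ(X, V))
    (x : V) : g ∉ (hV.primeIdealOf x).asIdeal ↔ x.1 ∈ X.basicOpen g := by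
  conv_rhs => rw [← hV.fromSpec_primeIdealOf x]
  change hV.primeIdealOf x ∈ PrimeSpectrum.basicOpen g ↔ hV.primeIdealOf x ∈ hV.fromSpec ⁻¹ᵁ X.basicOpen g
  rw [hV.fromSpec_preimage_basicOpen]
  rfl

section immersion

variable {A : Type u} [CommRing A] {U : Scheme.{u}} (j : U ⟶ Spec (CommRingCat.of A))
  [IsImmersion j] {I : Ideal A} (hI : ∀ x : U, j x ∉ PrimeSpectrum.zeroLocus (I : Set A))
  (hcl : IsClosed (PrimeSpectrum.zeroLocus (I : Set A) ∪ Set.range j)) {h : A} (hh : h ∈ I)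

include hcl hh in
theorem isClosedImmersion_restrict :
    IsClosedImmersion (j ∣_ PrimeSpectrum.basicOpen h) := by
  refine .of_isPreimmersion _ ?_
  have : Set.range (j ∣_ PrimeSpectrum.basicOpen h) =
      Subtype.val ⁻¹' (PrimeSpectrum.zeroLocus (I : Set A) ∪ Set.range j) := by
    ext y
    constructor
    · rintro ⟨x, rfl⟩
      exact Or.inr ⟨x.1, (morphismRestrict_base_coe j _ x).symm⟩
    · rintro (hy | ⟨x, hx⟩)
      · exact absurd (hy hh) y.2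
      · exact ⟨⟨x, (hx ▸ y.2 : j x ∈ PrimeSpectrum.basicOpen h)⟩,
          Subtype.ext ((morphismRestrict_base_coe j _ _).trans hx)⟩
  rw [this]
  exact hcl.preimage continuous_subtype_val

include hcl hh in
theorem isAffineOpen_preimage : IsAffineOpen (j ⁻¹ᵁ PrimeSpectrum.basicOpen h) := by
  have := isClosedImmersion_restrict j hcl hh
  have : IsAffine (Scheme.Opens.toScheme (X := Spec (CommRingCat.of A)) (PrimeSpectrum.basicOpen h)) :=
    (basicOpen_eq_of_affine (R := CommRingCat.of A) h) ▸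
      (isAffineOpen_top (Spec (CommRingCat.of A))).basicOpen ((Scheme.ΓSpecIso (CommRingCat.of A)).inv h)
  exact isAffine_of_isAffineHom (j ∣_ PrimeSpectrum.basicOpen h)

include hcl hh in
theorem exists_preimage_eq_basicOpen (g : Γ(U, j ⁻¹ᵁ PrimeSpectrum.basicOpen h)) :
    ∃ h' ∈ I, j ⁻¹ᵁ PrimeSpectrum.basicOpen h' = U.basicOpen g := by
  let D : (Spec (CommRingCat.of A)).Opens := PrimeSpectrum.basicOpen h
  let g₀ : Γ(Spec (CommRingCat.of A), ⊤) := (Scheme.ΓSpecIso (CommRingCat.of A)).inv h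
  have hg₀ : (Spec (CommRingCat.of A)).basicOpen g₀ = D := basicOpen_eq_of_affine (R := CommRingCat.of A) h
  have hci := isClosedImmersion_restrict j hcl hh
  have hD : IsAffine (D : Scheme.{u}) := hg₀ ▸ (isAffineOpen_top _).basicOpen g₀
  have hDι : D.ι ''ᵁ ⊤ = D := by rw [Scheme.Hom.image_top_eq_opensRange, Scheme.Opens.opensRange_ι]
  have hpre : (j ⁻¹ᵁ D).ι ''ᵁ (j ∣_ D) ⁻¹ᵁ ⊤ = j ⁻¹ᵁ D := by
    rw [Scheme.Hom.preimage_top, Scheme.Hom.image_top_eq_opensRange, Scheme.Opens.opensRange_ι]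
  have hle' : (Spec (CommRingCat.of A)).basicOpen g₀ ≤ D.ι ''ᵁ ⊤ := (hg₀.trans hDι.symm).le
  obtain ⟨σ₀, hσ⟩ : ∃ σ₀ : Γ(Spec (CommRingCat.of A), D.ι ''ᵁ ⊤),
      j.appLE (D.ι ''ᵁ ⊤) _ (image_morphismRestrict_preimage j D ⊤).le σ₀ =
        U.presheaf.map (homOfLE hpre.le).op g := by
    obtain ⟨σ₀, hσ⟩ := (j ∣_ D).app_surjective ⊤ (isAffineOpen_top _)
      (U.presheaf.map (homOfLE hpre.le).op g)
    rw [morphismRestrict_app'] at hσ
    exact ⟨σ₀, hσ⟩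
  have hbo := congrArg (fun z => U.basicOpen z) hσ
  simp only [Scheme.basicOpen_appLE, Scheme.basicOpen_res, hpre,
    inf_eq_right.mpr (U.basicOpen_le g)] at hbo
  let σ : Γ(Spec (CommRingCat.of A), (Spec (CommRingCat.of A)).basicOpen g₀) :=
    (Spec (CommRingCat.of A)).presheaf.map (homOfLE hle').op σ₀
  have hσ₀ : (Spec (CommRingCat.of A)).basicOpen σ = (Spec (CommRingCat.of A)).basicOpen σ₀ := by
    simp only [σ, Scheme.basicOpen_res]
    exact inf_eq_right.mpr (((Spec (CommRingCat.of A)).basicOpen_le σ₀).trans (hDι.trans hg₀.symm).le)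
  have := (isAffineOpen_top (Spec (CommRingCat.of A))).isLocalization_basicOpen g₀
  obtain ⟨⟨a', ⟨_, k, rfl⟩⟩, ha⟩ := IsLocalization.surj (Submonoid.powers g₀) σ
  obtain ⟨a, rfl⟩ : ∃ a : A, (Scheme.ΓSpecIso (CommRingCat.of A)).inv a = a' :=
    ⟨(Scheme.ΓSpecIso (CommRingCat.of A)).hom a', by rw [← CommRingCat.comp_apply, Iso.hom_inv_id]; rfl⟩
  refine ⟨h * a, Ideal.mul_mem_right _ _ hh, ?_⟩
  have hunit : IsUnit (algebraMap Γ(Spec (CommRingCat.of A), ⊤)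
      Γ(Spec (CommRingCat.of A), (Spec (CommRingCat.of A)).basicOpen g₀) (g₀ ^ k)) :=
    IsLocalization.map_units _ (⟨_, k, rfl⟩ : Submonoid.powers g₀)
  have hσa : (Spec (CommRingCat.of A)).basicOpen σ = D ⊓ PrimeSpectrum.basicOpen a := by
    have h1 := congrArg (fun z => (Spec (CommRingCat.of A)).basicOpen z) ha
    simp only [Scheme.basicOpen_mul, Scheme.basicOpen_of_isUnit _ hunit] at h1
    rw [inf_eq_left.mpr ((Spec (CommRingCat.of A)).basicOpen_le σ)] at h1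
    refine h1.trans ((Scheme.basicOpen_res _ _ _).trans ?_)
    rw [basicOpen_eq_of_affine (R := CommRingCat.of A) a, hg₀]
  rw [PrimeSpectrum.basicOpen_mul]
  change j ⁻¹ᵁ (D ⊓ PrimeSpectrum.basicOpen a) = _
  have hle : j ⁻¹ᵁ (Spec (CommRingCat.of A)).basicOpen σ₀ ≤ j ⁻¹ᵁ D := fun x hx =>
    hDι.le ((Spec (CommRingCat.of A)).basicOpen_le σ₀ hx)
  rw [inf_eq_right.mpr hle, inf_eq_right.mpr (show U.basicOpen g ≤ j ⁻¹ᵁ D from U.basicOpen_le g)] at hbo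
  rw [← hσa, hσ₀, hbo]

end immersion

variable {S : Scheme.{u}} (G : Grpd.GroupoidScheme S)

/-- An invariant affine open of the form `j⁻¹ D(h)` containing given finitely many orbits of generic
points. -/
theorem exists_invariant [IsFinite G.s] [IsFinite G.t] [LocallyOfFinitePresentation G.t]
    {ι : Type*} [Finite ι] (u : ι → G.U)
    (hu : ∀ i (r : G.R), G.s r = u i → ∀ x : G.U, x ⤳ G.t r → x = G.t r)
    {A : Type u} [CommRing A] (j : G.U ⟶ Spec (CommRingCat.of A)) [IsImmersion j] (I : Ideal A)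
    (hI : ∀ x : G.U, j x ∉ PrimeSpectrum.zeroLocus (I : Set A))
    (hcl : IsClosed (PrimeSpectrum.zeroLocus (I : Set A) ∪ Set.range j)) :
    ∃ h ∈ I, IsAffineOpen (j ⁻¹ᵁ PrimeSpectrum.basicOpen h) ∧
      (∀ i, u i ∈ j ⁻¹ᵁ PrimeSpectrum.basicOpen h) ∧
      G.s ⁻¹ᵁ (j ⁻¹ᵁ PrimeSpectrum.basicOpen h) = G.t ⁻¹ᵁ (j ⁻¹ᵁ PrimeSpectrum.basicOpen h) := by
  classical
  let O : Set G.U := G.t '' (G.s ⁻¹' Set.range u)
  have hO : O.Finite := ((G.s.finite_preimage (Set.finite_range u))).image _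
  have hsat : ∀ r : G.R, G.t r ∈ O → G.s r ∈ O := by
    rintro r ⟨r₀, ⟨i, hi⟩, e⟩
    obtain ⟨r', h1, h2⟩ := GrpdBasic.exists_comp_point G (G.i r) r₀
      (by rw [← Scheme.Hom.comp_apply, G.i_s, e])
    refine ⟨r', ⟨i, by rw [hi, h2]⟩, ?_⟩
    rw [h1, ← Scheme.Hom.comp_apply, G.i_t]
  have hOmin : ∀ x ∈ O, ∀ y : G.U, y ⤳ x → y = x := by
    rintro _ ⟨r, ⟨i, hi⟩, rfl⟩ y hy
    exact hu i r hi.symm y hy
  have huO : ∀ i, u i ∈ O := fun i => ⟨G.e (u i), ⟨i, by rw [← Scheme.Hom.comp_apply, G.e_s]; rfl⟩,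
    by rw [← Scheme.Hom.comp_apply, G.e_t]; rfl⟩
  -- first open
  obtain ⟨h₀, hh₀, hO₀⟩ : ∃ h₀ ∈ I, ∀ x ∈ O, h₀ ∉ (j x).asIdeal := by
    by_contra! hne
    obtain ⟨x₀, -, -⟩ := hne 0 (Ideal.zero_mem _)
    obtain ⟨x, -, hx⟩ := (Ideal.subset_union_prime (s := hO.toFinset) (f := fun x => (j x).asIdeal)
      x₀ x₀ (fun x _ _ _ => (j x).isPrime)).mp (fun z hz => by
        obtain ⟨x, hx, hz⟩ := hne z hz
        exact Set.mem_biUnion (hO.mem_toFinset.mpr hx) hz)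
    exact hI x fun z hz => hx hz
  let V₀ : G.U.Opens := j ⁻¹ᵁ PrimeSpectrum.basicOpen h₀
  have hV₀ : IsAffineOpen V₀ := isAffineOpen_preimage j hcl hh₀
  let R₀ : G.R.Opens := G.t ⁻¹ᵁ V₀
  have hR₀ : IsAffineOpen R₀ := hV₀.preimage G.t
  let τ : Γ(G.U, V₀) →+* Γ(G.R, R₀) := (G.t.appLE V₀ R₀ le_rfl).hom
  algebraize [τ]
  have : Module.Finite Γ(G.U, V₀) Γ(G.R, R₀) := by
    have := G.t.finite_app V₀ hV₀
    rw [Scheme.Hom.app_eq_appLE] at this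
    exact this
  have : Algebra.FinitePresentation Γ(G.U, V₀) Γ(G.R, R₀) :=
    HasRingHomProperty.appLE @LocallyOfFinitePresentation G.t inferInstance ⟨V₀, hV₀⟩ ⟨R₀, hR₀⟩ le_rfl
  let P : Set (PrimeSpectrum Γ(G.U, V₀)) := hV₀.primeIdealOf '' {x | x.1 ∈ O}
  have hP : P.Finite := (hO.preimage Subtype.val_injective.injOn).image _
  have hmin : ∀ p ∈ P, p.asIdeal ∈ minimalPrimes Γ(G.U, V₀) := by
    rintro _ ⟨x, hx, rfl⟩
    refine ⟨⟨(hV₀.primeIdealOf x).isPrime, bot_le⟩, fun q hq hle => ?_⟩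
    have hsp : (⟨q, hq.1⟩ : PrimeSpectrum _) ⤳ hV₀.primeIdealOf x :=
      (PrimeSpectrum.le_iff_specializes _ _).mp hle
    have := hOmin _ hx _ (hV₀.fromSpec_primeIdealOf x ▸ hsp.map hV₀.fromSpec.continuous)
    rw [← hV₀.fromSpec_primeIdealOf x] at this
    exact (congrArg PrimeSpectrum.asIdeal (hV₀.fromSpec.isOpenEmbedding.injective this)).ge
  obtain ⟨f, hf, hN⟩ := GitQuot.GenericNorm.exists_away_norm Γ(G.U, V₀) Γ(G.R, R₀) P hP hmin
  obtain ⟨h₁, -, hV₁⟩ := exists_preimage_eq_basicOpen j hcl hh₀ f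
  let V₁ : G.U.Opens := j ⁻¹ᵁ PrimeSpectrum.basicOpen h₁
  have hOV₁ : ∀ x ∈ O, x ∈ V₁ := fun x hx => by
    have hx₀ : x ∈ V₀ := hO₀ x hx
    exact (SetLike.ext_iff.mp hV₁ x).mpr ((notMem_primeIdealOf_iff hV₀ f ⟨x, hx₀⟩).mp (hf _ ⟨⟨x, hx₀⟩, hx, rfl⟩))
  let a₁ : Γ(G.U, ⊤) := j.appTop ((Scheme.ΓSpecIso (CommRingCat.of A)).inv h₁)
  have ha₁ : G.U.basicOpen a₁ = V₁ := by
    rw [← Scheme.preimage_basicOpen_top, basicOpen_eq_of_affine]
  let c : Γ(G.R, R₀) := G.R.presheaf.map (homOfLE le_top).op (G.s.appTop a₁)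
  have hc : ∀ r : R₀, c ∉ (hR₀.primeIdealOf r).asIdeal ↔ G.s r.1 ∈ V₁ := fun r => by
    rw [notMem_primeIdealOf_iff, Scheme.basicOpen_res, ← Scheme.preimage_basicOpen_top, ha₁]
    exact ⟨fun h => h.2, fun h => ⟨r.2, h⟩⟩
  obtain ⟨N, hN⟩ := hN c
  obtain ⟨h₃, hh₃, hW⟩ := exists_preimage_eq_basicOpen j hcl hh₀ (f * N)
  have hW' : ∀ x : G.U, x ∈ j ⁻¹ᵁ PrimeSpectrum.basicOpen h₃ ↔
      ∀ r : G.R, G.t r = x → G.s r ∈ V₁ := by
    intro x
    rw [hW, Scheme.basicOpen_mul]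
    constructor
    · rintro ⟨hxf, hxN⟩ r rfl
      have hx₀ : G.t r ∈ V₀ := G.U.basicOpen_le f hxf
      refine (hc ⟨r, hx₀⟩).mp ((hN _ ((notMem_primeIdealOf_iff hV₀ f ⟨_, hx₀⟩).mpr hxf)).mp
        ((notMem_primeIdealOf_iff hV₀ N ⟨_, hx₀⟩).mpr hxN) _ ?_)
      exact hV₀.comap_primeIdealOf_appLE V₀ R₀ hR₀ le_rfl hx₀
    · intro h
      have hx₁ : x ∈ V₁ := by
        have := h (G.e x) (by rw [← Scheme.Hom.comp_apply, G.e_t]; rfl)
        rwa [← Scheme.Hom.comp_apply, G.e_s] at this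
      have hxf : x ∈ G.U.basicOpen f := (SetLike.ext_iff.mp hV₁ x).mp hx₁
      have hx₀ : x ∈ V₀ := G.U.basicOpen_le f hxf
      refine ⟨hxf, (notMem_primeIdealOf_iff hV₀ N ⟨x, hx₀⟩).mp
        ((hN _ ((notMem_primeIdealOf_iff hV₀ f ⟨x, hx₀⟩).mpr hxf)).mpr fun q hq => ?_)⟩
      obtain ⟨r, hr, rfl⟩ : ∃ (r : G.R) (hr : r ∈ R₀), hR₀.primeIdealOf ⟨r, hr⟩ = q := by
        have : hR₀.fromSpec q ∈ R₀ := by
          have := Set.mem_range_self (f := hR₀.fromSpec) q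
          rwa [hR₀.range_fromSpec] at this
        exact ⟨_, this, hR₀.fromSpec.isOpenEmbedding.injective (hR₀.fromSpec_primeIdealOf _)⟩
      refine (hc ⟨r, hr⟩).mpr (h r ?_)
      have := congrArg hV₀.fromSpec ((hV₀.comap_primeIdealOf_appLE V₀ R₀ hR₀ le_rfl hr).symm.trans hq)
      rwa [hV₀.fromSpec_primeIdealOf, hV₀.fromSpec_primeIdealOf] at this
  refine ⟨h₃, hh₃, isAffineOpen_preimage j hcl hh₃, fun i => (hW' _).mpr fun r hr => ?_, ?_⟩
  · exact hOV₁ _ (hsat r (hr ▸ huO i))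
  · refine TopologicalSpace.Opens.ext (Set.ext fun r => ?_)
    change G.s r ∈ j ⁻¹ᵁ PrimeSpectrum.basicOpen h₃ ↔ G.t r ∈ j ⁻¹ᵁ PrimeSpectrum.basicOpen h₃
    rw [hW', hW']
    constructor
    · intro h r' hr'
      obtain ⟨r'', h1, h2⟩ := GrpdBasic.exists_comp_point G (G.i r) r'
        (by rw [← Scheme.Hom.comp_apply, G.i_s, hr'])
      rw [← h2]
      exact h r'' (by rw [h1, ← Scheme.Hom.comp_apply, G.i_t])
    · intro h r' hr'
      obtain ⟨r'', h1, h2⟩ := GrpdBasic.exists_comp_point G r r' hr'.symm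
      rw [← h2]
      exact h r'' h1

end Groth.GrpdGeneric
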