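import Groth.Agent.GitQuot.GrpdShear

/-!
# Invariance of largest opens with a property
-/

set_option autoImplicit false

universe u

open AlgebraicGeometry CategoryTheory CategoryTheory.Limits

noncomputable section

namespace Groth.GrpdLocus

open Groth.GrpdBasic (comp comp_congr)

variable (P Q : MorphismProperty Scheme.{u}) [P.RespectsIso]
  (W : ∀ {X Y : Scheme.{u}} (f : X ⟶ Y), Q f → X.Opens)
  (hWP : ∀ {X Y : Scheme.{u}} (f : X ⟶ Y) (hf : Q f), P ((W f hf).ι ≫ f))
  (hWmax : ∀ {X Y : Scheme.{u}} (f : X ⟶ Y) (hf : Q f) (V : X.Opens), P (V.ι ≫ f) → V ≤ W f hf)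

include hWP hWmax

theorem locus_le_of_iso {X₁ X₂ Y : Scheme.{u}} (ε : X₁ ⟶ X₂) [IsIso ε] (f₁ : X₁ ⟶ Y) (f₂ : X₂ ⟶ Y)
    (he : ε ≫ f₂ = f₁) (h₁ : Q f₁) (h₂ : Q f₂) : ε ⁻¹ᵁ W f₂ h₂ ≤ W f₁ h₁ := by
  refine hWmax f₁ h₁ _ ?_
  have : (ε ⁻¹ᵁ W f₂ h₂).ι ≫ f₁ = (ε ∣_ W f₂ h₂) ≫ (W f₂ h₂).ι ≫ f₂ := by
    rw [morphismRestrict_ι_assoc, he]
  rw [this, P.cancel_left_of_respectsIso]
  exact hWP f₂ h₂

theorem locus_eq_of_iso {X₁ X₂ Y : Scheme.{u}} (ε : X₁ ≅ X₂) (f₁ : X₁ ⟶ Y) (f₂ : X₂ ⟶ Y)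
    (he : ε.hom ≫ f₂ = f₁) (h₁ : Q f₁) (h₂ : Q f₂) : ε.hom ⁻¹ᵁ W f₂ h₂ = W f₁ h₁ := by
  refine le_antisymm (locus_le_of_iso P Q W hWP hWmax ε.hom f₁ f₂ he h₁ h₂) fun x hx => ?_
  refine locus_le_of_iso P Q W hWP hWmax ε.inv f₂ f₁ (by rw [← he, Iso.inv_hom_id_assoc]) h₂ h₁ ?_
  show ε.inv (ε.hom x) ∈ W f₁ h₁
  rw [← Scheme.Hom.comp_apply, ε.hom_inv_id]
  exact hx

theorem exists_open {S : Scheme.{u}} (G : Grpd.GroupoidScheme S) {U' : Scheme.{u}} (g : U' ⟶ G.U)
    (R : MorphismProperty Scheme.{u}) [Q.IsStableUnderBaseChange]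
    (hWbc : ∀ {X Y Y' : Scheme.{u}} (f : X ⟶ Y) (hf : Q f) (b : Y' ⟶ Y), R b →
      ∀ hf' : Q (pullback.snd f b), pullback.fst f b ⁻¹ᵁ W f hf = W (pullback.snd f b) hf')
    (hs : R G.s) (ht : R G.t) (hh : Q (pullback.snd g G.t ≫ G.s)) :
    ∃ V : U'.Opens, pullback.fst g G.t ⁻¹ᵁ V = W (pullback.snd g G.t ≫ G.s) hh := by
  let X := pullback g G.t
  let h : X ⟶ G.U := pullback.snd g G.t ≫ G.s
  let T₁ := pullback h G.t
  let T₂ := pullback h G.s
  have hm : (pullback.fst h G.t ≫ pullback.snd g G.t) ≫ G.s = pullback.snd h G.t ≫ G.t := by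
    rw [Category.assoc]; exact pullback.condition
  let μ : T₁ ⟶ G.R := comp G (pullback.fst h G.t ≫ pullback.snd g G.t) (pullback.snd h G.t) hm
  let q : T₁ ⟶ X := pullback.lift (pullback.fst h G.t ≫ pullback.fst g G.t) μ (by
    rw [GrpdBasic.comp_t, Category.assoc, Category.assoc, pullback.condition])
  let a : T₁ ⟶ T₂ := pullback.lift q (pullback.snd h G.t) (by
    show q ≫ pullback.snd g G.t ≫ G.s = _
    rw [← Category.assoc q, pullback.lift_snd, GrpdBasic.comp_s])
  have hn : (pullback.fst h G.s ≫ pullback.snd g G.t) ≫ G.s = (pullback.snd h G.s ≫ G.i) ≫ G.t := by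
    rw [Category.assoc, Category.assoc, G.i_t]; exact pullback.condition
  let ν : T₂ ⟶ G.R := comp G (pullback.fst h G.s ≫ pullback.snd g G.t) (pullback.snd h G.s ≫ G.i) hn
  let q' : T₂ ⟶ X := pullback.lift (pullback.fst h G.s ≫ pullback.fst g G.t) ν (by
    rw [GrpdBasic.comp_t, Category.assoc, Category.assoc, pullback.condition])
  let b : T₂ ⟶ T₁ := pullback.lift q' (pullback.snd h G.s) (by
    show q' ≫ pullback.snd g G.t ≫ G.s = _
    rw [← Category.assoc q', pullback.lift_snd, GrpdBasic.comp_s, Category.assoc, G.i_s])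
  have hab : a ≫ b = 𝟙 _ := by
    apply pullback.hom_ext
    · rw [Category.assoc, pullback.lift_fst, Category.id_comp]
      apply pullback.hom_ext
      · rw [Category.assoc, pullback.lift_fst, ← Category.assoc, pullback.lift_fst, pullback.lift_fst]
      · rw [Category.assoc, pullback.lift_snd, GrpdBasic.precomp_comp]
        refine Eq.trans ?_ (GrpdBasic.comp_cancel_inv G _ _ hm)
        apply comp_congr
        · rw [← Category.assoc, pullback.lift_fst, pullback.lift_snd]
        · rw [← Category.assoc, pullback.lift_snd]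
    · rw [Category.assoc, pullback.lift_snd, pullback.lift_snd, Category.id_comp]
  have hba : b ≫ a = 𝟙 _ := by
    apply pullback.hom_ext
    · rw [Category.assoc, pullback.lift_fst, Category.id_comp]
      apply pullback.hom_ext
      · rw [Category.assoc, pullback.lift_fst, ← Category.assoc, pullback.lift_fst, pullback.lift_fst]
      · rw [Category.assoc, pullback.lift_snd, GrpdBasic.precomp_comp]
        refine Eq.trans ?_ (GrpdBasic.comp_inv_cancel G (pullback.fst h G.s ≫ pullback.snd g G.t)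
          (pullback.snd h G.s) hn)
        apply comp_congr
        · rw [← Category.assoc, pullback.lift_fst, pullback.lift_snd]
        · rw [pullback.lift_snd]
    · rw [Category.assoc, pullback.lift_snd, pullback.lift_snd, Category.id_comp]
  let ε : T₁ ≅ T₂ := ⟨a, b, hab, hba⟩
  have hQ₁ : Q (pullback.snd h G.t) := MorphismProperty.pullback_snd _ _ hh
  have hQ₂ : Q (pullback.snd h G.s) := MorphismProperty.pullback_snd _ _ hh
  have key : pullback.fst h G.t ⁻¹ᵁ W h hh = q ⁻¹ᵁ W h hh := by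
    rw [hWbc h hh G.t ht hQ₁, ← locus_eq_of_iso P Q W hWP hWmax ε _ _ (show ε.hom ≫ pullback.snd h G.s = pullback.snd h G.t from pullback.lift_snd _ _ _) hQ₁ hQ₂,
      ← hWbc h hh G.s hs hQ₂, ← Scheme.Hom.comp_preimage]
    exact congrArg (fun m => m ⁻¹ᵁ W h hh) (show a ≫ pullback.fst h G.s = q from pullback.lift_fst _ _ _)
  -- invariance along the fibres over `U'`
  have inv : ∀ p p' : X, pullback.fst g G.t p = pullback.fst g G.t p' → (p ∈ W h hh ↔ p' ∈ W h hh) := by
    intro p p' hpp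
    obtain ⟨z, hz₁, hz₂⟩ := Scheme.Pullback.exists_preimage_pullback
      (f := pullback.fst g G.t) (g := pullback.fst g G.t) p p' hpp
    let m := (pullback (pullback.fst g G.t) (pullback.fst g G.t)).fromSpecResidueField z
    let A := m ≫ pullback.fst (pullback.fst g G.t) (pullback.fst g G.t)
    let B := m ≫ pullback.snd (pullback.fst g G.t) (pullback.fst g G.t)
    have hAB : (A ≫ pullback.fst g G.t) = B ≫ pullback.fst g G.t := by
      simp only [A, B, Category.assoc, pullback.condition]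
    have hαβ : (A ≫ pullback.snd g G.t) ≫ G.t = (B ≫ pullback.snd g G.t) ≫ G.t := by
      exact (Category.assoc A _ _).trans ((congrArg (A ≫ ·) pullback.condition).symm.trans
        ((Category.assoc A _ _).symm.trans ((congrArg (· ≫ g) hAB).trans ((Category.assoc B _ _).trans
          ((congrArg (B ≫ ·) pullback.condition).trans (Category.assoc B _ _).symm)))))
    have hγ : ((A ≫ pullback.snd g G.t) ≫ G.i) ≫ G.s = (B ≫ pullback.snd g G.t) ≫ G.t := by
      rw [Category.assoc _ G.i, G.i_s]; exact hαβ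
    let γ := comp G ((A ≫ pullback.snd g G.t) ≫ G.i) (B ≫ pullback.snd g G.t) hγ
    let τ : _ ⟶ T₁ := pullback.lift A γ (by
      show A ≫ pullback.snd g G.t ≫ G.s = _
      exact ((GrpdBasic.comp_t G _ _ hγ).trans (by rw [Category.assoc _ G.i, G.i_t, Category.assoc])).symm)
    have hτ : τ ≫ q = B := by
      apply pullback.hom_ext
      · rw [Category.assoc, pullback.lift_fst, ← Category.assoc, pullback.lift_fst]
        exact hAB
      · rw [Category.assoc, pullback.lift_snd, GrpdBasic.precomp_comp]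
        refine Eq.trans ?_ (GrpdBasic.comp_inv_comp_cancel G _ _ hγ)
        apply comp_congr
        · rw [← Category.assoc, pullback.lift_fst]
        · rw [pullback.lift_snd]
    let pt₀ := IsLocalRing.closedPoint ((pullback (pullback.fst g G.t) (pullback.fst g G.t)).residueField z)
    have hA : pullback.fst h G.t (τ pt₀) = p := by
      rw [← Scheme.Hom.comp_apply, pullback.lift_fst, Scheme.Hom.comp_apply,
        Scheme.fromSpecResidueField_apply, hz₁]
    have hB : q (τ pt₀) = p' := by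
      rw [← Scheme.Hom.comp_apply, hτ, Scheme.Hom.comp_apply, Scheme.fromSpecResidueField_apply, hz₂]
    have := congrArg (τ pt₀ ∈ ·) key
    simp only [eq_iff_iff] at this
    change (pullback.fst h G.t (τ pt₀) ∈ W h hh ↔ q (τ pt₀) ∈ W h hh) at this
    rwa [hA, hB] at this
  let σ : U' ⟶ X := pullback.lift (𝟙 U') (g ≫ G.e)
    (by rw [Category.id_comp, Category.assoc, G.e_t, Category.comp_id])
  refine ⟨σ ⁻¹ᵁ W h hh, ?_⟩
  ext p
  show σ (pullback.fst g G.t p) ∈ W h hh ↔ p ∈ W h hh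
  refine inv _ _ ?_
  rw [← Scheme.Hom.comp_apply, pullback.lift_fst]
  rfl

end Groth.GrpdLocus
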