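import Groth.Agent.GitQuot.GrpdImage
import Groth.Agent.GitQuot.GrpdOfMono

/-!
# The pair groupoid and the image of a groupoid in it
-/

set_option autoImplicit false

universe u

open AlgebraicGeometry CategoryTheory CategoryTheory.Limits

noncomputable section

namespace Groth.GrpdImage

open Groth.GrpdBasic (comp comp_congr)

variable {S : Scheme.{u}}

/-- The pair groupoid `U ×_S U ⇉ U`. -/
@[reducible] def pair {U : Scheme.{u}} (pU : U ⟶ S) : Grpd.GroupoidScheme S :=
  GrpdBasic.ofMono pU (pullback.fst pU pU ≫ pU) (pullback.snd pU pU) (pullback.fst pU pU)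
    pullback.condition.symm rfl (fun h₁ h₂ => pullback.hom_ext h₁ h₂)
    (pullback.lift (𝟙 U) (𝟙 U) rfl) (pullbackSymmetry pU pU).hom
    (pullback.lift (pullback.fst (pullback.snd pU pU) (pullback.fst pU pU) ≫ pullback.fst pU pU)
      (pullback.snd _ _ ≫ pullback.snd pU pU) (by
        rw [Category.assoc, Category.assoc, pullback.condition (f := pU) (g := pU), ← Category.assoc,
          pullback.condition, Category.assoc, pullback.condition (f := pU) (g := pU)]))
    (pullback.lift_snd _ _ _) (pullback.lift_fst _ _ _) (pullbackSymmetry_hom_comp_snd _ _)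
    (pullbackSymmetry_hom_comp_fst _ _) (pullback.lift_snd _ _ _) (pullback.lift_fst _ _ _)

variable (G : Grpd.GroupoidScheme S)

/-- The morphism `(t, s)` to the pair groupoid. -/
def toPair : Grpd.GroupoidScheme.Hom G (pair G.pU) where
  fU := 𝟙 _
  fR := G.j
  fU_over := Category.id_comp _
  comm_s := (pullback.lift_snd _ _ _).trans (Category.comp_id _).symm
  comm_t := (pullback.lift_fst _ _ _).trans (Category.comp_id _).symm
  comm_c := fun {T} α β h => by
    apply pullback.hom_ext
    · simp only [Category.assoc, Grpd.GroupoidScheme.j, pullback.lift_fst, pullback.lift_fst_assoc]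
      rw [← Category.assoc]
      exact G.comp_t α β h
    · simp only [Category.assoc, Grpd.GroupoidScheme.j, pullback.lift_snd, pullback.lift_snd_assoc]
      rw [← Category.assoc]
      exact G.comp_s α β h

/-- For a subgroupoid of the pair groupoid, `j` is the inclusion. -/
theorem j_map_eq {G' : Grpd.GroupoidScheme S} {U : Scheme.{u}} {pU : U ⟶ S}
    (ψ : Grpd.GroupoidScheme.Hom G' (pair pU)) :
    G'.j ≫ pullback.map G'.pU G'.pU pU pU ψ.fU ψ.fU (𝟙 S)
      ((Category.comp_id _).trans ψ.fU_over.symm) ((Category.comp_id _).trans ψ.fU_over.symm) = ψ.fR := by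
  apply pullback.hom_ext
  · simp only [Category.assoc, Grpd.GroupoidScheme.j, pullback.lift_fst, pullback.lift_fst_assoc]
    exact ψ.comm_t.symm
  · simp only [Category.assoc, Grpd.GroupoidScheme.j, pullback.lift_snd, pullback.lift_snd_assoc]
    exact ψ.comm_s.symm

/-- `(t, s)` is quasi-compact when `R` is and `U` is affine. -/
theorem quasiCompact_j [IsAffine G.U] [CompactSpace G.R] : QuasiCompact G.j := by
  have h : G.pU ≫ terminal.from S = terminal.from G.U := terminal.hom_ext _ _
  have : IsSeparated (terminal.from G.U) := inferInstance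
  have : IsSeparated (G.pU ≫ terminal.from S) := h ▸ this
  have : IsSeparated G.pU := IsSeparated.of_comp G.pU (terminal.from S)
  have : QuasiSeparated (pullback.fst G.pU G.pU) := inferInstance
  have : QuasiCompact (G.j ≫ pullback.fst G.pU G.pU) := by
    rw [quasiCompact_iff_compactSpace]; infer_instance
  exact QuasiCompact.of_comp G.j (pullback.fst G.pU G.pU)

theorem isAffine_U (k : Type u) [Field k] (eU : G.U ≅ Spec (CommRingCat.of k)) : IsAffine G.U :=
  IsAffine.of_isIso eU.hom

/-- Scheme-theoretic image of `(t, s)`. -/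
theorem exists_image_j (k : Type u) [Field k] (eU : G.U ≅ Spec (CommRingCat.of k)) [CompactSpace G.R] :
    ∃ (G' : Grpd.GroupoidScheme S) (φ : Grpd.GroupoidScheme.Hom G G'), IsIso φ.fU ∧
      IsClosedImmersion G'.j ∧ G'.j.ker = (G.j ≫ pullback.map G.pU G.pU G'.pU G'.pU φ.fU φ.fU (𝟙 S)
        ((Category.comp_id _).trans φ.fU_over.symm) ((Category.comp_id _).trans φ.fU_over.symm)).ker := by
  have := isAffine_U G k eU
  have : QuasiCompact (toPair G).fR := quasiCompact_j G
  have : IsIso (toPair G).fU := inferInstanceAs (IsIso (𝟙 G.U))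
  obtain ⟨G', ψ, hU, hR, hker⟩ := exists_image (toPair G) k eU
  let l := IsClosedImmersion.lift ψ.fR G.j hker.le
  have hl : l ≫ ψ.fR = G.j := IsClosedImmersion.lift_fac _ _ _
  let φ : Grpd.GroupoidScheme.Hom G G' :=
  { fU := inv ψ.fU
    fR := l
    fU_over := by rw [← ψ.fU_over, IsIso.inv_hom_id_assoc]
    comm_s := by
      rw [← cancel_mono ψ.fU, Category.assoc, ← ψ.comm_s, ← Category.assoc, hl, Category.assoc,
        IsIso.inv_hom_id, Category.comp_id]
      exact pullback.lift_snd _ _ _
    comm_t := by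
      rw [← cancel_mono ψ.fU, Category.assoc, ← ψ.comm_t, ← Category.assoc, hl, Category.assoc,
        IsIso.inv_hom_id, Category.comp_id]
      exact pullback.lift_fst _ _ _
    comm_c := fun α β h => by
      refine (cancel_mono ψ.fR).1 (Eq.trans ?_ (ψ.comm_c (α ≫ l) (β ≫ l) _).symm)
      refine ((Category.assoc _ _ _).trans (congrArg (_ ≫ ·) hl)).trans
        (((toPair G).comm_c α β h).trans ?_)
      exact comp_congr (pair G.pU) _ ((congrArg (α ≫ ·) hl).symm.trans (Category.assoc _ _ _).symm)
        ((congrArg (β ≫ ·) hl).symm.trans (Category.assoc _ _ _).symm) }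
  let m' := pullback.map G.pU G.pU G'.pU G'.pU φ.fU φ.fU (𝟙 S)
    ((Category.comp_id _).trans φ.fU_over.symm) ((Category.comp_id _).trans φ.fU_over.symm)
  have : IsIso φ.fU := inferInstanceAs (IsIso (inv ψ.fU))
  have hj : G'.j = ψ.fR ≫ m' := by
    have hm : pullback.map G'.pU G'.pU G.pU G.pU ψ.fU ψ.fU (𝟙 S)
        ((Category.comp_id _).trans ψ.fU_over.symm) ((Category.comp_id _).trans ψ.fU_over.symm) ≫ m' = 𝟙 _ := by
      apply pullback.hom_ext
      · exact (Category.assoc _ _ _).trans ((congrArg (_ ≫ ·) (pullback.lift_fst _ _ _)).trans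
          ((Category.assoc _ _ _).symm.trans ((congrArg (· ≫ φ.fU) (pullback.lift_fst _ _ _)).trans
            ((Category.assoc _ _ _).trans ((congrArg (_ ≫ ·) (IsIso.hom_inv_id ψ.fU)).trans
              ((Category.comp_id _).trans (Category.id_comp _).symm))))))
      · exact (Category.assoc _ _ _).trans ((congrArg (_ ≫ ·) (pullback.lift_snd _ _ _)).trans
          ((Category.assoc _ _ _).symm.trans ((congrArg (· ≫ φ.fU) (pullback.lift_snd _ _ _)).trans
            ((Category.assoc _ _ _).trans ((congrArg (_ ≫ ·) (IsIso.hom_inv_id ψ.fU)).trans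
              ((Category.comp_id _).trans (Category.id_comp _).symm))))))
    rw [← j_map_eq ψ]
    exact ((Category.assoc _ _ _).trans ((congrArg (G'.j ≫ ·) hm).trans (Category.comp_id _))).symm
  refine ⟨G', φ, inferInstance, by rw [hj]; infer_instance, ?_⟩
  rw [hj, Scheme.Hom.ker_comp, Scheme.Hom.ker_comp, hker]
  rfl

/-- Reduced closure of the image of `(t, s)`. -/
theorem exists_closure_j (k : Type u) [Field k] [PerfectField k] (eU : G.U ≅ Spec (CommRingCat.of k)) :
    ∃ (G' : Grpd.GroupoidScheme S) (ψ : G'.U ≅ G.U) (hψ : ψ.hom ≫ G.pU = G'.pU), IsReduced G'.R ∧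
      IsClosedImmersion G'.j ∧ Set.range ⇑(G'.j ≫ pullback.map G'.pU G'.pU G.pU G.pU ψ.hom ψ.hom (𝟙 S)
        ((Category.comp_id _).trans hψ.symm) ((Category.comp_id _).trans hψ.symm)) =
        closure (Set.range ⇑G.j) := by
  have : IsIso (toPair G).fU := inferInstanceAs (IsIso (𝟙 G.U))
  obtain ⟨G', ψ, hU, hR, hred, hrange⟩ := exists_closure (toPair G) k eU
  refine ⟨G', asIso ψ.fU, ψ.fU_over, hred, ?_, ?_⟩
  · let m := pullback.map G'.pU G'.pU G.pU G.pU ψ.fU ψ.fU (𝟙 S)
      ((Category.comp_id _).trans ψ.fU_over.symm) ((Category.comp_id _).trans ψ.fU_over.symm)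
    have : IsClosedImmersion (G'.j ≫ m) := by
      rw [show G'.j ≫ m = ψ.fR from j_map_eq ψ]; exact hR
    exact (MorphismProperty.cancel_right_of_respectsIso @IsClosedImmersion G'.j m).1 this
  · rw [show G'.j ≫ pullback.map G'.pU G'.pU G.pU G.pU (asIso ψ.fU).hom (asIso ψ.fU).hom (𝟙 S) _ _ = ψ.fR
      from j_map_eq ψ]
    exact hrange

end Groth.GrpdImage
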