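import Mathlib
import Groth.Agent.GitQuot.GrpdShear

/-! The pullback of a groupoid scheme along a morphism to its scheme of objects. -/

set_option autoImplicit false

universe u

open AlgebraicGeometry CategoryTheory CategoryTheory.Limits

noncomputable section

namespace Groth.GrpdPullback

open Groth.GrpdBasic

variable {S : Scheme.{u}} (G : Grpd.GroupoidScheme S) {U' : Scheme.{u}} (u : U' ⟶ G.U)

/-- Arrows with target in `U'`. -/
abbrev V : Scheme.{u} := pullback G.t u

/-- The source of an arrow with target in `U'`. -/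
abbrev q : V G u ⟶ G.U := pullback.fst G.t u ≫ G.s

/-- Arrows between points of `U'`. -/
abbrev R' : Scheme.{u} := pullback (q G u) u

/-- The underlying arrow. -/
def arrow : R' G u ⟶ G.R := pullback.fst (q G u) u ≫ pullback.fst G.t u

/-- The target. -/
def t' : R' G u ⟶ U' := pullback.fst (q G u) u ≫ pullback.snd G.t u

/-- The source. -/
def s' : R' G u ⟶ U' := pullback.snd (q G u) u

theorem arrow_t : arrow G u ≫ G.t = t' G u ≫ u := by
  rw [arrow, t', Category.assoc, pullback.condition, Category.assoc]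

theorem arrow_s : arrow G u ≫ G.s = s' G u ≫ u := by
  rw [arrow, s', Category.assoc, ← pullback.condition]

variable {G u} {T : Scheme.{u}}

theorem ext {a b : T ⟶ R' G u} (hr : a ≫ arrow G u = b ≫ arrow G u) (ht : a ≫ t' G u = b ≫ t' G u)
    (hs : a ≫ s' G u = b ≫ s' G u) : a = b := by
  apply pullback.hom_ext
  · apply pullback.hom_ext
    · simpa only [arrow, Category.assoc] using hr
    · simpa only [t', Category.assoc] using ht
  · exact hs

/-- An arrow with given ends in `U'`. -/
def mk (α : T ⟶ G.R) (a b : T ⟶ U') (ht : α ≫ G.t = a ≫ u) (hs : α ≫ G.s = b ≫ u) : T ⟶ R' G u :=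
  pullback.lift (pullback.lift α a ht) b (by rw [pullback.lift_fst_assoc, hs])

@[simp, reassoc]
theorem mk_arrow (α : T ⟶ G.R) (a b : T ⟶ U') (ht : α ≫ G.t = a ≫ u) (hs : α ≫ G.s = b ≫ u) :
    mk α a b ht hs ≫ arrow G u = α := by
  rw [mk, arrow, pullback.lift_fst_assoc, pullback.lift_fst]

@[simp, reassoc]
theorem mk_t (α : T ⟶ G.R) (a b : T ⟶ U') (ht : α ≫ G.t = a ≫ u) (hs : α ≫ G.s = b ≫ u) :
    mk α a b ht hs ≫ t' G u = a := by
  rw [mk, t', pullback.lift_fst_assoc, pullback.lift_snd]

@[simp, reassoc]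
theorem mk_s (α : T ⟶ G.R) (a b : T ⟶ U') (ht : α ≫ G.t = a ≫ u) (hs : α ≫ G.s = b ≫ u) :
    mk α a b ht hs ≫ s' G u = b := by
  rw [mk, s', pullback.lift_snd]

variable (G u)

theorem comp_cond : (pullback.fst (s' G u) (t' G u) ≫ arrow G u) ≫ G.s =
    (pullback.snd (s' G u) (t' G u) ≫ arrow G u) ≫ G.t := by
  rw [Category.assoc, Category.assoc, arrow_s, arrow_t, pullback.condition_assoc]

/-- The composition. -/
def c' : pullback (s' G u) (t' G u) ⟶ R' G u :=
  mk (comp G (pullback.fst (s' G u) (t' G u) ≫ arrow G u) (pullback.snd (s' G u) (t' G u) ≫ arrow G u)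
    (comp_cond G u)) (pullback.fst _ _ ≫ t' G u) (pullback.snd _ _ ≫ s' G u)
    (by rw [comp_t, Category.assoc, arrow_t, Category.assoc])
    (by rw [comp_s, Category.assoc, arrow_s, Category.assoc])

variable {G u}

theorem lift_c'_arrow (α β : T ⟶ R' G u) (h : α ≫ s' G u = β ≫ t' G u) :
    (pullback.lift α β h ≫ c' G u) ≫ arrow G u = comp G (α ≫ arrow G u) (β ≫ arrow G u)
      (by rw [Category.assoc, Category.assoc, arrow_s, arrow_t, reassoc_of% h]) := by
  rw [Category.assoc, c', mk_arrow, precomp_comp]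
  exact comp_congr G _ (by rw [pullback.lift_fst_assoc]) (by rw [pullback.lift_snd_assoc])

theorem lift_c'_t (α β : T ⟶ R' G u) (h : α ≫ s' G u = β ≫ t' G u) :
    (pullback.lift α β h ≫ c' G u) ≫ t' G u = α ≫ t' G u := by
  rw [Category.assoc, c', mk_t, pullback.lift_fst_assoc]

theorem lift_c'_s (α β : T ⟶ R' G u) (h : α ≫ s' G u = β ≫ t' G u) :
    (pullback.lift α β h ≫ c' G u) ≫ s' G u = β ≫ s' G u := by
  rw [Category.assoc, c', mk_s, pullback.lift_snd_assoc]

variable (G u)

/-- The identity. -/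
def e' : U' ⟶ R' G u :=
  mk (u ≫ G.e) (𝟙 _) (𝟙 _) (by simp [G.e_t]) (by simp [G.e_s])

/-- The inverse. -/
def i' : R' G u ⟶ R' G u :=
  mk (arrow G u ≫ G.i) (s' G u) (t' G u) (by rw [Category.assoc, G.i_t, arrow_s])
    (by rw [Category.assoc, G.i_s, arrow_t])

/-- The pullback of `G` along `u`. -/
@[reducible] def grpd : Grpd.GroupoidScheme S where
  U := U'
  R := R' G u
  pU := u ≫ G.pU
  pR := arrow G u ≫ G.pR
  s := s' G u
  t := t' G u
  e := e' G u
  i := i' G u
  c := c' G u
  s_over := by rw [← Category.assoc, ← arrow_s, Category.assoc, G.s_over]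
  t_over := by rw [← Category.assoc, ← arrow_t, Category.assoc, G.t_over]
  comp_s α β h := lift_c'_s α β h
  comp_t α β h := lift_c'_t α β h
  assoc α β γ h₁ h₂ := by
    refine ext ?_ (by simp only [lift_c'_t]) (by simp only [lift_c'_s])
    refine (lift_c'_arrow _ _ _).trans (Eq.trans ?_ (lift_c'_arrow _ _ _).symm)
    refine (comp_congr G _ (lift_c'_arrow α β h₁) rfl).trans (Eq.trans ?_
      (comp_congr G _ rfl (lift_c'_arrow β γ h₂)).symm)
    exact comp_assoc G _ _ _ _ _
  e_s := mk_s _ _ _ _ _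
  e_t := mk_t _ _ _ _ _
  comp_e α := by
    refine ext ?_ (lift_c'_t _ _ _) ?_
    · rw [lift_c'_arrow, comp_congr G _ rfl (show (α ≫ s' G u ≫ e' G u) ≫ arrow G u =
        (α ≫ s' G u ≫ u) ≫ G.e by simp only [Category.assoc, e', mk_arrow])]
      exact comp_unit G _ (by rw [Category.assoc, arrow_s])
    · rw [lift_c'_s]; simp only [Category.assoc, e', mk_s, Category.comp_id]
  e_comp α := by
    refine ext ?_ ?_ (lift_c'_s _ _ _)
    · rw [lift_c'_arrow, comp_congr G _ (show (α ≫ t' G u ≫ e' G u) ≫ arrow G u =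
        (α ≫ t' G u ≫ u) ≫ G.e by simp only [Category.assoc, e', mk_arrow]) rfl]
      exact unit_comp G _ (by rw [Category.assoc, arrow_t])
    · rw [lift_c'_t]; simp only [Category.assoc, e', mk_t, Category.comp_id]
  i_s := mk_s _ _ _ _ _
  i_t := mk_t _ _ _ _ _
  comp_i α := by
    refine ext ?_ ?_ ?_
    · rw [lift_c'_arrow, comp_congr G _ rfl (show (α ≫ i' G u) ≫ arrow G u = (α ≫ arrow G u) ≫ G.i by
        simp only [Category.assoc, i', mk_arrow]), comp_inv]
      simp only [Category.assoc, e', mk_arrow, ← reassoc_of% arrow_t G u]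
    · rw [lift_c'_t]; simp only [Category.assoc, e', mk_t, Category.comp_id]
    · rw [lift_c'_s]; simp only [Category.assoc, i', e', mk_s, Category.comp_id]
  i_comp α := by
    refine ext ?_ ?_ ?_
    · rw [lift_c'_arrow, comp_congr G _ (show (α ≫ i' G u) ≫ arrow G u = (α ≫ arrow G u) ≫ G.i by
        simp only [Category.assoc, i', mk_arrow]) rfl, inv_comp]
      simp only [Category.assoc, e', mk_arrow, ← reassoc_of% arrow_s G u]
    · rw [lift_c'_t]; simp only [Category.assoc, i', e', mk_t, Category.comp_id]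
    · rw [lift_c'_s]; simp only [Category.assoc, e', mk_s, Category.comp_id]

end Groth.GrpdPullback
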