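import Mathlib
import Groth.Prelude.Def_Grpd
import Groth.Agent.GitQuot.GrpdBasic
import Groth.Agent.DescentBase.ClosureRange
import Groth.Agent.FlatMor2.IndQuasiAffine

/-!
# Saturations of quasi-compact opens
-/

set_option autoImplicit false

universe u

open AlgebraicGeometry CategoryTheory CategoryTheory.Limits

namespace Groth.GrpdBasic

variable {S : Scheme.{u}} (G : Grpd.GroupoidScheme S) [QuasiCompact G.s] [Flat G.t]

/-- The saturation of an open. -/
abbrev sat (W : Set G.U) : Set G.U := ⇑G.t '' (⇑G.s ⁻¹' W)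

omit [QuasiCompact G.s] [Flat G.t] in
theorem isCompact_sat [QuasiCompact G.s] {W : G.U.Opens} (hW : IsCompact (W : Set G.U)) :
    IsCompact (sat G W) :=
  (G.s.isCompact_preimage hW).image G.t.continuous

omit [QuasiCompact G.s] in
theorem stableUnderGeneralization_sat (W : G.U.Opens) : StableUnderGeneralization (sat G W) := by
  rintro x y hyx ⟨r, hr, rfl⟩
  obtain ⟨r', hr', rfl⟩ := Flat.generalizingMap G.t hyx
  exact ⟨r', (W.2.preimage G.s.continuous).stableUnderGeneralization hr' hr, rfl⟩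

theorem exists_eq_iInter (W : G.U.Opens) (hW : IsCompact (W : Set G.U)) :
    ∃ (ι : Type u) (_ : Nonempty ι) (V : ι → G.U.Opens), (∀ i, IsCompact (V i : Set G.U)) ∧
      sat G W = ⋂ i, (V i : Set G.U) := by
  have hc := isCompact_sat G hW
  obtain ⟨W₀, -, h0, h0c⟩ := Groth.FlatMor2.exists_isCompact_open_between hc (W := ⊤) (by simp)
  refine ⟨{V : G.U.Opens // IsCompact (V : Set G.U) ∧ sat G W ⊆ V}, ⟨⟨W₀, h0c, h0⟩⟩, Subtype.val,
    fun V => V.2.1, ?_⟩
  refine subset_antisymm (Set.subset_iInter fun V => V.2.2) fun y hy => ?_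
  by_contra hn
  have hcl : ∀ x ∈ sat G W, x ∈ (⟨(closure {y})ᶜ, isClosed_closure.isOpen_compl⟩ : G.U.Opens) := by
    intro x hx hxy
    exact hn (stableUnderGeneralization_sat G W (specializes_iff_mem_closure.2 hxy) hx)
  obtain ⟨V, hVle, hV, hVc⟩ := Groth.FlatMor2.exists_isCompact_open_between hc hcl
  exact hVle ((Set.mem_iInter.1 hy) ⟨V, hVc, hV⟩) (subset_closure rfl)

theorem exists_invariant_between [Flat G.s] [QuasiCompact G.t] (W : G.U.Opens) (hW : IsCompact (W : Set G.U)) :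
    ∃ V W' : G.U.Opens, G.s ⁻¹ᵁ V = G.t ⁻¹ᵁ V ∧ IsCompact (W' : Set G.U) ∧ W ≤ V ∧ V ≤ W' := by
  have hE := orbit_equivalence G
  obtain ⟨W', -, hW', hW'c⟩ :=
    Groth.FlatMor2.exists_isCompact_open_between (isCompact_sat G hW) (W := ⊤) (by simp)
  -- the bad set
  let C : TopologicalSpace.Closeds G.R := ⟨⇑G.s ⁻¹' (W' : Set G.U)ᶜ, W'.2.isClosed_compl.preimage G.s.continuous⟩
  let I := Scheme.IdealSheafData.vanishingIdeal C
  let g : I.subscheme ⟶ G.U := I.subschemeι ≫ G.t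
  have hg : Set.range g = sat G (W' : Set G.U)ᶜ := by
    rw [show ⇑g = ⇑G.t ∘ ⇑I.subschemeι from funext fun x => Scheme.Hom.comp_apply _ _ x, Set.range_comp,
      Scheme.IdealSheafData.range_subschemeι, Scheme.IdealSheafData.coe_support_vanishingIdeal]
    rfl
  have hinv : ⇑G.s ⁻¹' closure (Set.range g) = ⇑G.t ⁻¹' closure (Set.range g) := by
    rw [Groth.DescentBase.preimage_closure_range G.s (Flat.generalizingMap G.s) g,
      Groth.DescentBase.preimage_closure_range G.t (Flat.generalizingMap G.t) g, hg,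
      preimage_saturation G]
  refine ⟨⟨(closure (Set.range g))ᶜ, isClosed_closure.isOpen_compl⟩, W', ?_, hW'c, ?_, ?_⟩
  · ext r
    exact (Set.ext_iff.1 hinv r).not
  · intro x hx hxcl
    obtain ⟨y, hy⟩ := Groth.DescentBase.exists_specializes_of_mem_closure_range g hxcl
    have hxs : x ∈ sat G W := by
      obtain ⟨r, hr1, hr2⟩ := hE.refl x
      exact ⟨r, show G.s r ∈ W from hr2 ▸ hx, hr1⟩
    obtain ⟨r', hr', hrt⟩ := stableUnderGeneralization_sat G W hy hxs
    obtain ⟨r, hr, hry⟩ := hg.subset ⟨y, rfl⟩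
    obtain ⟨r'', h1, h2⟩ := hE.trans (hE.symm ⟨r, hry, rfl⟩) ⟨r', hrt, rfl⟩
    exact hr (hW' ⟨r'', show G.s r'' ∈ W from h2.symm ▸ hr', h1⟩)
  · intro x hx
    by_contra hn
    obtain ⟨r, hr1, hr2⟩ := hE.refl x
    exact hx (subset_closure (hg.symm.subset ⟨r, show G.s r ∈ (W' : Set G.U)ᶜ from hr2.symm ▸ hn, hr1⟩))

end Groth.GrpdBasic
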