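import Mathlib
import Groth.Agent.GitQuot.GrpdShear

/-! Separation of `j` of a groupoid scheme in terms of the unit section of the stabilizer. -/

set_option autoImplicit false

universe u

open AlgebraicGeometry CategoryTheory CategoryTheory.Limits

noncomputable section

namespace Groth.GrpdBasic

variable {S : Scheme.{u}} (G : Grpd.GroupoidScheme S)

theorem eStab_stabilizerToU : G.eStab ≫ G.stabilizerToU = 𝟙 G.U :=
  pullback.lift_snd _ _ _

theorem j_cond_t : pullback.fst G.j G.j ≫ G.t = pullback.snd G.j G.j ≫ G.t := by
  have e : G.j ≫ pullback.fst G.pU G.pU = G.t := pullback.lift_fst _ _ _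
  rw [← e, pullback.condition_assoc]

theorem j_cond_s : pullback.fst G.j G.j ≫ G.s = pullback.snd G.j G.j ≫ G.s := by
  have e : G.j ≫ pullback.snd G.pU G.pU = G.s := pullback.lift_snd _ _ _
  rw [← e, pullback.condition_assoc]

/-- The unit section, with its target spelled as a pullback. -/
abbrev unitStab : G.U ⟶ pullback G.j G.diag := G.eStab

theorem unitStab_fst : unitStab G ≫ pullback.fst G.j G.diag = G.e := pullback.lift_fst _ _ _

theorem unitStab_snd : unitStab G ≫ pullback.snd G.j G.diag = 𝟙 G.U := pullback.lift_snd _ _ _

/-- `(a, b) ↦ a⁻¹ ∘ b`, from pairs of parallel arrows to the stabilizer. -/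
def divStab : pullback G.j G.j ⟶ pullback G.j G.diag :=
  pullback.lift
    (comp G (pullback.fst G.j G.j ≫ G.i) (pullback.snd G.j G.j) (by
      rw [Category.assoc, G.i_s]
      exact j_cond_t G))
    (pullback.snd G.j G.j ≫ G.s) (by
      have h2 := j_cond_s G
      have ej : G.j ≫ pullback.fst G.pU G.pU = G.t := pullback.lift_fst _ _ _
      have ej' : G.j ≫ pullback.snd G.pU G.pU = G.s := pullback.lift_snd _ _ _
      have ed : G.diag ≫ pullback.fst G.pU G.pU = 𝟙 G.U := pullback.lift_fst _ _ _
      have ed' : G.diag ≫ pullback.snd G.pU G.pU = 𝟙 G.U := pullback.lift_snd _ _ _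
      apply pullback.hom_ext
      · simp only [Category.assoc, ej, ed, comp_t, Category.comp_id, G.i_t, h2]
      · simp only [Category.assoc, ej', ed', comp_s, Category.comp_id])

theorem divStab_fst : divStab G ≫ pullback.fst G.j G.diag =
    comp G (pullback.fst G.j G.j ≫ G.i) (pullback.snd G.j G.j)
      (by rw [Category.assoc, G.i_s]; exact j_cond_t G) := pullback.lift_fst _ _ _

theorem divStab_snd : divStab G ≫ pullback.snd G.j G.diag = pullback.snd G.j G.j ≫ G.s :=
  pullback.lift_snd _ _ _

theorem isPullback_diagonal_j :
    IsPullback (pullback.diagonal G.j) G.s (divStab G) (unitStab G) := by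
  have hw : pullback.diagonal G.j ≫ divStab G = G.s ≫ unitStab G := by
    apply pullback.hom_ext
    · rw [Category.assoc, Category.assoc, divStab_fst, unitStab_fst, precomp_comp,
        comp_congr G _ (pullback.diagonal_fst_assoc _ _) (pullback.diagonal_snd _)]
      have := inv_comp G (𝟙 G.R)
      simp only [Category.id_comp] at this
      exact this
    · rw [Category.assoc, Category.assoc, divStab_snd, unitStab_snd,
        pullback.diagonal_snd_assoc, Category.comp_id]
  refine IsPullback.of_isLimit (PullbackCone.IsLimit.mk hw
    (fun c => c.fst ≫ pullback.snd _ _) (fun c => ?_) (fun c => ?_) (fun c m hm _ => ?_))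
  · have h := c.condition =≫ pullback.fst G.j G.diag
    rw [Category.assoc, Category.assoc, divStab_fst, unitStab_fst, precomp_comp] at h
    have hu := c.condition =≫ pullback.snd G.j G.diag
    rw [Category.assoc, Category.assoc, divStab_snd, unitStab_snd,
      Category.comp_id] at hu
    have key := comp_inv_comp_cancel G (c.fst ≫ pullback.fst _ _) (c.fst ≫ pullback.snd _ _) (by
      simp only [Category.assoc, G.i_s, j_cond_t G])
    have hunit := comp_unit G (c.fst ≫ pullback.fst _ _) (u := c.snd) (by
      rw [Category.assoc, j_cond_s G, hu])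
    have heq : c.fst ≫ pullback.fst G.j G.j = c.fst ≫ pullback.snd G.j G.j := by
      refine (hunit.symm.trans ?_).trans key
      exact comp_congr G _ rfl (h.symm.trans (comp_congr G _ (Category.assoc _ _ _).symm rfl))
    apply pullback.hom_ext
    · rw [Category.assoc, pullback.diagonal_fst, Category.comp_id, heq]
    · rw [Category.assoc, pullback.diagonal_snd, Category.comp_id]
  · have hu := c.condition =≫ pullback.snd G.j G.diag
    rw [Category.assoc, Category.assoc, divStab_snd, unitStab_snd,
      Category.comp_id] at hu
    rw [Category.assoc, hu]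
  · rw [← hm, Category.assoc, pullback.diagonal_snd, Category.comp_id]

theorem isSeparated_j_iff : IsSeparated G.j ↔ IsClosedImmersion G.eStab := by
  constructor
  · intro h
    have : IsSeparated G.stabilizerToU := MorphismProperty.pullback_snd _ _ h
    have : IsClosedImmersion (G.eStab ≫ G.stabilizerToU) := by
      rw [eStab_stabilizerToU]; infer_instance
    exact IsClosedImmersion.of_comp G.eStab G.stabilizerToU
  · intro h
    exact ⟨MorphismProperty.of_isPullback (P := @IsClosedImmersion) (isPullback_diagonal_j G).flip h⟩

theorem quasiSeparated_j_iff : QuasiSeparated G.j ↔ QuasiCompact G.eStab := by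
  constructor
  · intro h
    have : QuasiSeparated G.stabilizerToU := MorphismProperty.pullback_snd _ _ h
    have : QuasiCompact (G.eStab ≫ G.stabilizerToU) := by
      rw [eStab_stabilizerToU]; infer_instance
    exact QuasiCompact.of_comp G.eStab G.stabilizerToU
  · intro h
    exact ⟨MorphismProperty.of_isPullback (P := @QuasiCompact) (isPullback_diagonal_j G).flip h⟩

end Groth.GrpdBasic
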