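import Groth.Agent.GitQuot.Reynolds

/-!
# Finiteness of invariants and invariant ideals
-/

set_option autoImplicit false

universe u v

open TensorProduct
open Groth

noncomputable section

namespace Groth.GitQuot

variable {k : Type u} [Field k] {A : Type v} [CommRing A] [Bialgebra k A]
  {R : Type v} [CommRing R] [Algebra k R] [HopfRep.Comod k A R]

theorem exists_finset_adjoin_eq_top_isSubcomod [Algebra.FiniteType k R] :
    ∃ s : Finset R, Algebra.adjoin k (s : Set R) = ⊤ ∧
      HopfRep.IsSubcomod (k := k) (A := A) (Submodule.span k (s : Set R)) := by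
  obtain ⟨g, hg⟩ := (Algebra.FiniteType.out : (⊤ : Subalgebra k R).FG)
  obtain ⟨U, hfin, hgU, hU⟩ :=
    ComodLib.exists_finite_subcomod_span (k := k) (A := A) (s := (g : Set R)) g.finite_toSet
  obtain ⟨s, hs⟩ := Module.Finite.iff_fg.1 hfin
  refine ⟨s, top_le_iff.1 (hg ▸ Algebra.adjoin_le ?_), hs.symm ▸ hU⟩
  intro x hx
  exact Algebra.span_le_adjoin k (s : Set R) (hs.symm ▸ hgU hx)

theorem exists_finset_invariants_adjoin [Algebra.FiniteType k R]
    (hG : HopfRep.IsLinearlyReductive k A)
    (hmul : ∀ f g : R, HopfRep.Comod.coact (k := k) (A := A) (f * g) =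
      HopfRep.Comod.coact (k := k) (A := A) f * HopfRep.Comod.coact (k := k) (A := A) g)
    (hone : HopfRep.Comod.coact (k := k) (A := A) (1 : R) = 1) :
    ∃ s : Finset R, (∀ f ∈ s, f ∈ HopfRep.fixedPts k A R) ∧
      ∀ f ∈ HopfRep.fixedPts k A R, f ∈ Algebra.adjoin k (s : Set R) := by
  classical
  obtain ⟨E, hE⟩ := exists_reynolds (V := R) hG
  obtain ⟨g, hgtop⟩ := (Algebra.FiniteType.out : (⊤ : Subalgebra k R).FG)
  obtain ⟨V, hfin, hgV, hV⟩ := ComodLib.exists_finite_subcomod_span (k := k) (A := A)
    (s := insert 1 (g : Set R)) (g.finite_toSet.insert 1)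
  have h1V : (1 : R) ∈ V := hgV (Set.mem_insert _ _)
  obtain ⟨vs, hvs⟩ := Module.Finite.iff_fg.1 hfin
  let T : Finset (Polynomial R) := vs.image fun v => Polynomial.C v * Polynomial.X
  let S : Subalgebra k (Polynomial R) := Algebra.adjoin k (T : Set (Polynomial R))
  have hnoeth : IsNoetherianRing S := by
    have : Algebra.FiniteType k S := (Subalgebra.fg_iff_finiteType _).1 (Subalgebra.fg_adjoin_finset T)
    exact Algebra.FiniteType.isNoetherianRing k S
  have hcoeff : ∀ p ∈ S, ∀ n, Polynomial.coeff p n ∈ V ^ n := by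
    intro p hp
    induction hp using Algebra.adjoin_induction with
    | mem x hx =>
      obtain ⟨v, hv, rfl⟩ := Finset.mem_image.1 hx
      intro n
      rw [Polynomial.coeff_C_mul_X]
      split_ifs with h
      · subst h; rw [pow_one, ← hvs]; exact Submodule.subset_span hv
      · exact zero_mem _
    | algebraMap r =>
      intro n
      rw [Polynomial.algebraMap_apply, Polynomial.coeff_C]
      split_ifs with h
      · subst h; rw [pow_zero]; exact Submodule.mem_one.2 ⟨r, rfl⟩
      · exact zero_mem _
    | add x y _ _ hx hy => intro n; rw [Polynomial.coeff_add]; exact add_mem (hx n) (hy n)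
    | mul x y _ _ hx hy =>
      intro n
      rw [Polynomial.coeff_mul]
      refine sum_mem fun ij hij => ?_
      rw [← Finset.HasAntidiagonal.mem_antidiagonal.1 hij, pow_add]
      exact Submodule.mul_mem_mul (hx _) (hy _)
  have hmono : ∀ n q, q ∈ V ^ n → Polynomial.C q * Polynomial.X ^ n ∈ S := by
    intro n
    induction n with
    | zero =>
      intro q hq
      rw [pow_zero] at hq
      obtain ⟨c, rfl⟩ := Submodule.mem_one.1 hq
      rw [pow_zero, mul_one, ← Polynomial.algebraMap_apply]
      exact S.algebraMap_mem c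
    | succ n ih =>
      intro q hq
      rw [pow_succ] at hq
      refine Submodule.mul_induction_on hq (fun a ha b hb => ?_) fun a b ha hb => ?_
      · have hb' : Polynomial.C b * Polynomial.X ∈ S := by
          rw [← hvs] at hb
          induction hb using Submodule.span_induction with
          | mem x hx => exact Algebra.subset_adjoin (Finset.mem_image_of_mem _ hx)
          | zero => simp
          | add x y _ _ hx hy => rw [map_add, add_mul]; exact add_mem hx hy
          | smul c x _ hx =>
            rw [← Polynomial.smul_C, smul_mul_assoc]; exact S.smul_mem hx c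
        have := mul_mem (ih a ha) hb'
        convert this using 1
        rw [map_mul, pow_succ]; ring
      · rw [map_add, add_mul]; exact add_mem ha hb
  let P : Set R := ⋃ n : ℕ, {q | q ∈ V ^ n ∧ q ∈ HopfRep.fixedPts k A R}
  let gens : Set S := {p | ∃ (n : ℕ) (q : R), 0 < n ∧ q ∈ V ^ n ∧ q ∈ HopfRep.fixedPts k A R ∧
    (p : Polynomial R) = Polynomial.C q * Polynomial.X ^ n}
  obtain ⟨t, ht, hspan⟩ : ∃ t : Finset S, (t : Set S) ⊆ gens ∧ Ideal.span gens = Ideal.span (t : Set S) :=
    (Submodule.fg_span_iff_fg_span_finset_subset _).1 (IsNoetherian.noetherian (Ideal.span gens))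
  choose! deg val hpos hval hinv heq using fun (p : S) (hp : p ∈ gens) => hp
  refine ⟨t.image val, ?_, ?_⟩
  · intro f hf
    obtain ⟨p, hp, rfl⟩ := Finset.mem_image.1 hf
    exact hinv p (ht hp)
  have key : ∀ n q, q ∈ V ^ n → q ∈ HopfRep.fixedPts k A R →
      q ∈ Algebra.adjoin k ((t.image val : Finset R) : Set R) := by
    intro n
    induction n using Nat.strong_induction_on with
    | _ n ih =>
      intro q hq hqfix
      rcases Nat.eq_zero_or_pos n with rfl | hn
      · rw [pow_zero] at hq
        obtain ⟨c, rfl⟩ := Submodule.mem_one.1 hq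
        exact Subalgebra.algebraMap_mem _ c
      have hmem : (⟨_, hmono n q hq⟩ : S) ∈ Ideal.span (t : Set S) :=
        hspan ▸ Ideal.subset_span ⟨n, q, hn, hq, hqfix, rfl⟩
      obtain ⟨c, -, hc⟩ := Submodule.mem_span_finset.1 hmem
      have hc' := congrArg (fun p : S => Polynomial.coeff (p : Polynomial R) n) hc
      simp only [Polynomial.coeff_C_mul, Polynomial.coeff_X_pow, if_pos, mul_one,
        AddSubmonoidClass.coe_finsetSum, Polynomial.finsetSum_coeff, smul_eq_mul, MulMemClass.coe_mul] at hc'
      let r : S → R := fun p => if deg p ≤ n then Polynomial.coeff (c p : Polynomial R) (n - deg p) else 0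
      have hr : ∑ p ∈ t, r p * val p = q := by
        refine (Finset.sum_congr rfl fun p hp => ?_).trans hc'
        rw [heq p (ht hp), ← mul_assoc, Polynomial.coeff_mul_X_pow', ← apply_ite (f := fun z => z)]
        simp only [r]
        split_ifs with h
        · rw [Polynomial.coeff_mul_C]
        · rw [zero_mul]
      have h2 := hE.eq_sum hmul hG t r val (fun p hp => hinv p (ht hp)) (hr.symm ▸ hqfix)
      rw [hr] at h2
      rw [h2]
      refine Subalgebra.sum_mem _ fun p hp => Subalgebra.mul_mem _ ?_
        (Algebra.subset_adjoin (Finset.mem_image_of_mem _ hp))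
      simp only [r]
      split_ifs with h
      · exact ih (n - deg p) (by have := hpos p (ht hp); omega) _
          (hE.apply_mem_of_mem hG (isSubcomod_one_pow hmul hone hV _) (hcoeff _ (c p).2 _))
          (hE.apply_mem _)
      · rw [map_zero]; exact Subalgebra.zero_mem _
  intro f hf
  have hpow : Monotone fun n => V ^ n := by
    refine monotone_nat_of_le_succ fun n x hx => ?_
    simpa [pow_succ] using Submodule.mul_mem_mul hx h1V
  have hex : ∀ f : R, ∃ n, f ∈ V ^ n := by
    intro f
    have : f ∈ Algebra.adjoin k (g : Set R) := hgtop ▸ Algebra.mem_top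
    induction this using Algebra.adjoin_induction with
    | mem x hx => exact ⟨1, by rw [pow_one]; exact hgV (Set.mem_insert_of_mem _ hx)⟩
    | algebraMap r => exact ⟨0, by rw [pow_zero]; exact Submodule.mem_one.2 ⟨r, rfl⟩⟩
    | add x y _ _ hx hy =>
      obtain ⟨a, ha⟩ := hx
      obtain ⟨b, hb⟩ := hy
      exact ⟨max a b, add_mem (hpow (le_max_left a b) ha) (hpow (le_max_right a b) hb)⟩
    | mul x y _ _ hx hy =>
      obtain ⟨a, ha⟩ := hx
      obtain ⟨b, hb⟩ := hy
      exact ⟨a + b, by rw [pow_add]; exact Submodule.mul_mem_mul ha hb⟩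
  obtain ⟨n, hn⟩ := hex f
  exact key n f hn hf

theorem iSup_inf_fixedPts (hG : HopfRep.IsLinearlyReductive k A) {ι : Sort*} (U : ι → Submodule k R)
    (hU : ∀ i, HopfRep.IsSubcomod (k := k) (A := A) (U i)) :
    (⨆ i, U i) ⊓ HopfRep.fixedPts k A R = ⨆ i, (U i ⊓ HopfRep.fixedPts k A R) := by
  obtain ⟨E, hE⟩ := exists_reynolds (V := R) hG
  refine le_antisymm (fun x hx => ?_) (iSup_le fun i => inf_le_inf_right _ (le_iSup U i))
  obtain ⟨hxU, hxF⟩ := hx
  rw [← (hE.fixed x).2 hxF]
  have : (⨆ i, U i).map E ≤ ⨆ i, (U i ⊓ HopfRep.fixedPts k A R) := by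
    rw [Submodule.map_iSup]
    refine iSup_mono fun i => ?_
    rintro _ ⟨y, hy, rfl⟩
    exact ⟨hE.apply_mem_of_mem hG (hU i) hy, hE.apply_mem y⟩
  exact this (Submodule.mem_map_of_mem hxU)

theorem map_comap_invariants [GLin.IsCoactAlg k A R] (hG : HopfRep.IsLinearlyReductive k A)
    (I : Ideal (GLin.invariants k A R)) :
    Ideal.comap (GLin.invariants k A R).val.toRingHom
      (Ideal.map (GLin.invariants k A R).val.toRingHom I) = I := by
  obtain ⟨E, hE⟩ := exists_reynolds (V := R) hG
  let S := GLin.invariants k A R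
  refine le_antisymm (fun x hx => ?_) Ideal.le_comap_map
  let P : R → S := fun r => ⟨E r, hE.apply_mem r⟩
  have hP : P (x : R) = x := Subtype.ext ((hE.fixed _).2 x.2)
  rw [← hP]
  suffices ∀ z ∈ I.map S.val.toRingHom, ∀ r : R, P (r * z) ∈ I by simpa using this _ hx 1
  intro z hz
  induction hz using Submodule.span_induction with
  | mem w hw =>
    intro r
    obtain ⟨i, hi, rfl⟩ := hw
    have he : P (r * S.val.toRingHom i) = P r * i :=
      Subtype.ext (hE.map_mul GLin.IsCoactAlg.coact_mul hG r i.2)
    rw [he]; exact I.mul_mem_left _ hi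
  | zero =>
    intro r
    have he : P (r * 0) = 0 := Subtype.ext (by simp [P])
    rw [he]; exact zero_mem _
  | add u w _ _ hu hw =>
    intro r
    have he : P (r * (u + w)) = P (r * u) + P (r * w) := Subtype.ext (by simp [P, mul_add, map_add])
    rw [he]; exact add_mem (hu r) (hw r)
  | smul c u _ hu => intro r; rw [smul_eq_mul, ← mul_assoc]; exact hu _

end Groth.GitQuot
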