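import Mathlib

/-! Rationality of the maximizer of a piecewise linear function divided by a norm. -/

set_option autoImplicit false

universe u

open Module Filter Topology

namespace Groth.LatticeMax

variable {E : Type u} [NormedAddCommGroup E] [InnerProductSpace ℝ E] [FiniteDimensional ℝ E]

/-- A `ℚ`-linear retraction `ℝ → ℚ`. -/
theorem exists_retraction : ∃ π : ℝ →ₗ[ℚ] ℚ, ∀ q : ℚ, π (q : ℝ) = q := by
  obtain ⟨π, hπ⟩ := (Algebra.linearMap ℚ ℝ).exists_leftInverse_of_injective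
    (LinearMap.ker_eq_bot.mpr (algebraMap ℚ ℝ).injective)
  exact ⟨π, fun q => LinearMap.congr_fun hπ q⟩

theorem exists_int_smul {ι : Type*} [Fintype ι] (q : ι → ℚ) :
    ∃ N : ℕ, 0 < N ∧ ∀ i, ∃ m : ℤ, (m : ℚ) = N * q i := by
  classical
  refine ⟨∏ i, (q i).den, Finset.prod_pos fun i _ => (q i).pos, fun i => ?_⟩
  refine ⟨(∏ j ∈ Finset.univ.erase i, ((q j).den : ℤ)) * (q i).num, ?_⟩
  rw [← Finset.prod_erase_mul _ _ (Finset.mem_univ i)]
  push_cast
  rw [mul_assoc, Rat.den_mul_eq_num]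

theorem exists_max (L : Submodule ℤ E) [DiscreteTopology L] [IsZLattice ℝ L]
    (hint : ∀ x ∈ L, ∀ y ∈ L, ∃ n : ℤ, inner ℝ x y = (n : ℝ))
    (F G : Finset (Module.Dual ℝ E)) (hF : F.Nonempty) (hG : G.Nonempty)
    (hFi : ∀ f ∈ F, ∀ x ∈ L, ∃ n : ℤ, f x = (n : ℝ)) (hGi : ∀ g ∈ G, ∀ x ∈ L, ∃ n : ℤ, g x = (n : ℝ))
    (hpos : ∃ v : E, 0 ≤ F.inf' hF (fun f => f v) ∧ 0 < G.inf' hG (fun g => g v)) :
    ∃ M : ℝ, IsGreatest ((fun v => G.inf' hG (fun g => g v) / ‖v‖) ''
        {v : E | v ≠ 0 ∧ 0 ≤ F.inf' hF (fun f => f v)}) M ∧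
      ∃! v₀ : E, v₀ ∈ L ∧ v₀ ≠ 0 ∧ 0 ≤ F.inf' hF (fun f => f v₀) ∧
        G.inf' hG (fun g => g v₀) / ‖v₀‖ = M ∧
        ∀ v ∈ L, v ≠ 0 → 0 ≤ F.inf' hF (fun f => f v) → G.inf' hG (fun g => g v) / ‖v‖ = M →
          ∃ n : ℤ, v = n • v₀ := by
  classical
  let gm : E → ℝ := fun v => G.inf' hG (fun g => g v)
  let K : Set E := {v | (∀ f ∈ F, 0 ≤ f v) ∧ ∀ g ∈ G, 1 ≤ g v}
  have hgm : ∀ (t : ℝ) (v : E), 0 ≤ t → gm (t • v) = t * gm v := by
    intro t v ht
    simp only [gm, map_smul, smul_eq_mul]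
    exact (Finset.apply_inf'_eq_inf'_comp hG (t * ·) (fun x y => mul_min_of_nonneg x y ht)).symm
  have hfm : ∀ (t : ℝ) (v : E), 0 ≤ t → 0 ≤ F.inf' hF (fun f => f v) → 0 ≤ F.inf' hF (fun f => f (t • v)) := by
    intro t v ht hv
    refine (Finset.le_inf'_iff hF _).mpr fun f hf => ?_
    rw [map_smul, smul_eq_mul]
    exact mul_nonneg ht ((Finset.le_inf'_iff hF _).mp hv f hf)
  have hscale : ∀ v : E, 0 ≤ F.inf' hF (fun f => f v) → 0 < gm v → (gm v)⁻¹ • v ∈ K := by
    intro v hv hg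
    refine ⟨(Finset.le_inf'_iff hF _).mp (hfm _ v (inv_nonneg.mpr hg.le) hv), fun g hgG => ?_⟩
    rw [map_smul, smul_eq_mul, le_inv_mul_iff₀ hg, mul_one]
    exact Finset.inf'_le _ hgG
  have hKne : K.Nonempty := by
    obtain ⟨v, hv, hg⟩ := hpos
    exact ⟨_, hscale v hv hg⟩
  have hKclosed : IsClosed K := by
    have hK : K = (⋂ f ∈ F, (fun v => f v) ⁻¹' Set.Ici 0) ∩ ⋂ g ∈ G, (fun v => g v) ⁻¹' Set.Ici 1 := by
      ext v; simp [K]
    rw [hK]
    exact (isClosed_biInter fun f _ => isClosed_Ici.preimage f.continuous_of_finiteDimensional).inter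
      (isClosed_biInter fun g _ => isClosed_Ici.preimage g.continuous_of_finiteDimensional)
  obtain ⟨p, hpK, hp⟩ := hKclosed.exists_infDist_eq_dist hKne 0
  have hmin : ∀ v ∈ K, ‖p‖ ≤ ‖v‖ := fun v hv => by
    have := Metric.infDist_le_dist_of_mem hv (x := (0 : E))
    rwa [hp, dist_zero_left, dist_zero_left] at this
  have hp0 : p ≠ 0 := fun h => by
    obtain ⟨g, hg⟩ := hG
    have := hpK.2 g hg
    rw [h, map_zero] at this
    linarith
  have hpn : 0 < ‖p‖ := norm_pos_iff.mpr hp0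
  have hgp : gm p = 1 := by
    have h1 : 1 ≤ gm p := (Finset.le_inf'_iff hG _).mpr fun g hg => hpK.2 g hg
    refine le_antisymm ?_ h1
    have := hmin _ (hscale p ((Finset.le_inf'_iff hF _).mpr hpK.1) (by linarith))
    rw [norm_smul, norm_inv, Real.norm_of_nonneg (by linarith : (0:ℝ) ≤ gm p), le_inv_mul_iff₀ (by linarith)] at this
    nlinarith
  have huniq : ∀ v ∈ K, ‖v‖ = ‖p‖ → v = p := by
    intro v hv hn
    have hmid : (2⁻¹ : ℝ) • (p + v) ∈ K := by
      refine ⟨fun f hf => ?_, fun g hg => ?_⟩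
      · rw [map_smul, map_add, smul_eq_mul]; linarith [hpK.1 f hf, hv.1 f hf]
      · rw [map_smul, map_add, smul_eq_mul]; linarith [hpK.2 g hg, hv.2 g hg]
    have h := hmin _ hmid
    rw [norm_smul, Real.norm_of_nonneg (by norm_num : (0:ℝ) ≤ 2⁻¹)] at h
    have hpar := parallelogram_law_with_norm ℝ p v
    rw [hn] at hpar
    have : ‖p - v‖ = 0 := by nlinarith [norm_nonneg (p - v)]
    exact (sub_eq_zero.mp (norm_eq_zero.mp this)).symm
  let M := ‖p‖⁻¹
  have hM : 0 < M := inv_pos.mpr hpn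
  have hle : ∀ v : E, v ≠ 0 → 0 ≤ F.inf' hF (fun f => f v) → gm v / ‖v‖ ≤ M ∧
      (gm v / ‖v‖ = M → v = gm v • p ∧ 0 < gm v) := by
    intro v hv hf
    have hvn : 0 < ‖v‖ := norm_pos_iff.mpr hv
    rcases le_or_gt (gm v) 0 with h | h
    · have : gm v / ‖v‖ ≤ 0 := div_nonpos_of_nonpos_of_nonneg h hvn.le
      exact ⟨this.trans hM.le, fun e => absurd (e ▸ this) (not_le.mpr hM)⟩
    · have hm := hmin _ (hscale v hf h)
      rw [norm_smul, norm_inv, Real.norm_of_nonneg h.le] at hm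
      refine ⟨?_, fun e => ⟨?_, h⟩⟩
      · rw [div_le_iff₀ hvn]
        calc gm v = gm v * ‖p‖ * M := by simp [M, hpn.ne']
          _ ≤ ‖v‖ * M := by
            refine mul_le_mul_of_nonneg_right ?_ hM.le
            rwa [le_inv_mul_iff₀ h] at hm
          _ = M * ‖v‖ := mul_comm _ _
      · have : ‖(gm v)⁻¹ • v‖ = ‖p‖ := by
          rw [norm_smul, norm_inv, Real.norm_of_nonneg h.le]
          simp only [M] at e
          field_simp at e ⊢
          linarith
        rw [← huniq _ (hscale v hf h) this, smul_inv_smul₀ h.ne']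
  -- rationality of `p`
  have : Module.Free ℤ L := ZLattice.module_free ℝ L
  have : Module.Finite ℤ L := ZLattice.module_finite ℝ L
  let bL := Module.Free.chooseBasis ℤ L
  let b := bL.ofZLatticeBasis ℝ L
  have hbL : ∀ i, b i ∈ L := fun i => by rw [Basis.ofZLatticeBasis_apply]; exact (bL i).2
  obtain ⟨π, hπ⟩ := exists_retraction
  let P : E → E := fun x => ∑ i, ((π (b.repr x i) : ℚ) : ℝ) • b i
  have hPfun : ∀ (φ : Module.Dual ℝ E), (∀ i, ∃ n : ℤ, φ (b i) = n) → ∀ x, φ (P x) = π (φ x) := by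
    intro φ hφ x
    choose n hn using hφ
    have hx : φ x = ∑ i, b.repr x i * n i := by
      have h := congrArg φ (b.sum_repr x)
      simp only [map_sum, map_smul, hn, smul_eq_mul] at h
      exact h.symm
    rw [hx, map_sum]
    simp only [P, map_sum, map_smul, hn, smul_eq_mul, Rat.cast_sum]
    refine Finset.sum_congr rfl fun i _ => ?_
    rw [show b.repr x i * (n i : ℝ) = (n i : ℚ) • b.repr x i by rw [Rat.smul_def]; push_cast; ring,
      map_smul, smul_eq_mul]
    push_cast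
    ring
  let A : Finset (Module.Dual ℝ E) := F.filter (fun f => f p = 0) ∪ G.filter (fun g => g p = 1)
  have hAint : ∀ φ ∈ A, ∀ i, ∃ n : ℤ, φ (b i) = n := by
    intro φ hφ i
    rcases Finset.mem_union.mp hφ with h | h
    · exact hFi φ (Finset.mem_filter.mp h).1 _ (hbL i)
    · exact hGi φ (Finset.mem_filter.mp h).1 _ (hbL i)
  let rz : Module.Dual ℝ E → E := fun φ => (InnerProductSpace.toDual ℝ E).symm φ.toContinuousLinearMap
  have hrz : ∀ φ x, inner ℝ (rz φ) x = φ x := fun φ x => by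
    simp only [rz, InnerProductSpace.toDual_symm_apply]; rfl

  have hPinner : ∀ i x, inner ℝ (b i) (P x) = ((π (inner ℝ (b i) x) : ℚ) : ℝ) := fun i x =>
    hPfun ((innerSL ℝ (b i)).toLinearMap) (fun l => hint _ (hbL i) _ (hbL l)) x
  have hPA : ∀ φ ∈ A, P (rz φ) = rz φ := by
    intro φ hφ
    refine ext_inner_left ℝ fun w => ?_
    rw [← b.sum_repr w, sum_inner, sum_inner]
    refine Finset.sum_congr rfl fun i _ => ?_
    rw [inner_smul_left, inner_smul_left]
    congr 1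
    obtain ⟨n, hn⟩ := hAint φ hφ i
    rw [hPinner, real_inner_comm, hrz, hn]
    exact congrArg Rat.cast (hπ n) |>.trans (by push_cast; rfl)
  let S : Submodule ℝ E := Submodule.span ℝ (rz '' (A : Set (Module.Dual ℝ E)))
  have hpS : p ∈ S := by
    rw [← Submodule.orthogonal_orthogonal S, Submodule.mem_orthogonal]
    intro w hw
    have hwA : ∀ φ ∈ A, φ w = 0 := fun φ hφ => by
      rw [← hrz]; exact hw _ (Submodule.subset_span ⟨φ, hφ, rfl⟩)
    have hev : ∀ᶠ t in 𝓝 (0 : ℝ), p + t • w ∈ K := by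
      have h1 : ∀ f ∈ F, ∀ᶠ t in 𝓝 (0 : ℝ), 0 ≤ f (p + t • w) := by
        intro f hf
        rcases (hpK.1 f hf).eq_or_lt with h | h
        · refine Eventually.of_forall fun t => ?_
          rw [map_add, map_smul, hwA f (Finset.mem_union_left _ (Finset.mem_filter.mpr ⟨hf, h.symm⟩)), ← h]
          simp
        · have hc : Continuous fun t : ℝ => f (p + t • w) := f.continuous_of_finiteDimensional.comp (by fun_prop)
          exact (hc.tendsto 0).eventually (eventually_ge_nhds (by simpa using h))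
      have h2 : ∀ g ∈ G, ∀ᶠ t in 𝓝 (0 : ℝ), 1 ≤ g (p + t • w) := by
        intro g hg
        rcases (hpK.2 g hg).eq_or_lt with h | h
        · refine Eventually.of_forall fun t => ?_
          rw [map_add, map_smul, hwA g (Finset.mem_union_right _ (Finset.mem_filter.mpr ⟨hg, h.symm⟩)), ← h]
          simp
        · have hc : Continuous fun t : ℝ => g (p + t • w) := g.continuous_of_finiteDimensional.comp (by fun_prop)
          exact (hc.tendsto 0).eventually (eventually_ge_nhds (by simpa using h))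
      exact ((eventually_all_finset F).mpr h1).and ((eventually_all_finset G).mpr h2)
    have hloc : IsLocalMin (fun t : ℝ => ‖p‖ ^ 2 + 2 * t * inner ℝ p w + t ^ 2 * ‖w‖ ^ 2) 0 := by
      filter_upwards [hev] with t ht
      have := hmin _ ht
      have h2 : ‖p + t • w‖ ^ 2 = ‖p‖ ^ 2 + 2 * t * inner ℝ p w + t ^ 2 * ‖w‖ ^ 2 := by
        rw [norm_add_sq_real, inner_smul_right, norm_smul, mul_pow, Real.norm_eq_abs, sq_abs]; ring
      rw [← h2]
      simpa using pow_le_pow_left₀ (norm_nonneg p) this 2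
    have hd : HasDerivAt (fun t : ℝ => ‖p‖ ^ 2 + 2 * t * inner ℝ p w + t ^ 2 * ‖w‖ ^ 2) (2 * inner ℝ p w) 0 := by
      have := (((((hasDerivAt_id (0 : ℝ)).const_mul 2).mul_const (inner ℝ p w)).const_add (‖p‖ ^ 2)).add
        ((hasDerivAt_pow 2 (0 : ℝ)).mul_const (‖w‖ ^ 2)))
      simpa using! this
    have := hloc.hasDerivAt_eq_zero hd
    rw [real_inner_comm]
    linarith
  have hPp : P p = p := by
    have hPS : P p ∈ S := by
      have hadd : ∀ x y, P (x + y) = P x + P y := fun x y => by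
        simp only [P, map_add, Finsupp.coe_add, Pi.add_apply, Rat.cast_add, add_smul, Finset.sum_add_distrib]
      obtain ⟨c, hc⟩ := (Submodule.mem_span_image_finset_iff_exists_fun ℝ).mp hpS
      have hsmul : ∀ (t : ℝ), ∀ φ ∈ A, P (t • rz φ) = ((π t : ℚ) : ℝ) • rz φ := by
        intro t φ hφ
        conv_rhs => rw [← hPA φ hφ]
        simp only [P, Finset.smul_sum, smul_smul]
        refine Finset.sum_congr rfl fun i _ => ?_
        congr 1
        have hq : b.repr (rz φ) i = ((π (b.repr (rz φ) i) : ℚ) : ℝ) := by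
          conv_lhs => rw [← hPA φ hφ]
          simp only [P, map_sum, map_smul, Basis.repr_self, Finsupp.coe_finsetSum, Finset.sum_apply,
            Finsupp.smul_apply, smul_eq_mul]
          rw [Finset.sum_eq_single i] <;> simp (config := { contextual := true }) [Finsupp.single_apply]
        rw [map_smul, Finsupp.smul_apply, smul_eq_mul, hq, mul_comm, ← Rat.smul_def, map_smul, hπ, smul_eq_mul]
        push_cast
        ring
      let Padd : E →+ E := AddMonoidHom.mk' P hadd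
      rw [show P p = Padd p from rfl, ← hc, map_sum]
      refine Submodule.sum_mem _ fun φ _ => ?_
      rw [AddMonoidHom.mk'_apply, hsmul _ _ φ.2]
      exact Submodule.smul_mem _ _ (Submodule.subset_span ⟨φ, φ.2, rfl⟩)
    have horth : ∀ x ∈ S, inner ℝ x (p - P p) = (0 : ℝ) := by
      intro x hx
      induction hx using Submodule.span_induction with
      | mem x hx =>
        obtain ⟨φ, hφ, rfl⟩ := hx
        rw [hrz, map_sub, hPfun φ (hAint φ hφ)]
        rcases Finset.mem_union.mp hφ with h | h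
        · rw [(Finset.mem_filter.mp h).2, map_zero]; simp
        · rw [(Finset.mem_filter.mp h).2]
          rw [show π (1 : ℝ) = 1 by simpa using hπ 1]; simp
      | zero => simp
      | add x y _ _ hx hy => rw [inner_add_left, hx, hy, add_zero]
      | smul a x _ hx => rw [inner_smul_left, hx, mul_zero]
    exact (sub_eq_zero.mp (inner_self_eq_zero.mp (horth _ (S.sub_mem hpS hPS)))).symm
  -- the primitive lattice vector
  obtain ⟨N, hN, hNq⟩ := exists_int_smul fun i => π (b.repr p i)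
  have hNp : (N : ℝ) • p ∈ L := by
    rw [← hPp]
    simp only [P, Finset.smul_sum, smul_smul]
    refine Submodule.sum_mem _ fun i _ => ?_
    obtain ⟨m, hm⟩ := hNq i
    rw [show (N : ℝ) * ((π (b.repr p i) : ℚ) : ℝ) = (m : ℝ) by exact_mod_cast hm.symm, Int.cast_smul_eq_zsmul]
    exact L.smul_mem _ (hbL i)
  obtain ⟨i, hi⟩ : ∃ i, b.repr p i ≠ 0 := by
    by_contra! h
    exact hp0 (b.repr.injective (Finsupp.ext (by simpa using h)))
  have hintL : ∀ x ∈ L, ∃ m : ℤ, b.repr x i = m := fun x hx =>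
    ⟨bL.repr ⟨x, hx⟩ i, Basis.ofZLatticeBasis_repr_apply ℝ L bL ⟨x, hx⟩ i⟩
  let c : ℝ := |b.repr p i|
  have hc : 0 < c := abs_pos.mpr hi
  let H : AddSubgroup ℤ :=
    { carrier := {m | ((m : ℝ) / c) • p ∈ L}
      zero_mem' := by simp
      add_mem' := fun {a b} ha hb => by
        show (((a + b : ℤ) : ℝ) / c) • p ∈ L
        push_cast; rw [add_div, add_smul]; exact L.add_mem ha hb
      neg_mem' := fun {a} ha => by
        show (((-a : ℤ) : ℝ) / c) • p ∈ L
        push_cast; rw [neg_div, neg_smul]; exact L.neg_mem ha }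
  have hH : ∀ t : ℝ, t • p ∈ L → ∃ m ∈ H, t = (m : ℝ) / c := by
    intro t ht
    obtain ⟨m, hm⟩ := hintL _ ht
    rw [map_smul, Finsupp.smul_apply, smul_eq_mul] at hm
    rcases abs_choice (b.repr p i) with h | h
    · exact ⟨m, show ((m : ℝ) / c) • p ∈ L by simp only [c, h, ← hm]; rw [mul_div_cancel_right₀ _ hi]; exact ht,
        by simp only [c, h, ← hm]; rw [mul_div_cancel_right₀ _ hi]⟩
    · refine ⟨-m, show (((-m : ℤ) : ℝ) / c) • p ∈ L by
        simp only [c, h, Int.cast_neg, ← hm, neg_div_neg_eq]; rw [mul_div_cancel_right₀ _ hi]; exact ht, ?_⟩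
      simp only [c, h, Int.cast_neg, ← hm, neg_div_neg_eq]
      rw [mul_div_cancel_right₀ _ hi]
  obtain ⟨a, ha⟩ := Int.subgroup_cyclic H
  rw [← AddSubgroup.zmultiples_eq_closure] at ha
  obtain ⟨m₀, hm₀, hNm⟩ := hH N hNp
  have ha0 : a ≠ 0 := by
    intro h
    rw [ha, h, AddSubgroup.mem_zmultiples_iff] at hm₀
    obtain ⟨j, rfl⟩ := hm₀
    simp at hNm
    omega
  let t₀ : ℝ := ((|a| : ℤ) : ℝ) / c
  have ht₀ : 0 < t₀ := div_pos (by exact_mod_cast abs_pos.mpr ha0) hc
  have ht₀L : t₀ • p ∈ L := by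
    have : (|a| : ℤ) ∈ H := by
      rw [ha, AddSubgroup.mem_zmultiples_iff]
      rcases abs_choice a with h | h
      · exact ⟨1, by simp [h]⟩
      · exact ⟨-1, by simp [h]⟩
    exact this
  have hv₀ : t₀ • p ≠ 0 := smul_ne_zero ht₀.ne' hp0
  have hf₀ : 0 ≤ F.inf' hF (fun f => f (t₀ • p)) := hfm _ _ ht₀.le ((Finset.le_inf'_iff hF _).mpr hpK.1)
  have hval : gm (t₀ • p) / ‖t₀ • p‖ = M := by
    rw [hgm _ _ ht₀.le, hgp, norm_smul, Real.norm_of_nonneg ht₀.le]
    simp only [M]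
    field_simp
  have hgen : ∀ v ∈ L, v ≠ 0 → 0 ≤ F.inf' hF (fun f => f v) → gm v / ‖v‖ = M → ∃ n : ℤ, v = n • (t₀ • p) := by
    intro v hv hv0 hvf hvM
    obtain ⟨hvp, -⟩ := (hle v hv0 hvf).2 hvM
    obtain ⟨m, hm, hmt⟩ := hH (gm v) (hvp ▸ hv)
    rw [ha, AddSubgroup.mem_zmultiples_iff] at hm
    obtain ⟨j, rfl⟩ := hm
    rcases abs_choice a with h | h
    · refine ⟨j, ?_⟩
      rw [hvp, hmt, ← Int.cast_smul_eq_zsmul ℝ j (t₀ • p), smul_smul]
      simp only [t₀, h, zsmul_eq_mul, smul_eq_mul, Int.cast_mul, Int.cast_id]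
      congr 1
      ring
    · refine ⟨-j, ?_⟩
      rw [hvp, hmt, ← Int.cast_smul_eq_zsmul ℝ (-j) (t₀ • p), smul_smul]
      simp only [t₀, h, zsmul_eq_mul, smul_eq_mul, Int.cast_mul, Int.cast_id, Int.cast_neg]
      congr 1
      ring
  refine ⟨M, ⟨⟨t₀ • p, ⟨hv₀, hf₀⟩, hval⟩, ?_⟩, t₀ • p, ⟨ht₀L, hv₀, hf₀, hval, hgen⟩, ?_⟩
  · rintro _ ⟨v, ⟨hv0, hvf⟩, rfl⟩
    exact (hle v hv0 hvf).1
  · rintro v ⟨hvL, hv0, hvf, hvM, hvgen⟩
    obtain ⟨n, hn⟩ := hgen v hvL hv0 hvf hvM
    obtain ⟨n', hn'⟩ := hvgen _ ht₀L hv₀ hf₀ hval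
    have hgv : 0 < gm v := ((hle v hv0 hvf).2 hvM).2
    have h1 : ((n' * n : ℤ) : ℝ) • (t₀ • p) = t₀ • p := by
      rw [Int.cast_smul_eq_zsmul, ← smul_smul, ← hn, ← hn']
    have h2 : ((n' * n : ℤ) : ℝ) = 1 := by
      by_contra h
      have := sub_eq_zero.mpr h1
      nth_rw 2 [← one_smul ℝ (t₀ • p)] at this
      rw [← sub_smul] at this
      exact (smul_eq_zero.mp this).elim (sub_ne_zero.mpr h) hv₀
    rcases Int.eq_one_or_neg_one_of_mul_eq_one (show n * n' = 1 by rw [mul_comm]; exact_mod_cast h2) with h | h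
    · rw [hn, h, one_smul]
    · exfalso
      subst h
      have hneg : v = -(t₀ • p) := by simpa using hn
      obtain ⟨g, hg⟩ := hG
      have h3 : gm v ≤ g v := Finset.inf'_le _ hg
      rw [hneg, map_neg, map_smul, smul_eq_mul] at h3
      rw [hneg] at hgv
      nlinarith [hpK.2 g hg]

end Groth.LatticeMax
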