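import Mathlib
import Groth.Prelude.Def_W4c6intromoduliQuartic

/-! Binary quartics through their root points. -/

set_option autoImplicit false

universe u

open W4c6intromoduli

namespace Groth.Quartic

variable {k : Type u}

/-- The bracket of two root points. -/
def d [CommRing k] (la mu : Fin 4 → k) (i j : Fin 4) : k := la i * mu j - la j * mu i

/-- The three partition products. -/
def A [CommRing k] (la mu : Fin 4 → k) : k := d la mu 0 1 * d la mu 2 3
def B [CommRing k] (la mu : Fin 4 → k) : k := d la mu 0 2 * d la mu 3 1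
def C [CommRing k] (la mu : Fin 4 → k) : k := d la mu 0 3 * d la mu 1 2

variable [Field k] (la mu : Fin 4 → k)

theorem add_eq_zero : A la mu + B la mu + C la mu = 0 := by
  simp only [A, B, C, d]; ring

theorem coef_eq :
    coef la mu 0 = mu 0 * mu 1 * mu 2 * mu 3 ∧
    coef la mu 1 = -(la 0 * mu 1 * mu 2 * mu 3 + mu 0 * la 1 * mu 2 * mu 3 + mu 0 * mu 1 * la 2 * mu 3
      + mu 0 * mu 1 * mu 2 * la 3) ∧
    coef la mu 2 = la 0 * la 1 * mu 2 * mu 3 + la 0 * mu 1 * la 2 * mu 3 + la 0 * mu 1 * mu 2 * la 3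
      + mu 0 * la 1 * la 2 * mu 3 + mu 0 * la 1 * mu 2 * la 3 + mu 0 * mu 1 * la 2 * la 3 ∧
    coef la mu 3 = -(mu 0 * la 1 * la 2 * la 3 + la 0 * mu 1 * la 2 * la 3 + la 0 * la 1 * mu 2 * la 3
      + la 0 * la 1 * la 2 * mu 3) ∧
    coef la mu 4 = la 0 * la 1 * la 2 * la 3 := by
  have h : rootPoly la mu =
      Polynomial.C (mu 0 * mu 1 * mu 2 * mu 3)
      + Polynomial.C (-(la 0 * mu 1 * mu 2 * mu 3 + mu 0 * la 1 * mu 2 * mu 3 + mu 0 * mu 1 * la 2 * mu 3
        + mu 0 * mu 1 * mu 2 * la 3)) * Polynomial.X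
      + Polynomial.C (la 0 * la 1 * mu 2 * mu 3 + la 0 * mu 1 * la 2 * mu 3 + la 0 * mu 1 * mu 2 * la 3
        + mu 0 * la 1 * la 2 * mu 3 + mu 0 * la 1 * mu 2 * la 3 + mu 0 * mu 1 * la 2 * la 3) * Polynomial.X ^ 2
      + Polynomial.C (-(mu 0 * la 1 * la 2 * la 3 + la 0 * mu 1 * la 2 * la 3 + la 0 * la 1 * mu 2 * la 3
        + la 0 * la 1 * la 2 * mu 3)) * Polynomial.X ^ 3
      + Polynomial.C (la 0 * la 1 * la 2 * la 3) * Polynomial.X ^ 4 := by
    simp only [rootPoly, Fin.prod_univ_four, map_neg, map_add, map_mul]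
    ring
  simp only [coef, h]
  refine ⟨?_, ?_, ?_, ?_, ?_⟩ <;>
    simp only [Polynomial.coeff_add, Polynomial.coeff_C_mul_X_pow, Polynomial.coeff_C_mul_X, Polynomial.coeff_C] <;> norm_num

theorem invI_eq : invI (coef la mu) = A la mu ^ 2 + A la mu * B la mu + B la mu ^ 2 := by
  obtain ⟨h0, h1, h2, h3, h4⟩ := coef_eq la mu
  simp only [invI, h0, h1, h2, h3, h4, A, B, d]
  ring

theorem invJ_eq : invJ (coef la mu) =
    (A la mu - B la mu) * (B la mu - C la mu) * (C la mu - A la mu) := by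
  obtain ⟨h0, h1, h2, h3, h4⟩ := coef_eq la mu
  simp only [invJ, h0, h1, h2, h3, h4, A, B, C, d]
  ring

theorem d_comm (i j : Fin 4) : d la mu j i = - d la mu i j := by simp only [d]; ring

variable {la mu}

/-- Proportionality is transitive through a nonzero point. -/
theorem d_trans (hne : ∀ i, la i ≠ 0 ∨ mu i ≠ 0) {i j l : Fin 4} (h : d la mu i j = 0) (h' : d la mu j l = 0) :
    d la mu i l = 0 := by
  have e1 : la j * d la mu i l = 0 := by
    have : la j * d la mu i l = la l * d la mu i j + la i * d la mu j l := by simp only [d]; ring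
    rw [this, h, h', mul_zero, mul_zero, add_zero]
  have e2 : mu j * d la mu i l = 0 := by
    have : mu j * d la mu i l = mu l * d la mu i j + mu i * d la mu j l := by simp only [d]; ring
    rw [this, h, h', mul_zero, mul_zero, add_zero]
  rcases hne j with hj | hj
  · exact (mul_eq_zero.mp e1).resolve_left hj
  · exact (mul_eq_zero.mp e2).resolve_left hj

theorem invI_invJ_iff (h2 : (2 : k) ≠ 0) (h3 : (3 : k) ≠ 0) (hne : ∀ i, la i ≠ 0 ∨ mu i ≠ 0) :
    (invI (coef la mu) = 0 ∧ invJ (coef la mu) = 0) ↔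
      ∃ i j l : Fin 4, i ≠ j ∧ j ≠ l ∧ i ≠ l ∧ la i * mu j = la j * mu i ∧ la j * mu l = la l * mu j := by
  have hd : ∀ i j, d la mu i j = 0 ↔ la i * mu j = la j * mu i := fun i j => sub_eq_zero
  constructor
  · rintro ⟨hI, hJ⟩
    rw [invI_eq] at hI
    rw [invJ_eq] at hJ
    have hs := add_eq_zero la mu
    have hA : A la mu = 0 ∧ B la mu = 0 ∧ C la mu = 0 := by
      have key : ∀ x y z : k, x + y + z = 0 → x ^ 2 + x * y + y ^ 2 = 0 → x = y → x = 0 ∧ y = 0 ∧ z = 0 := by
        intro x y z hxyz hq he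
        subst he
        have : (3 : k) * x ^ 2 = 0 := by linear_combination hq
        have hx : x = 0 := pow_eq_zero_iff two_ne_zero |>.mp ((mul_eq_zero.mp this).resolve_left h3)
        refine ⟨hx, hx, ?_⟩
        linear_combination hxyz - 2 * hx
      rcases mul_eq_zero.mp hJ with h | h
      · rcases mul_eq_zero.mp h with h | h
        · exact key _ _ _ hs hI (sub_eq_zero.mp h)
        · obtain ⟨a, b, c⟩ := key (B la mu) (C la mu) (A la mu) (by linear_combination hs)
            (by linear_combination hI + (C la mu - A la mu) * hs) (sub_eq_zero.mp h)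
          exact ⟨c, a, b⟩
      · obtain ⟨a, b, c⟩ := key (C la mu) (A la mu) (B la mu) (by linear_combination hs)
          (by linear_combination hI + (C la mu - B la mu) * hs) (sub_eq_zero.mp h)
        exact ⟨b, c, a⟩
    obtain ⟨ha, hb, hc⟩ := hA
    have sw : ∀ i j, d la mu i j = 0 → d la mu j i = 0 := fun i j h => by rw [d_comm, h, neg_zero]
    suffices ∃ i j l : Fin 4, i ≠ j ∧ j ≠ l ∧ i ≠ l ∧ d la mu i j = 0 ∧ d la mu j l = 0 by
      obtain ⟨i, j, l, a, b, c, e, f⟩ := this
      exact ⟨i, j, l, a, b, c, (hd _ _).mp e, (hd _ _).mp f⟩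
    rcases mul_eq_zero.mp ha with a | a <;> rcases mul_eq_zero.mp hb with b | b
    · exact ⟨1, 0, 2, by decide, by decide, by decide, sw _ _ a, b⟩
    · exact ⟨0, 1, 3, by decide, by decide, by decide, a, sw _ _ b⟩
    · exact ⟨0, 2, 3, by decide, by decide, by decide, b, a⟩
    · exact ⟨2, 3, 1, by decide, by decide, by decide, a, b⟩
  · rintro ⟨i, j, l, hij, hjl, hil, h, h'⟩
    rw [← hd] at h h'
    have hil' := d_trans hne h h'
    have hz : ∀ a b : Fin 4, (a = i ∨ a = j ∨ a = l) → (b = i ∨ b = j ∨ b = l) → d la mu a b = 0 := by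
      rintro a b (rfl | rfl | rfl) (rfl | rfl | rfl) <;>
        first
          | exact sub_self _
          | assumption
          | (rw [d_comm, neg_eq_zero]; assumption)
    have hsub : ∀ a b c e : Fin 4, a ≠ b → a ≠ c → a ≠ e → b ≠ c → b ≠ e → c ≠ e →
        d la mu a b * d la mu c e = 0 := by
      intro a b c e n1 n2 n3 n4 n5 n6
      have : ((a = i ∨ a = j ∨ a = l) ∧ (b = i ∨ b = j ∨ b = l)) ∨
          ((c = i ∨ c = j ∨ c = l) ∧ (e = i ∨ e = j ∨ e = l)) := by omega
      rcases this with ⟨p, q⟩ | ⟨p, q⟩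
      · rw [hz a b p q, zero_mul]
      · rw [hz c e p q, mul_zero]
    have ha : A la mu = 0 := hsub 0 1 2 3 (by decide) (by decide) (by decide) (by decide) (by decide) (by decide)
    have hb : B la mu = 0 := hsub 0 2 3 1 (by decide) (by decide) (by decide) (by decide) (by decide) (by decide)
    rw [invI_eq, invJ_eq, ha, hb]
    constructor <;> ring

theorem d_ne_zero_of_disc (hd : disc la mu ≠ 0) {i j : Fin 4} (h : i ≠ j) : d la mu i j ≠ 0 := by
  rw [disc, Finset.prod_ne_zero_iff] at hd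
  rcases lt_or_gt_of_ne h with hlt | hlt
  · have := hd (i, j) (by simp [hlt])
    intro h0; apply this
    simp only [d] at h0
    rw [show la j * mu i - la i * mu j = -(la i * mu j - la j * mu i) by ring, h0]; ring
  · have := hd (j, i) (by simp [hlt])
    intro h0; apply this
    simp only [d] at h0
    rw [h0]; ring

section equiv

/-- Equivalence up to substitution and a constant. -/
def Sim (f g : MvPolynomial (Fin 2) k) : Prop :=
  ∃ (M : Matrix (Fin 2) (Fin 2) k) (c : k), IsUnit M.det ∧ c ≠ 0 ∧ g = MvPolynomial.C c * subst M f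

theorem subst_subst (M N : Matrix (Fin 2) (Fin 2) k) (f : MvPolynomial (Fin 2) k) :
    subst M (subst N f) = subst (N * M) f := by
  have : (subst M).comp (subst N) = subst (N * M) := by
    refine MvPolynomial.algHom_ext fun i => ?_
    simp only [subst, AlgHom.comp_apply, MvPolynomial.aeval_X, map_sum, map_mul, MvPolynomial.aeval_C,
      Fin.sum_univ_two, Matrix.mul_apply, MvPolynomial.algebraMap_eq, map_add]
    ring
  exact DFunLike.congr_fun this f

theorem subst_one (f : MvPolynomial (Fin 2) k) : subst (1 : Matrix (Fin 2) (Fin 2) k) f = f := by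
  have : subst (1 : Matrix (Fin 2) (Fin 2) k) = AlgHom.id k _ := by
    refine MvPolynomial.algHom_ext fun i => ?_
    fin_cases i <;> simp [subst, Fin.sum_univ_two]
  rw [this]; rfl

theorem subst_C (M : Matrix (Fin 2) (Fin 2) k) (c : k) : subst M (MvPolynomial.C c) = MvPolynomial.C c := by
  simp [subst]

theorem Sim.symm {f g : MvPolynomial (Fin 2) k} (h : Sim f g) : Sim g f := by
  obtain ⟨M, c, hM, hc, rfl⟩ := h
  refine ⟨M⁻¹, c⁻¹, (Matrix.isUnit_nonsing_inv_det M hM), inv_ne_zero hc, ?_⟩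
  rw [map_mul, subst_C, subst_subst, Matrix.mul_nonsing_inv M hM, subst_one, ← mul_assoc, ← map_mul,
    inv_mul_cancel₀ hc, map_one, one_mul]

theorem Sim.trans {f g h : MvPolynomial (Fin 2) k} (h₁ : Sim f g) (h₂ : Sim g h) : Sim f h := by
  obtain ⟨M, c, hM, hc, rfl⟩ := h₁
  obtain ⟨N, e, hN, he, rfl⟩ := h₂
  refine ⟨M * N, e * c, by rw [Matrix.det_mul]; exact hM.mul hN, mul_ne_zero he hc, ?_⟩
  rw [map_mul, subst_C, subst_subst, ← mul_assoc, ← map_mul]

/-- The normal form. -/
noncomputable def nf (q : k) : MvPolynomial (Fin 2) k :=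
  MvPolynomial.X 0 * MvPolynomial.X 1 * (MvPolynomial.X 0 + MvPolynomial.X 1) *
    (MvPolynomial.X 0 + MvPolynomial.C q * MvPolynomial.X 1)

/-- Normal form of a quartic without double zero. -/
theorem sim_nf (la mu : Fin 4 → k) (h01 : d la mu 0 1 ≠ 0) (h02 : d la mu 0 2 ≠ 0) (h21 : d la mu 2 1 ≠ 0)
    (h31 : d la mu 3 1 ≠ 0) :
    Sim (nf (d la mu 0 3 * d la mu 2 1 / (d la mu 3 1 * d la mu 0 2))) (binForm la mu) := by
  let a := d la mu 2 1 / d la mu 0 1
  let b := d la mu 0 2 / d la mu 0 1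
  let g := d la mu 3 1 / d la mu 0 1
  let e := d la mu 0 3 / d la mu 0 1
  have ha : a ≠ 0 := div_ne_zero h21 h01
  have hb : b ≠ 0 := div_ne_zero h02 h01
  have hg : g ≠ 0 := div_ne_zero h31 h01
  have l2 : la 2 = a * la 0 + b * la 1 := by simp only [a, b]; field_simp; simp only [d]; ring
  have m2 : mu 2 = a * mu 0 + b * mu 1 := by simp only [a, b]; field_simp; simp only [d]; ring
  have l3 : la 3 = g * la 0 + e * la 1 := by simp only [g, e]; field_simp; simp only [d]; ring
  have m3 : mu 3 = g * mu 0 + e * mu 1 := by simp only [g, e]; field_simp; simp only [d]; ring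
  have hq : d la mu 0 3 * d la mu 2 1 / (d la mu 3 1 * d la mu 0 2) = a * e / (g * b) := by
    simp only [a, b, g, e]; field_simp
  let M : Matrix (Fin 2) (Fin 2) k := !![mu 0, -la 0; b / a * mu 1, -(b / a * la 1)]
  refine ⟨M, a * g * (a / b), ?_, mul_ne_zero (mul_ne_zero ha hg) (div_ne_zero ha hb), ?_⟩
  · rw [isUnit_iff_ne_zero, Matrix.det_fin_two_of]
    rw [show mu 0 * -(b / a * la 1) - -la 0 * (b / a * mu 1) = b / a * d la mu 0 1 by simp only [d]; ring]
    exact mul_ne_zero (div_ne_zero hb ha) h01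
  · rw [hq]
    simp only [nf, binForm, Fin.prod_univ_four, subst, map_mul, map_add, MvPolynomial.aeval_X,
      MvPolynomial.aeval_C, Fin.sum_univ_two, MvPolynomial.algebraMap_eq, M, Matrix.of_apply,
      Matrix.cons_val', Matrix.cons_val_zero, Matrix.cons_val_one, Matrix.empty_val', Matrix.cons_val_fin_one,
      map_neg]
    have hab : a * (b / a) = b := by field_simp
    have hge : g * (a * e / (g * b)) * (b / a) = e := by field_simp
    have hc : a / b * (b / a) = 1 := by field_simp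
    have Cab := congrArg (MvPolynomial.C (σ := Fin 2)) hab
    have Cge := congrArg (MvPolynomial.C (σ := Fin 2)) hge
    have Cc := congrArg (MvPolynomial.C (σ := Fin 2)) hc
    simp only [map_mul, map_one] at Cab Cge Cc
    rw [l2, m2, l3, m3]
    simp only [map_add, map_mul]
    set L₀ := MvPolynomial.C (mu 0) * MvPolynomial.X (0 : Fin 2) - MvPolynomial.C (la 0) * MvPolynomial.X 1 with hL₀
    set L₁ := MvPolynomial.C (mu 1) * MvPolynomial.X (0 : Fin 2) - MvPolynomial.C (la 1) * MvPolynomial.X 1 with hL₁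
    calc _ = L₀ * L₁ * (MvPolynomial.C a * L₀ + MvPolynomial.C b * L₁) *
          (MvPolynomial.C g * L₀ + MvPolynomial.C e * L₁) := by rw [hL₀, hL₁]; ring
      _ = (MvPolynomial.C (a / b) * MvPolynomial.C (b / a)) * L₀ * L₁ *
          (MvPolynomial.C a * L₀ + (MvPolynomial.C a * MvPolynomial.C (b / a)) * L₁) *
          (MvPolynomial.C g * L₀ + (MvPolynomial.C g * MvPolynomial.C (a * e / (g * b)) * MvPolynomial.C (b / a)) * L₁) := by
        rw [Cab, Cc, show MvPolynomial.C g * MvPolynomial.C (a * e / (g * b)) * MvPolynomial.C (b / a) = MvPolynomial.C (σ := Fin 2) e by simpa only [map_mul] using Cge, one_mul]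
      _ = _ := by rw [hL₀, hL₁]; ring

theorem binForm_perm (σ : Equiv.Perm (Fin 4)) : binForm (la ∘ σ) (mu ∘ σ) = binForm la mu :=
  Equiv.prod_comp σ fun i => MvPolynomial.C (mu i) * MvPolynomial.X 0 - MvPolynomial.C (la i) * MvPolynomial.X 1

theorem exists_sim {la mu la' mu' : Fin 4 → k} (hd : disc la mu ≠ 0) (hd' : disc la' mu' ≠ 0)
    (h : invI (coef la mu) ^ 3 * invJ (coef la' mu') ^ 2 = invI (coef la' mu') ^ 3 * invJ (coef la mu) ^ 2)
    (h27 : (27 : k) ≠ 0) :
    Sim (binForm la mu) (binForm la' mu') := by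
  have hdl : ∀ {i j : Fin 4}, i ≠ j → d la mu i j ≠ 0 := fun h => d_ne_zero_of_disc hd h
  have hdl' : ∀ {i j : Fin 4}, i ≠ j → d la' mu' i j ≠ 0 := fun h => d_ne_zero_of_disc hd' h
  have main : ∀ σ : Equiv.Perm (Fin 4),
      A (la' ∘ σ) (mu' ∘ σ) * B la mu = B (la' ∘ σ) (mu' ∘ σ) * A la mu → Sim (binForm la mu) (binForm la' mu') := by
    intro σ he
    have hdσ : ∀ {i j : Fin 4}, i ≠ j → d (la' ∘ σ) (mu' ∘ σ) i j ≠ 0 := fun {i j} h =>
      hdl' (fun e => h (σ.injective e))
    have hq : ∀ (l m : Fin 4 → k), B l m ≠ 0 → d l m 0 3 * d l m 2 1 / (d l m 3 1 * d l m 0 2) = (A l m + B l m) / B l m := by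
      intro l m hB
      rw [show d l m 3 1 * d l m 0 2 = B l m by simp only [B]; ring]
      congr 1
      simp only [A, B, d]; ring
    have hB : B la mu ≠ 0 := mul_ne_zero (hdl (by decide)) (hdl (by decide))
    have hB' : B (la' ∘ σ) (mu' ∘ σ) ≠ 0 := mul_ne_zero (hdσ (by decide)) (hdσ (by decide))
    have s1 := sim_nf la mu (hdl (by decide)) (hdl (by decide)) (hdl (by decide)) (hdl (by decide))
    have s2 := sim_nf (la' ∘ σ) (mu' ∘ σ) (hdσ (by decide)) (hdσ (by decide)) (hdσ (by decide)) (hdσ (by decide))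
    rw [binForm_perm, hq _ _ hB'] at s2
    rw [hq _ _ hB, show (A la mu + B la mu) / B la mu = (A (la' ∘ σ) (mu' ∘ σ) + B (la' ∘ σ) (mu' ∘ σ)) / B (la' ∘ σ) (mu' ∘ σ) by
      rw [div_eq_div_iff hB hB']; linear_combination -he] at s1
    exact s1.symm.trans s2
  let P := A la mu
  let Q := B la mu
  let a := A la' mu'
  let b := B la' mu'
  let c := C la' mu'
  have hC : C la mu = -P - Q := by linear_combination add_eq_zero la mu
  have hc : c = -a - b := by linear_combination add_eq_zero la' mu'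
  have hprod : 27 * ((a * Q - b * P) * (a * Q - c * P) * (b * Q - a * P) * (c * Q - b * P) * (b * Q - c * P)
      * (c * Q - a * P)) = 0 := by
    rw [invI_eq, invI_eq, invJ_eq, invJ_eq, hC] at h
    simp only [show C la' mu' = -a - b from hc] at h
    rw [hc]
    simp only [P, Q, a, b] at h ⊢
    linear_combination -h
  have hz := (mul_eq_zero.mp hprod).resolve_left h27
  simp only [mul_eq_zero] at hz
  rcases hz with ((((h | h) | h) | h) | h) | h <;> simp only [P, Q, a, b, c] at h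
  · exact main 1 (sub_eq_zero.mp h)
  · refine main (Equiv.swap 0 1) ?_
    rw [show A (la' ∘ Equiv.swap 0 1) (mu' ∘ Equiv.swap 0 1) = - A la' mu' by
        simp [A, d, Equiv.swap_apply_def]; ring,
      show B (la' ∘ Equiv.swap 0 1) (mu' ∘ Equiv.swap 0 1) = - C la' mu' by
        simp [B, C, d, Equiv.swap_apply_def]; ring]
    linear_combination -h
  · refine main (Equiv.swap 1 2) ?_
    rw [show A (la' ∘ Equiv.swap 1 2) (mu' ∘ Equiv.swap 1 2) = - B la' mu' by
        simp [A, B, d, Equiv.swap_apply_def]; ring,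
      show B (la' ∘ Equiv.swap 1 2) (mu' ∘ Equiv.swap 1 2) = - A la' mu' by
        simp [A, B, d, Equiv.swap_apply_def]; ring]
    linear_combination -h
  · refine main (Equiv.swap 0 2) ?_
    rw [show A (la' ∘ Equiv.swap 0 2) (mu' ∘ Equiv.swap 0 2) = - C la' mu' by
        simp [A, C, d, Equiv.swap_apply_def]; ring,
      show B (la' ∘ Equiv.swap 0 2) (mu' ∘ Equiv.swap 0 2) = - B la' mu' by
        simp [B, d, Equiv.swap_apply_def]; ring]
    linear_combination -h
  · refine main ((Equiv.swap (0 : Fin 4) 2).trans (Equiv.swap 0 1)) ?_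
    rw [show A (la' ∘ ⇑((Equiv.swap (0 : Fin 4) 2).trans (Equiv.swap 0 1))) (mu' ∘ ⇑((Equiv.swap (0 : Fin 4) 2).trans (Equiv.swap 0 1))) = B la' mu' by
        simp [A, B, d, Equiv.swap_apply_def]; ring,
      show B (la' ∘ ⇑((Equiv.swap (0 : Fin 4) 2).trans (Equiv.swap 0 1))) (mu' ∘ ⇑((Equiv.swap (0 : Fin 4) 2).trans (Equiv.swap 0 1))) = C la' mu' by
        simp [B, C, d, Equiv.swap_apply_def]; ring]
    linear_combination h
  · refine main ((Equiv.swap (0 : Fin 4) 1).trans (Equiv.swap 0 2)) ?_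
    rw [show A (la' ∘ ⇑((Equiv.swap (0 : Fin 4) 1).trans (Equiv.swap 0 2))) (mu' ∘ ⇑((Equiv.swap (0 : Fin 4) 1).trans (Equiv.swap 0 2))) = C la' mu' by
        simp [A, C, d, Equiv.swap_apply_def]; ring,
      show B (la' ∘ ⇑((Equiv.swap (0 : Fin 4) 1).trans (Equiv.swap 0 2))) (mu' ∘ ⇑((Equiv.swap (0 : Fin 4) 1).trans (Equiv.swap 0 2))) = A la' mu' by
        simp [A, B, d, Equiv.swap_apply_def]; ring]
    linear_combination h

end equiv

end Groth.Quartic

namespace Groth.Quartic

open W4c6intromoduli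

variable {k : Type u} [Field k]

/-- Proportional factors differ by a constant. -/
theorem exists_ratio {la mu : Fin 4 → k} (hne : ∀ i, la i ≠ 0 ∨ mu i ≠ 0) {i j : Fin 4} (h : d la mu i j = 0) :
    ∃ ν : k, ν ≠ 0 ∧ la j = ν * la i ∧ mu j = ν * mu i := by
  simp only [d, sub_eq_zero] at h
  rcases hne i with hi | hi
  · refine ⟨la j / la i, ?_, by field_simp, by field_simp; linear_combination h⟩
    intro h0
    rw [div_eq_zero_iff, or_iff_left hi] at h0
    rw [h0, zero_mul, mul_eq_zero, or_iff_right hi] at h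
    exact (hne j).elim (· h0) (· h)
  · refine ⟨mu j / mu i, ?_, by field_simp; linear_combination -h, by field_simp⟩
    intro h0
    rw [div_eq_zero_iff, or_iff_left hi] at h0
    rw [h0, mul_zero, eq_comm, mul_eq_zero, or_iff_left hi] at h
    exact (hne j).elim (· h) (· h0)

open MvPolynomial in
theorem not_sim_two_and_two_double :
    ¬ Sim ((X 0 : MvPolynomial (Fin 2) k) ^ 2 * X 1 ^ 2) (X 0 ^ 2 * X 1 * (X 0 - X 1)) := by
  rintro ⟨M, c, -, hc, h⟩
  let ev : MvPolynomial (Fin 2) k →ₐ[k] Polynomial k := aeval ![Polynomial.X, 1]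
  have h1 := congrArg ev h
  simp only [ev, subst, map_mul, map_pow, map_sub, map_add, aeval_X, aeval_C, Fin.sum_univ_two,
    Matrix.cons_val_zero, Matrix.cons_val_one, Matrix.cons_val_fin_one, mul_one, one_pow,
    Polynomial.algebraMap_eq, MvPolynomial.algebraMap_eq] at h1
  rw [← mul_pow] at h1
  have h2 := congrArg Polynomial.natDegree h1
  rw [Polynomial.natDegree_C_mul hc, Polynomial.natDegree_pow,
    Polynomial.natDegree_mul (pow_ne_zero _ Polynomial.X_ne_zero) (by
      intro h0; simpa using congrArg (fun P => Polynomial.coeff P 0) h0),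
    Polynomial.natDegree_X_pow] at h2
  rw [show (Polynomial.X - 1 : Polynomial k) = Polynomial.X - Polynomial.C 1 by simp,
    Polynomial.natDegree_X_sub_C] at h2
  omega

open MvPolynomial in
/-- The two classes of quartics with a double and no triple zero. -/
theorem xor_sim (la mu : Fin 4 → k) (hne : ∀ i, la i ≠ 0 ∨ mu i ≠ 0) (hd : disc la mu = 0)
    (h3z : ∀ i j l : Fin 4, i ≠ j → j ≠ l → i ≠ l →
      ¬ (la i * mu j = la j * mu i ∧ la j * mu l = la l * mu j)) :
    Xor (Sim (X 0 ^ 2 * X 1 * (X 0 - X 1)) (binForm la mu))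
      (Sim ((X 0 : MvPolynomial (Fin 2) k) ^ 2 * X 1 ^ 2) (binForm la mu)) := by
  obtain ⟨p, hp, h0⟩ := Finset.prod_eq_zero_iff.mp hd
  have hlt := (Finset.mem_filter.mp hp).2
  rw [sq_eq_zero_iff, sub_eq_zero] at h0
  let σ : Equiv.Perm (Fin 4) := (Equiv.swap 1 (Equiv.swap 0 p.1 p.2)).trans (Equiv.swap 0 p.1)
  have hσ0 : σ 0 = p.1 := by
    simp only [σ, Equiv.trans_apply]
    have hne' : (0 : Fin 4) ≠ Equiv.swap 0 p.1 p.2 := by
      intro h
      have := congrArg (Equiv.swap (0 : Fin 4) p.1) h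
      rw [Equiv.swap_apply_left, Equiv.swap_apply_self] at this
      exact hlt.ne this
    rw [Equiv.swap_apply_of_ne_of_ne (by decide : (0 : Fin 4) ≠ 1) hne', Equiv.swap_apply_left]
  have hσ1 : σ 1 = p.2 := by
    simp only [σ, Equiv.trans_apply, Equiv.swap_apply_left, Equiv.swap_apply_self]
  let l := la ∘ σ
  let m := mu ∘ σ
  have h01 : d l m 0 1 = 0 := by
    simp only [d, l, m, Function.comp_apply, hσ0, hσ1]
    linear_combination -h0
  have hnel : ∀ i, l i ≠ 0 ∨ m i ≠ 0 := fun i => hne _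
  have h3l : ∀ i j t : Fin 4, i ≠ j → j ≠ t → i ≠ t → d l m i j = 0 → d l m j t ≠ 0 := fun i j t a b c e f =>
    h3z (σ i) (σ j) (σ t) (σ.injective.ne a) (σ.injective.ne b) (σ.injective.ne c)
      ⟨sub_eq_zero.mp e, sub_eq_zero.mp f⟩
  have h02 : d l m 0 2 ≠ 0 := h3l 1 0 2 (by decide) (by decide) (by decide) (by rw [d_comm, h01, neg_zero])
  have h03 : d l m 0 3 ≠ 0 := h3l 1 0 3 (by decide) (by decide) (by decide) (by rw [d_comm, h01, neg_zero])
  obtain ⟨ν, hν, lν, mν⟩ := exists_ratio hnel h01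
  rw [← binForm_perm (la := la) (mu := mu) σ]
  change Xor (Sim _ (binForm l m)) (Sim _ (binForm l m))
  let L : Fin 4 → MvPolynomial (Fin 2) k := fun i => MvPolynomial.C (m i) * X 0 - MvPolynomial.C (l i) * X 1
  have hL1 : L 1 = MvPolynomial.C ν * L 0 := by simp only [L, lν, mν, map_mul]; ring
  have hfac : binForm l m = MvPolynomial.C ν * L 0 ^ 2 * L 2 * L 3 := by
    simp only [binForm, Fin.prod_univ_four]
    change L 0 * L 1 * L 2 * L 3 = _
    rw [hL1]; ring
  have hM : ∀ a b : k, a ≠ 0 → b ≠ 0 → ∃ M : Matrix (Fin 2) (Fin 2) k, IsUnit M.det ∧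
      subst M (X 0) = MvPolynomial.C a * L 0 ∧ subst M (X 1) = MvPolynomial.C b * L 2 := by
    intro a b ha hb
    refine ⟨!![a * m 0, -(a * l 0); b * m 2, -(b * l 2)], ?_, ?_, ?_⟩
    · rw [isUnit_iff_ne_zero, Matrix.det_fin_two_of,
        show a * m 0 * -(b * l 2) - -(a * l 0) * (b * m 2) = a * b * d l m 0 2 by simp only [d]; ring]
      exact mul_ne_zero (mul_ne_zero ha hb) h02
    · simp [subst, L, Fin.sum_univ_two]; ring
    · simp [subst, L, Fin.sum_univ_two]; ring
  by_cases h23 : d l m 2 3 = 0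
  · obtain ⟨ρ, hρ, lρ, mρ⟩ := exists_ratio hnel h23
    have hL3 : L 3 = MvPolynomial.C ρ * L 2 := by simp only [L, lρ, mρ, map_mul]; ring
    obtain ⟨M, hMu, hM0, hM1⟩ := hM 1 1 one_ne_zero one_ne_zero
    have hB : Sim ((X 0 : MvPolynomial (Fin 2) k) ^ 2 * X 1 ^ 2) (binForm l m) := by
      refine ⟨M, ν * ρ, hMu, mul_ne_zero hν hρ, ?_⟩
      rw [hfac, hL3]
      simp only [map_mul, map_pow, hM0, hM1, map_one]
      ring
    exact Or.inr ⟨hB, fun hA => not_sim_two_and_two_double (hB.trans hA.symm)⟩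
  · let g := d l m 3 2 / d l m 0 2
    let e := d l m 0 3 / d l m 0 2
    have h32 : d l m 3 2 ≠ 0 := by rw [d_comm, neg_ne_zero]; exact h23
    have hg : g ≠ 0 := div_ne_zero h32 h02
    have he : e ≠ 0 := div_ne_zero h03 h02
    have l3 : l 3 = g * l 0 + e * l 2 := by simp only [g, e]; field_simp; simp only [d]; ring
    have m3 : m 3 = g * m 0 + e * m 2 := by simp only [g, e]; field_simp; simp only [d]; ring
    have hL3 : L 3 = MvPolynomial.C g * L 0 + MvPolynomial.C e * L 2 := by simp only [L, l3, m3, map_add, map_mul]; ring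
    obtain ⟨M, hMu, hM0, hM1⟩ := hM g (-e) hg (neg_ne_zero.mpr he)
    have hA : Sim (X 0 ^ 2 * X 1 * (X 0 - X 1)) (binForm l m) := by
      refine ⟨M, -(ν / (g ^ 2 * e)), hMu, neg_ne_zero.mpr (div_ne_zero hν (mul_ne_zero (pow_ne_zero _ hg) he)), ?_⟩
      rw [hfac, hL3]
      simp only [map_mul, map_pow, map_sub, hM0, hM1, map_neg]
      have hc : (MvPolynomial.C (σ := Fin 2) (ν / (g ^ 2 * e)) * MvPolynomial.C g ^ 2 * MvPolynomial.C e : MvPolynomial (Fin 2) k) = MvPolynomial.C ν := by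
        rw [← map_pow, ← map_mul, ← map_mul]; congr 1; field_simp
      rw [← hc]
      ring
    exact Or.inl ⟨hA, fun hB => not_sim_two_and_two_double (hB.trans hA.symm)⟩

end Groth.Quartic
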