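import Mathlib
import Groth.Agent.GitQuot.GrpdPullback
import Groth.Agent.GitQuot.GrpdOfMono
import Groth.Agent.GitQuot.GrpdMonoQuotient
import Groth.Agent.DescentBase.SourceLocal

/-! Quotients of groupoids with a quasi-section. -/

set_option autoImplicit false

universe u

open AlgebraicGeometry CategoryTheory CategoryTheory.Limits

noncomputable section

namespace Groth.QuasiSection

open Groth.GrpdBasic Groth.GrpdPullback

variable {S : Scheme.{u}} (G : Grpd.GroupoidScheme S) {U' : Scheme.{u}} (u : U' ⟶ G.U)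

/-- Every set of pairwise related points of `U'` lies in an affine open. -/
def SetsInAffine : Prop :=
  ∀ E : Set U', (∀ x ∈ E, ∀ y ∈ E, ∃ r : G.R, G.t r = u x ∧ G.s r = u y) →
    ∃ W : U'.Opens, IsAffineOpen W ∧ E ⊆ (W : Set U')

variable {G u} (hE : SetsInAffine G u)

theorem rel_of_arrow (r : R' G u) : ∃ z : G.R, G.t z = u (t' G u r) ∧ G.s z = u (s' G u r) :=
  ⟨arrow G u r, by rw [← Scheme.Hom.comp_apply, arrow_t, Scheme.Hom.comp_apply],
    by rw [← Scheme.Hom.comp_apply, arrow_s, Scheme.Hom.comp_apply]⟩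

include hE in
theorem orbitsInAffine : GrpdQuotient.OrbitsInAffine (grpd G u) := fun x => by
  have hR := orbit_equivalence G
  refine hE _ ?_
  rintro _ ⟨a, ha, rfl⟩ _ ⟨b, hb, rfl⟩
  have ha' := rel_of_arrow a
  have hb' := rel_of_arrow b
  rw [show s' G u a = x from ha] at ha'
  rw [show s' G u b = x from hb] at hb'
  exact hR.trans ha' (hR.symm hb')

variable [IsFinite (q G u)] [Flat (q G u)] [LocallyOfFinitePresentation (q G u)] [Surjective (q G u)]

instance : IsFinite (grpd G u).s := MorphismProperty.pullback_snd (P := @IsFinite) _ _ ‹_›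
instance : Flat (grpd G u).s := MorphismProperty.pullback_snd (P := @Flat) _ _ ‹_›
instance : LocallyOfFinitePresentation (grpd G u).s :=
  MorphismProperty.pullback_snd (P := @LocallyOfFinitePresentation) _ _ ‹_›

/-- The quotient of `U'`. -/
abbrev p' : U' ⟶ GrpdQuotient.quotient (grpd G u) := GrpdQuotient.p (orbitsInAffine hE)

theorem key {T : Scheme.{u}} (r : T ⟶ G.R) (a b : T ⟶ V G u) (ht : r ≫ G.t = a ≫ q G u)
    (hs : r ≫ G.s = b ≫ q G u) :
    a ≫ pullback.snd G.t u ≫ p' hE = b ≫ pullback.snd G.t u ≫ p' hE := by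
  let β : T ⟶ G.R := comp G r ((b ≫ pullback.fst G.t u) ≫ G.i) (by
    rw [hs, Category.assoc, Category.assoc, G.i_t])
  let α : T ⟶ G.R := comp G (a ≫ pullback.fst G.t u) β (by
    rw [comp_t, ht, Category.assoc])
  let z : T ⟶ R' G u := mk α (a ≫ pullback.snd G.t u) (b ≫ pullback.snd G.t u)
    (by rw [comp_t, Category.assoc, pullback.condition, Category.assoc])
    (by rw [comp_s, comp_s, Category.assoc, Category.assoc, G.i_s, pullback.condition, Category.assoc])
  have h := z ≫= GrpdQuotient.w (orbitsInAffine hE)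
  simp only [← Category.assoc] at h
  erw [mk_t, mk_s] at h
  rw [← Category.assoc, ← Category.assoc]
  exact h

theorem exists_p : ∃ p : G.U ⟶ GrpdQuotient.quotient (grpd G u),
    q G u ≫ p = pullback.snd G.t u ≫ p' hE := by
  have hk : ∀ {T : Scheme.{u}} (a b : T ⟶ V G u), a ≫ q G u = b ≫ q G u →
      a ≫ pullback.snd G.t u ≫ p' hE = b ≫ pullback.snd G.t u ≫ p' hE := fun {T} a b h =>
    key hE ((a ≫ q G u) ≫ G.e) a b (by rw [Category.assoc, G.e_t, Category.comp_id])
      (by rw [Category.assoc, G.e_s, Category.comp_id, h])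
  exact ⟨EffectiveEpi.desc (q G u) (pullback.snd G.t u ≫ p' hE) hk, EffectiveEpi.fac _ _ _⟩

/-- The quotient map. -/
def p : G.U ⟶ GrpdQuotient.quotient (grpd G u) := (exists_p hE).choose

theorem q_p : q G u ≫ p hE = pullback.snd G.t u ≫ p' hE := (exists_p hE).choose_spec

theorem u_p : u ≫ p hE = p' hE := by
  have h := pullback.lift (u ≫ G.e) (𝟙 U') (by simp [G.e_t]) ≫= q_p hE
  simp only [q, ← Category.assoc, pullback.lift_fst, pullback.lift_snd, Category.id_comp] at h
  rwa [Category.assoc (u : U' ⟶ G.U), G.e_s, Category.comp_id] at h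

theorem w : G.t ≫ p hE = G.s ≫ p hE := by
  have h1 : Epi (pullback.fst G.t (q G u)) :=
    Flat.epi_of_flat_of_surjective _
  rw [← cancel_epi (pullback.fst G.t (q G u))]
  have h2 : Epi (pullback.fst (pullback.fst G.t (q G u) ≫ G.s) (q G u)) :=
    Flat.epi_of_flat_of_surjective _
  rw [← cancel_epi (pullback.fst (pullback.fst G.t (q G u) ≫ G.s) (q G u))]
  have h := key hE (pullback.fst (pullback.fst G.t (q G u) ≫ G.s) (q G u) ≫ pullback.fst G.t (q G u))
    (pullback.fst _ _ ≫ pullback.snd G.t (q G u)) (pullback.snd _ _)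
    (by rw [Category.assoc, pullback.condition, Category.assoc])
    (by rw [Category.assoc, pullback.condition])
  rw [← q_p hE, Category.assoc, ← pullback.condition_assoc] at h
  rw [h]
  simp only [← Category.assoc]
  congr 1
  simp only [Category.assoc]
  exact pullback.condition.symm

instance surjective_p' : Surjective (p' hE) := ⟨(GrpdQuotient.isQuot (orbitsInAffine hE)).surj⟩

instance surjective_p : Surjective (p hE) := by
  have : Surjective (u ≫ p hE) := (u_p hE).symm ▸ inferInstance
  exact Surjective.of_comp u (p hE)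

theorem nonempty_isColimit : Nonempty (IsColimit (Cofork.ofπ (p hE) (w hE))) := by
  have hq : Epi (q G u) := Flat.epi_of_flat_of_surjective _
  have hQ := GrpdQuotient.isQuot (orbitsInAffine hE)
  have key : ∀ {Z : Scheme.{u}} (g : G.U ⟶ Z), G.t ≫ g = G.s ≫ g → ∃! m, p hE ≫ m = g := by
    intro Z g hg
    obtain ⟨m, hm⟩ := hQ.exists_desc (u ≫ g) (by
      rw [← Category.assoc, ← Category.assoc, ← arrow_t G u, ← arrow_s G u, Category.assoc,
        Category.assoc, hg])
    refine ⟨m, ?_, fun m' hm' => ?_⟩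
    · refine (cancel_epi (q G u)).mp ?_
      rw [← Category.assoc, q_p hE, Category.assoc]
      erw [hm]
      rw [← pullback.condition_assoc, hg, Category.assoc]
    · refine hQ.epi ?_
      erw [hm]
      change p' hE ≫ m' = _
      rw [← u_p hE, Category.assoc, hm']
  exact ⟨Cofork.IsColimit.mk _ (fun s => (key s.π s.condition).choose)
    (fun s => (key s.π s.condition).choose_spec.1)
    fun s m hm => (key s.π s.condition).choose_spec.2 m hm⟩

theorem rel_of_eq (x y : G.U) (h : p hE x = p hE y) : ∃ r : G.R, G.t r = x ∧ G.s r = y := by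
  obtain ⟨a, rfl⟩ := (q G u).surjective x
  obtain ⟨b, rfl⟩ := (q G u).surjective y
  rw [← Scheme.Hom.comp_apply, ← Scheme.Hom.comp_apply, q_p, Scheme.Hom.comp_apply,
    Scheme.Hom.comp_apply] at h
  obtain ⟨z, hz1, hz2⟩ := (GrpdQuotient.isQuot (orbitsInAffine hE)).fibre _ _ h
  have hR := orbit_equivalence G
  have hv : ∀ v : V G u, ∃ r : G.R, G.t r = u (pullback.snd G.t u v) ∧ G.s r = q G u v := fun v =>
    ⟨pullback.fst G.t u v, by rw [← Scheme.Hom.comp_apply, pullback.condition, Scheme.Hom.comp_apply],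
      (Scheme.Hom.comp_apply _ _ _).symm⟩
  have hz := rel_of_arrow z
  rw [show t' G u z = _ from hz1, show s' G u z = _ from hz2] at hz
  exact hR.trans (hR.symm (hv a)) (hR.trans hz (hv b))

theorem p_eq_of_rel (r : G.R) : p hE (G.t r) = p hE (G.s r) := by
  rw [← Scheme.Hom.comp_apply, ← Scheme.Hom.comp_apply, w]

theorem isOpenMap_p (ht : IsOpenMap G.t) : IsOpenMap (p hE) := by
  intro O hO
  have h : ⇑(p hE) '' O = ⇑(p' hE) '' (⇑u ⁻¹' (⇑G.t '' (⇑G.s ⁻¹' O))) := by
    ext y
    constructor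
    · rintro ⟨x, hx, rfl⟩
      obtain ⟨x', hx'⟩ := (p' hE).surjective (p hE x)
      refine ⟨x', ?_, hx'⟩
      rw [← u_p hE, Scheme.Hom.comp_apply] at hx'
      obtain ⟨r, h1, h2⟩ := rel_of_eq hE _ _ hx'
      exact ⟨r, show G.s r ∈ O from h2 ▸ hx, h1⟩
    · rintro ⟨x', ⟨r, hr, hrx⟩, rfl⟩
      refine ⟨G.s r, hr, ?_⟩
      rw [← p_eq_of_rel, hrx, ← Scheme.Hom.comp_apply, u_p]
  rw [h]
  exact (GrpdQuotient.isQuot (orbitsInAffine hE)).isOpen _
    ((ht _ (hO.preimage G.s.continuous)).preimage u.continuous)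

theorem universallyClosed_p [UniversallyClosed G.t] : UniversallyClosed (p hE) := by
  have h1 : UniversallyClosed (pullback.snd G.t u) :=
    MorphismProperty.pullback_snd (P := @UniversallyClosed) _ _ ‹_›
  have : IsIntegralHom (p' hE) := GrpdQuotient.isIntegralHom_p (orbitsInAffine hE)
  have : UniversallyClosed (q G u ≫ p hE) := by rw [q_p]; infer_instance
  exact UniversallyClosed.of_comp_surjective (q G u) (p hE)

theorem surjective_lift : Surjective (pullback.lift G.t G.s (w hE)) := by
  let qq := pullback.map (q G u ≫ p hE) (q G u ≫ p hE) (p hE) (p hE) (q G u) (q G u) (𝟙 _)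
    (by simp) (by simp)
  have : Surjective qq := MorphismProperty.pullbackMap (P := @Surjective) ‹_› ‹_› rfl rfl
  let φ : pullback (q G u ≫ p hE) (q G u ≫ p hE) ⟶ pullback (p' hE) (p' hE) :=
    pullback.map _ _ _ _ (pullback.snd G.t u) (pullback.snd G.t u) (𝟙 _)
      (by rw [Category.comp_id, q_p]) (by rw [Category.comp_id, q_p])
  let ψ := pullback.lift (t' G u) (s' G u) (GrpdQuotient.w (orbitsInAffine hE))
  have : Surjective ψ := ⟨GrpdQuotient.surjective_lift (orbitsInAffine hE)⟩
  let a := pullback.fst φ ψ ≫ pullback.fst _ _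
  let b := pullback.fst φ ψ ≫ pullback.snd _ _
  let r := pullback.snd φ ψ ≫ arrow G u
  have ha : a ≫ pullback.snd G.t u = pullback.snd φ ψ ≫ t' G u := by
    have := pullback.condition (f := φ) (g := ψ) =≫ pullback.fst _ _
    simp only [φ, ψ, Category.assoc, pullback.lift_fst] at this
    simp only [a, Category.assoc, this, φ, ψ]
  have hb : b ≫ pullback.snd G.t u = pullback.snd φ ψ ≫ s' G u := by
    have := pullback.condition (f := φ) (g := ψ) =≫ pullback.snd _ _
    simp only [φ, ψ, Category.assoc, pullback.lift_snd] at this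
    simp only [b, Category.assoc, this, φ, ψ]
  let β := comp G r (b ≫ pullback.fst G.t u) (by
    simp only [r, Category.assoc, arrow_s, ← reassoc_of% hb, pullback.condition])
  let γ := comp G ((a ≫ pullback.fst G.t u) ≫ G.i) β (by
    simp only [β, comp_t, r, Category.assoc, G.i_s, arrow_t, ← reassoc_of% ha, pullback.condition])
  have hγ : γ ≫ pullback.lift G.t G.s (w hE) = pullback.fst φ ψ ≫ qq := by
    apply pullback.hom_ext
    · simp only [γ, qq, q, a, Category.assoc, pullback.lift_fst, comp_t, G.i_t]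
    · simp only [γ, β, qq, q, b, Category.assoc, pullback.lift_snd, comp_s]
  have : Surjective (γ ≫ pullback.lift G.t G.s (w hE)) := hγ ▸ inferInstance
  exact Surjective.of_comp γ _

section mono

variable [Mono G.j]

omit [IsFinite (q G u)] [Flat (q G u)] [LocallyOfFinitePresentation (q G u)] [Surjective (q G u)] in
theorem hom_ext_arrows {T : Scheme.{u}} {f g : T ⟶ G.R} (ht : f ≫ G.t = g ≫ G.t)
    (hs : f ≫ G.s = g ≫ G.s) : f = g := by
  rw [← cancel_mono G.j]
  apply pullback.hom_ext
  · simp only [Category.assoc, j_fst, ht]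
  · simp only [Category.assoc, j_snd, hs]

instance : Mono (grpd G u).j :=
  mono_j_of_hom_ext (grpd G u) fun {T a b} ht hs => by
    refine GrpdPullback.ext (hom_ext_arrows ?_ ?_) ht hs
    · simp only [Category.assoc, arrow_t, reassoc_of% (ht : a ≫ t' G u = b ≫ t' G u)]
    · simp only [Category.assoc, arrow_s, reassoc_of% (hs : a ≫ s' G u = b ≫ s' G u)]

theorem exists_arrow {T : Scheme.{u}} (a b : T ⟶ G.U) (h : a ≫ p hE = b ≫ p hE) :
    ∃ r : T ⟶ G.R, r ≫ G.t = a ∧ r ≫ G.s = b := by
  let π₁ := pullback.fst a (q G u)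
  let π₂ := pullback.fst (π₁ ≫ b) (q G u)
  let a' := π₂ ≫ pullback.snd a (q G u)
  let b' := pullback.snd (π₁ ≫ b) (q G u)
  have hπ : EffectiveEpi (π₂ ≫ π₁) := inferInstance
  have ha' : a' ≫ q G u = (π₂ ≫ π₁) ≫ a := by
    simp only [a', π₁, Category.assoc, pullback.condition]
  have hb' : b' ≫ q G u = (π₂ ≫ π₁) ≫ b := by
    simp only [b', π₂, Category.assoc, pullback.condition]
  obtain ⟨z, hzt, hzs⟩ := GrpdQuotient.exists_arrow (orbitsInAffine hE) (a' ≫ pullback.snd G.t u)
    (b' ≫ pullback.snd G.t u) (by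
      have e : ∀ {W : Scheme.{u}} (v : W ⟶ V G u), (v ≫ pullback.snd G.t u) ≫ p' hE = (v ≫ q G u) ≫ p hE := fun {W} v => by
        rw [Category.assoc, ← q_p hE, Category.assoc v]
      exact (e a').trans ((by rw [ha', Category.assoc, h, ← Category.assoc, ← hb'] :
        (a' ≫ q G u) ≫ p hE = (b' ≫ q G u) ≫ p hE).trans (e b').symm))
  have hzt' : z ≫ t' G u = a' ≫ pullback.snd G.t u := hzt
  have hzs' : z ≫ s' G u = b' ≫ pullback.snd G.t u := hzs
  let β := comp G (z ≫ arrow G u) (b' ≫ pullback.fst G.t u) (by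
    simp only [Category.assoc, arrow_s, reassoc_of% hzs', pullback.condition])
  let r := comp G ((a' ≫ pullback.fst G.t u) ≫ G.i) β (by
    simp only [β, comp_t, Category.assoc, G.i_s, arrow_t, reassoc_of% hzt', pullback.condition])
  have hrt : r ≫ G.t = (π₂ ≫ π₁) ≫ a := by
    rw [← ha']; simp only [r, q, comp_t, Category.assoc, G.i_t]
  have hrs : r ≫ G.s = (π₂ ≫ π₁) ≫ b := by
    rw [← hb']; simp only [r, β, q, comp_s, Category.assoc]
  have : Epi (π₂ ≫ π₁) := inferInstance
  refine ⟨EffectiveEpi.desc (π₂ ≫ π₁) r ?_, ?_, ?_⟩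
  · intro Z g₁ g₂ hg
    refine hom_ext_arrows ?_ ?_
    · rw [Category.assoc, Category.assoc, hrt, ← Category.assoc, hg, Category.assoc]
    · rw [Category.assoc, Category.assoc, hrs, ← Category.assoc, hg, Category.assoc]
  · rw [← cancel_epi (π₂ ≫ π₁), ← Category.assoc, EffectiveEpi.fac, hrt]
  · rw [← cancel_epi (π₂ ≫ π₁), ← Category.assoc, EffectiveEpi.fac, hrs]

theorem isPullback : IsPullback G.t G.s (p hE) (p hE) := by
  refine ⟨⟨w hE⟩, ⟨PullbackCone.IsLimit.mk _ (fun c => (exists_arrow hE c.fst c.snd c.condition).choose)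
    (fun c => (exists_arrow hE c.fst c.snd c.condition).choose_spec.1)
    (fun c => (exists_arrow hE c.fst c.snd c.condition).choose_spec.2)
    fun c m h₁ h₂ => hom_ext_arrows ?_ ?_⟩⟩
  · exact h₁.trans (exists_arrow hE c.fst c.snd c.condition).choose_spec.1.symm
  · exact h₂.trans (exists_arrow hE c.fst c.snd c.condition).choose_spec.2.symm

theorem flat_p [Flat G.t] : Flat (p hE) := by
  have : Flat (p' hE) := (GrpdQuotient.finLocFree (orbitsInAffine hE)).2.1
  have : Flat (q G u ≫ p hE) := by rw [q_p]; infer_instance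
  exact Groth.DescentBase.flat_of_flat_surjective (q G u) (p hE)

end mono

end Groth.QuasiSection
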