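import Groth.Agent.Hopf.Semisimple
import Groth.Prelude.Def_GLin

/-!
# Linearly reductive bialgebras: semisimplicity, invariants, the Reynolds operator
-/

set_option autoImplicit false

universe u v

open TensorProduct
open Groth

noncomputable section

namespace Groth.GitQuot

variable {k : Type u} [Field k] {A : Type v} [CommRing A] [Bialgebra k A]
  {V : Type v} [AddCommGroup V] [Module k V] [HopfRep.Comod k A V]
  {W : Type v} [AddCommGroup W] [Module k W] [HopfRep.Comod k A W]

theorem op_of_fixed {x : V} (hx : x ∈ HopfRep.fixedPts k A V) (φ : A →ₗ[k] k) :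
    ComodLib.op φ x = φ 1 • x := by
  change HopfRep.Comod.coact (k := k) (A := A) x = x ⊗ₜ[k] (1 : A) at hx
  rw [ComodLib.op_apply, hx, ComodLib.slice_tmul]

theorem mem_fixedPts_iff_op {x : V} :
    x ∈ HopfRep.fixedPts k A V ↔ ∀ φ : A →ₗ[k] k, ComodLib.op φ x = φ 1 • x := by
  refine ⟨op_of_fixed, fun h => ?_⟩
  refine ComodLib.ext_slice fun φ => ?_
  rw [← ComodLib.op_apply, h φ, ComodLib.slice_tmul]

theorem isSubcomod_fixedPts : HopfRep.IsSubcomod (k := k) (A := A) (HopfRep.fixedPts k A V) :=
  (ComodLib.isSubcomod_iff _).2 fun φ _ hx => by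
    rw [op_of_fixed hx]; exact Submodule.smul_mem _ _ hx

theorem map_mem_fixedPts {f : V →ₗ[k] W} (hf : Hoch.IsComodHom A f) {x : V}
    (hx : x ∈ HopfRep.fixedPts k A V) : f x ∈ HopfRep.fixedPts k A W :=
  mem_fixedPts_iff_op.2 fun φ => by rw [← ComodLib.isComodHom_op hf, op_of_fixed hx, map_smul]

/-- over a linearly reductive bialgebra every comodule is semisimple -/
theorem isSemisimpleComod (hG : HopfRep.IsLinearlyReductive k A) :
    HopfRep.IsSemisimpleComod k A V := by
  let T : Set (Submodule k V) :=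
    {U | HopfRep.IsSubcomod (k := k) (A := A) U ∧ ComodLib.IsSimpleSub A U}
  refine ComodLib.isSemisimpleComod_of_sum_simple (fun U : T => (U : Submodule k V))
    (fun U => U.2.1) (fun U => U.2.2) (eq_top_iff.2 fun x _ => ?_)
  let U := ComodLib.gen (k := k) A x
  have hU : HopfRep.IsSubcomod (k := k) (A := A) U := ComodLib.isSubcomod_gen x
  let cU : HopfRep.Comod k A U := ComodSub.Comod.restr inferInstance U hU
  have hsub : Hoch.IsComodHom A U.subtype := ComodSub.isComodHom_subtype _ U hU
  obtain ⟨ι, S, -, htop, hS⟩ :=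
    ComodLib.exists_decomposition A (hG U (ComodLib.finite_gen x))
  have h : U ≤ ⨆ U' : T, (U' : Submodule k V) := by
    have hmap : U = Submodule.map U.subtype (⨆ i, S i) := by rw [htop, Submodule.map_subtype_top]
    rw [hmap, Submodule.map_iSup]
    refine iSup_le fun i => ?_
    have hm : (S i).map U.subtype ∈ T := by
      refine ⟨ComodLib.isSubcomod_map hsub (hS i).1, ?_, fun U' hU' hle => ?_⟩
      · intro e
        exact (hS i).2.1 (Submodule.map_injective_of_injective U.injective_subtype (e.trans (Submodule.map_bot _).symm))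
      · rcases (hS i).2.2 (U'.comap U.subtype) (ComodLib.isSubcomod_comap hsub hU')
            ((Submodule.comap_mono hle).trans (Submodule.comap_map_eq_of_injective U.injective_subtype _).le) with e | e
        · left; rw [← Submodule.map_comap_eq_of_le (hle.trans LinearMap.map_le_range), e, Submodule.map_bot]
        · right; rw [← Submodule.map_comap_eq_of_le (hle.trans LinearMap.map_le_range), e]
    exact le_iSup_of_le ⟨_, hm⟩ le_rfl
  exact h (ComodLib.mem_gen_self x)

theorem exists_fixedPts_map_eq (hG : HopfRep.IsLinearlyReductive k A) {f : V →ₗ[k] W}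
    (hf : Hoch.IsComodHom A f) (hsurj : Function.Surjective f) {w : W}
    (hw : w ∈ HopfRep.fixedPts k A W) : ∃ v ∈ HopfRep.fixedPts k A V, f v = w := by
  obtain ⟨v, rfl⟩ := hsurj w
  obtain ⟨C, hC, hKC⟩ := isSemisimpleComod hG (LinearMap.ker f) (ComodLib.isSubcomod_ker hf)
  obtain ⟨κ, hκ, c, hc, hv⟩ := Submodule.mem_sup.1 (hKC.sup_eq_top ▸ Submodule.mem_top (x := v))
  have hfc : f c = f v := by rw [← hv, map_add, LinearMap.mem_ker.1 hκ, zero_add]
  refine ⟨c, mem_fixedPts_iff_op.2 fun φ => ?_, hfc⟩
  have h1 : ComodLib.op φ c - φ 1 • c ∈ LinearMap.ker f := by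
    rw [LinearMap.mem_ker, map_sub, map_smul, ComodLib.isComodHom_op hf, hfc, op_of_fixed hw, sub_self]
  have h2 : ComodLib.op φ c - φ 1 • c ∈ C :=
    C.sub_mem ((ComodLib.isSubcomod_iff C).1 hC φ c hc) (C.smul_mem _ hc)
  exact sub_eq_zero.1 (Submodule.disjoint_def.1 hKC.disjoint _ h1 h2)

/-- a Reynolds operator: an idempotent comodule endomorphism with the invariants as fixed set -/
structure IsReynolds (A : Type v) [CommRing A] [Bialgebra k A] [HopfRep.Comod k A V]
    (E : V →ₗ[k] V) : Prop where
  hom : Hoch.IsComodHom A E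
  idem : E ∘ₗ E = E
  fixed : ∀ x : V, E x = x ↔ x ∈ HopfRep.fixedPts k A V

theorem IsReynolds.apply_mem {E : V →ₗ[k] V} (h : IsReynolds A E) (x : V) :
    E x ∈ HopfRep.fixedPts k A V :=
  (h.fixed _).1 (LinearMap.congr_fun h.idem x)

theorem exists_reynolds (hG : HopfRep.IsLinearlyReductive k A) :
    ∃ E : V →ₗ[k] V, IsReynolds A E := by
  obtain ⟨C, hC, hc⟩ := isSemisimpleComod hG (HopfRep.fixedPts k A V) isSubcomod_fixedPts
  refine ⟨(HopfRep.fixedPts k A V).projection C hc, (ComodLib.isComodHom_iff _).2 fun φ x => ?_, ?_, ?_⟩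
  · obtain ⟨a, ha, b, hb, rfl⟩ := Submodule.mem_sup.1 (hc.sup_eq_top ▸ Submodule.mem_top (x := x))
    have hb' := (ComodLib.isSubcomod_iff C).1 hC φ b hb
    have ha' : φ 1 • a ∈ HopfRep.fixedPts k A V := Submodule.smul_mem _ _ ha
    simp only [map_add, op_of_fixed ha,
      Submodule.projection_apply_of_mem_left hc ha, Submodule.projection_apply_of_mem_left hc ha',
      Submodule.projection_apply_of_mem_right hc hb, Submodule.projection_apply_of_mem_right hc hb',
      add_zero, map_zero]
  · ext x
    rw [LinearMap.comp_apply]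
    exact Submodule.projection_apply_of_mem_left hc (Submodule.projection_apply_mem hc x)
  · intro x
    refine ⟨fun h => h ▸ Submodule.projection_apply_mem hc x, fun h => Submodule.projection_apply_of_mem_left hc h⟩

/-- naturality of Reynolds operators -/
theorem IsReynolds.natural (hG : HopfRep.IsLinearlyReductive k A) {E : V →ₗ[k] V} {E' : W →ₗ[k] W}
    (h : IsReynolds A E) (h' : IsReynolds A E') {u : V →ₗ[k] W} (hu : Hoch.IsComodHom A u) :
    E' ∘ₗ u = u ∘ₗ E := by
  let g : V →ₗ[k] W := E' ∘ₗ u
  have hg : Hoch.IsComodHom A g := ComodLib.isComodHom_comp h'.hom hu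
  let N : Submodule k V := LinearMap.ker E ⊓ LinearMap.ker g
  obtain ⟨C, hC, hc⟩ := isSemisimpleComod hG N
    (ComodLib.isSubcomod_inf (ComodLib.isSubcomod_ker h.hom) (ComodLib.isSubcomod_ker hg))
  have hle : LinearMap.ker E ≤ LinearMap.ker g := by
    intro y hy
    obtain ⟨n, hn, c, hcC, hnc⟩ := Submodule.mem_sup.1 (hc.sup_eq_top ▸ Submodule.mem_top (x := y))
    have hcE : E c = 0 := by
      have e := congrArg E hnc
      rw [map_add, LinearMap.mem_ker.1 hn.1, LinearMap.mem_ker.1 hy, zero_add] at e
      exact e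
    have hfix : c ∈ HopfRep.fixedPts k A V := mem_fixedPts_iff_op.2 fun φ => by
      have h1 : ComodLib.op φ c - φ 1 • c ∈ N := by
        refine ⟨?_, ?_⟩
        · rw [SetLike.mem_coe, LinearMap.mem_ker, map_sub, map_smul, ComodLib.isComodHom_op h.hom, hcE, map_zero,
            smul_zero, sub_zero]
        · rw [SetLike.mem_coe, LinearMap.mem_ker, map_sub, map_smul, ComodLib.isComodHom_op hg,
            op_of_fixed (show g c ∈ _ from h'.apply_mem (u c)), sub_self]
      have h2 : ComodLib.op φ c - φ 1 • c ∈ C :=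
        C.sub_mem ((ComodLib.isSubcomod_iff C).1 hC φ c hcC) (C.smul_mem _ hcC)
      exact sub_eq_zero.1 (Submodule.disjoint_def.1 hc.disjoint _ h1 h2)
    have hc0 : c = 0 := by rw [← (h.fixed c).2 hfix, hcE]
    rw [← hnc, hc0, add_zero]
    exact hn.2
  apply LinearMap.ext
  intro x
  have h1 : g (x - E x) = 0 := hle (by
    rw [LinearMap.mem_ker, map_sub, ← LinearMap.comp_apply E E, h.idem, sub_self])
  rw [map_sub, sub_eq_zero] at h1
  change g x = u (E x)
  rw [h1]
  exact (h'.fixed _).2 (map_mem_fixedPts hu (h.apply_mem x))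

theorem IsReynolds.unique (hG : HopfRep.IsLinearlyReductive k A) {E E' : V →ₗ[k] V}
    (h : IsReynolds A E) (h' : IsReynolds A E') : E = E' := by
  have := h.natural hG h' (u := LinearMap.id) (by
    change _ = _
    rw [LinearMap.rTensor_id, LinearMap.id_comp, LinearMap.comp_id])
  simpa using this.symm

theorem IsReynolds.apply_mem_of_mem (hG : HopfRep.IsLinearlyReductive k A) {E : V →ₗ[k] V}
    (h : IsReynolds A E) {U : Submodule k V} (hU : HopfRep.IsSubcomod (k := k) (A := A) U) {x : V}
    (hx : x ∈ U) : E x ∈ U := by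
  obtain ⟨C, hC, hc⟩ := isSemisimpleComod hG U hU
  let p : V →ₗ[k] V := C.projection U hc.symm
  have hp : Hoch.IsComodHom A p := (ComodLib.isComodHom_iff _).2 fun φ y => by
    obtain ⟨a, ha, b, hb, rfl⟩ := Submodule.mem_sup.1 (hc.symm.sup_eq_top ▸ Submodule.mem_top (x := y))
    have ha' := (ComodLib.isSubcomod_iff C).1 hC φ a ha
    have hb' := (ComodLib.isSubcomod_iff U).1 hU φ b hb
    simp only [p, map_add, Submodule.projection_apply_of_mem_left hc.symm ha,
      Submodule.projection_apply_of_mem_left hc.symm ha',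
      Submodule.projection_apply_of_mem_right hc.symm hb,
      Submodule.projection_apply_of_mem_right hc.symm hb', add_zero, map_zero]
  have e := LinearMap.congr_fun (h.natural hG h hp) x
  simp only [LinearMap.comp_apply, p, Submodule.projection_apply_of_mem_right hc.symm hx, map_zero] at e
  exact (Submodule.projection_apply_eq_zero_iff hc.symm).1 e.symm

section Alg

variable {R : Type v} [CommRing R] [Algebra k R] [HopfRep.Comod k A R]
  (hmul : ∀ f g : R, HopfRep.Comod.coact (k := k) (A := A) (f * g) =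
    HopfRep.Comod.coact (k := k) (A := A) f * HopfRep.Comod.coact (k := k) (A := A) g)

include hmul

theorem isComodHom_mulRight {y : R} (hy : y ∈ HopfRep.fixedPts k A R) :
    Hoch.IsComodHom A (LinearMap.mulRight k y) := by
  change HopfRep.Comod.coact (k := k) (A := A) y = y ⊗ₜ[k] (1 : A) at hy
  refine LinearMap.ext fun x => ?_
  simp only [LinearMap.comp_apply, LinearMap.mulRight_apply, hmul, hy]
  induction HopfRep.Comod.coact (k := k) (A := A) x using TensorProduct.induction_on with
  | zero => simp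
  | tmul a b => simp
  | add a b ha hb => rw [add_mul, map_add, ha, hb]

theorem IsReynolds.map_mul (hG : HopfRep.IsLinearlyReductive k A) {E : R →ₗ[k] R}
    (h : IsReynolds A E) (x : R) {y : R} (hy : y ∈ HopfRep.fixedPts k A R) :
    E (x * y) = E x * y :=
  LinearMap.congr_fun (h.natural hG h (isComodHom_mulRight hmul hy)) x

theorem isSubcomod_mul {U U' : Submodule k R} (h : HopfRep.IsSubcomod (k := k) (A := A) U)
    (h' : HopfRep.IsSubcomod (k := k) (A := A) U') :
    HopfRep.IsSubcomod (k := k) (A := A) (U * U') := by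
  intro w hw
  refine Submodule.mul_induction_on hw (fun a ha b hb => ?_) fun a b ha hb => ?_
  · obtain ⟨p, hp⟩ := h a ha
    obtain ⟨q, hq⟩ := h' b hb
    rw [hmul, ← hp, ← hq]
    clear hp hq
    induction p using TensorProduct.induction_on with
    | zero => simp
    | add s t hs ht => rw [map_add, add_mul]; exact add_mem hs ht
    | tmul s t =>
      induction q using TensorProduct.induction_on with
      | zero => simp
      | add s' t' hs' ht' => rw [map_add, mul_add]; exact add_mem hs' ht'
      | tmul s' t' =>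
        exact ⟨⟨s.1 * s'.1, Submodule.mul_mem_mul s.2 s'.2⟩ ⊗ₜ (t * t'), by simp⟩
  · rw [map_add]; exact add_mem ha hb

theorem isSubcomod_one_pow (hone : HopfRep.Comod.coact (k := k) (A := A) (1 : R) = 1)
    {U : Submodule k R} (h : HopfRep.IsSubcomod (k := k) (A := A) U) (n : ℕ) :
    HopfRep.IsSubcomod (k := k) (A := A) (U ^ n) := by
  induction n with
  | zero =>
    rw [pow_zero]
    intro w hw
    obtain ⟨c, rfl⟩ := Submodule.mem_one.1 hw
    refine ⟨(⟨algebraMap k R c, hw⟩ : (1 : Submodule k R)) ⊗ₜ 1, ?_⟩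
    simp only [LinearMap.rTensor_tmul, Submodule.subtype_apply]
    rw [Algebra.algebraMap_eq_smul_one, map_smul, hone,
      Algebra.TensorProduct.one_def, TensorProduct.smul_tmul']
  | succ n ih => rw [pow_succ]; exact isSubcomod_mul hmul ih h

/-- invariant part of a sum of invariant elements times arbitrary coefficients -/
theorem IsReynolds.eq_sum (hG : HopfRep.IsLinearlyReductive k A) {E : R →ₗ[k] R}
    (h : IsReynolds A E) {ι : Type*} (s : Finset ι) (r q : ι → R)
    (hq : ∀ i ∈ s, q i ∈ HopfRep.fixedPts k A R)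
    (hx : ∑ i ∈ s, r i * q i ∈ HopfRep.fixedPts k A R) :
    ∑ i ∈ s, r i * q i = ∑ i ∈ s, E (r i) * q i := by
  rw [← (h.fixed _).2 hx, map_sum]
  exact Finset.sum_congr rfl fun i hi => h.map_mul hmul hG (r i) (hq i hi)

end Alg

end Groth.GitQuot
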