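import Mathlib

/-! The semisimple part of a matrix as a limit of conjugates. -/

set_option autoImplicit false

universe u

open Matrix

namespace Groth.SemisimpleLimit

variable {k : Type u} [Field k] {n : ℕ}

theorem exists_idempotent (S N : Matrix (Fin n) (Fin n) k) (hS : Module.End.IsSemisimple (toLin' S))
    (hSN : Commute S N) :
    ∃ E : Matrix (Fin n) (Fin n) k, N * E = 0 ∧ S * E = E * S ∧ E * E = E ∧
      ∀ M : Matrix (Fin n) (Fin n) k, N * M = 0 → E * M = M := by
  let f := toLin' S
  let K : Submodule k (Fin n → k) := LinearMap.ker (toLin' N)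
  have hmem : ∀ x, x ∈ K ↔ N *ᵥ x = 0 := fun x => by simp [K, LinearMap.mem_ker]
  have hK : K ∈ Module.End.invtSubmodule f := by
    rw [Module.End.mem_invtSubmodule]
    intro x hx
    rw [hmem] at hx
    show f x ∈ K
    rw [hmem]
    simp only [f, toLin'_apply, mulVec_mulVec]
    rw [← hSN.eq, ← mulVec_mulVec, hx, mulVec_zero]
  obtain ⟨q, hq, hKq⟩ := Module.End.isSemisimple_iff.mp hS K hK
  let π := K.projection q hKq
  have hπK : ∀ x, π x ∈ K := fun x => (K.projectionOnto q hKq x).2
  have hπfix : ∀ x ∈ K, π x = x := fun x hx => Submodule.projection_apply_left hKq ⟨x, hx⟩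
  have hfπ : ∀ x, f (π x) = π (f x) := by
    intro x
    have hd : x - π x ∈ q := by
      have : π (x - π x) = 0 := by rw [map_sub, hπfix _ (hπK x), sub_self]
      have h' : K.projectionOnto q hKq (x - π x) = 0 := Subtype.ext this
      exact (Submodule.projectionOnto_apply_eq_zero_iff hKq).mp h'
    have h1 : π (f (π x)) = f (π x) := hπfix _ ((Module.End.mem_invtSubmodule f).mp hK (hπK x))
    have h2 : π (f (x - π x)) = 0 := congrArg Subtype.val
      ((Submodule.projectionOnto_apply_eq_zero_iff hKq).mpr ((Module.End.mem_invtSubmodule f).mp hq hd))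
    rw [map_sub, map_sub, h1, sub_eq_zero] at h2
    exact h2.symm
  refine ⟨LinearMap.toMatrix' π, ?_, ?_, ?_, ?_⟩
  · apply toLin'.injective
    refine LinearMap.ext fun x => ?_
    rw [toLin'_mul, toLin'_toMatrix', LinearMap.comp_apply, map_zero, LinearMap.zero_apply, toLin'_apply]
    exact (hmem _).mp (hπK x)
  · apply toLin'.injective
    refine LinearMap.ext fun x => ?_
    simp only [toLin'_mul, toLin'_toMatrix', LinearMap.comp_apply]
    exact hfπ x
  · apply toLin'.injective
    refine LinearMap.ext fun x => ?_
    simp only [toLin'_mul, toLin'_toMatrix', LinearMap.comp_apply]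
    exact hπfix _ (hπK x)
  · intro M hM
    apply toLin'.injective
    refine LinearMap.ext fun x => ?_
    simp only [toLin'_mul, toLin'_toMatrix', LinearMap.comp_apply]
    refine hπfix _ ((hmem _).mpr ?_)
    rw [toLin'_apply, mulVec_mulVec, hM, zero_mulVec]

/-- A polynomial vanishing on the conjugation orbit of `S + N` vanishes at `S`. -/
theorem eval_eq_zero [Infinite k] (S : Matrix (Fin n) (Fin n) k) (hS : Module.End.IsSemisimple (toLin' S)) :
    ∀ (m : ℕ) (N : Matrix (Fin n) (Fin n) k), N ^ m = 0 → Commute S N →
    ∀ F : MvPolynomial (Fin n × Fin n) k,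
      (∀ A : Matrix (Fin n) (Fin n) k, IsUnit A.det →
        MvPolynomial.eval (fun p => (A * (S + N) * A⁻¹) p.1 p.2) F = 0) →
      MvPolynomial.eval (fun p => S p.1 p.2) F = 0 := by
  intro m
  induction m with
  | zero =>
    intro N hN _ F hF
    rw [pow_zero] at hN
    have hz : ∀ M : Matrix (Fin n) (Fin n) k, M = 0 := fun M => by
      rw [← one_mul M, hN, zero_mul]
    have := hF 1 (by simp)
    simpa [hz N] using this
  | succ m ih =>
    intro N hN hSN F hF
    obtain ⟨E, hNE, hSE, hEE, hfix⟩ := exists_idempotent S N hS hSN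
    let N' := (1 - E) * N
    have hcomm : Commute S N' := by
      show S * ((1 - E) * N) = (1 - E) * N * S
      rw [← mul_assoc, mul_sub, mul_one, hSE]
      rw [show S - E * S = (1 - E) * S by rw [sub_mul, one_mul], mul_assoc, hSN.eq, mul_assoc]
    have hN'pow : ∀ j, N' ^ (j + 1) = (1 - E) * N ^ (j + 1) := by
      intro j
      induction j with
      | zero => simp [N']
      | succ j hj =>
        rw [pow_succ, hj, pow_succ N (j + 1)]
        simp only [N', mul_assoc]
        congr 1
        rw [pow_succ N j]
        simp only [mul_assoc]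
        congr 1
        rw [← mul_assoc N (1 - E), mul_sub, mul_one, hNE, sub_zero]
    by_cases hN0 : N = 0
    · have := hF 1 (by simp)
      simpa [hN0] using this
    have hN'm : N' ^ m = 0 := by
      rcases m with _ | j
      · exact absurd (by simpa using hN) hN0
      · rw [hN'pow, sub_mul, one_mul, hfix (N ^ (j + 1)) (by rw [← pow_succ']; exact hN), sub_self]
    refine ih N' hN'm hcomm F fun B hB => ?_
    -- the curve through the orbit
    let P : Polynomial k := MvPolynomial.eval₂ Polynomial.C
      (fun p => Polynomial.C ((B * (S + N') * B⁻¹) p.1 p.2) + Polynomial.C ((B * (E * N) * B⁻¹) p.1 p.2) * Polynomial.X) F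
    have hP : ∀ t : k, P.eval t =
        MvPolynomial.eval (fun p => (B * (S + N' + t • (E * N)) * B⁻¹) p.1 p.2) F := by
      intro t
      show (Polynomial.evalRingHom t) P = _
      rw [MvPolynomial.eval₂_comp_left]
      simp only [Function.comp_def, MvPolynomial.eval_eq', MvPolynomial.eval₂_eq']
      simp [Matrix.mul_add, Matrix.add_mul, mul_comm t]
    have hzero : ∀ t : k, t ≠ 0 → P.eval t = 0 := by
      intro t ht
      let A := t • E + (1 - E)
      let A' := t⁻¹ • E + (1 - E)
      have hE1 : E * (1 - E) = 0 := by rw [mul_sub, mul_one, hEE, sub_self]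
      have h1E : (1 - E) * E = 0 := by rw [sub_mul, one_mul, hEE, sub_self]
      have h11 : (1 - E) * (1 - E) = 1 - E := by rw [mul_sub, mul_one, h1E, sub_zero]
      have hAA : A * A' = 1 := by
        simp [A, A', add_mul, mul_add, smul_mul_assoc, mul_smul_comm, hEE, hE1, h1E, h11, smul_smul, ht]
      have hNA : N * A' = N := by
        simp [A', mul_add, mul_sub, mul_smul_comm, hNE]
      have hdet : IsUnit A.det := isUnit_det_of_right_inverse hAA
      have hinv : A⁻¹ = A' := inv_eq_right_inv hAA
      have hconj : A * (S + N) * A⁻¹ = S + N' + t • (E * N) := by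
        have hAS : A * S = S * A := by
          simp [A, add_mul, mul_add, sub_mul, mul_sub, smul_mul_assoc, mul_smul_comm, hSE]
        rw [hinv, mul_add A S N, hAS, add_mul (S * A) (A * N) A', mul_assoc S, hAA, mul_one, mul_assoc A, hNA]
        simp only [A, N', add_mul, smul_mul_assoc]
        abel
      rw [hP, ← hconj]
      have h := hF (B * A) (by rw [det_mul]; exact hB.mul hdet)
      rw [Matrix.mul_inv_rev] at h
      simpa only [Matrix.mul_assoc] using h
    have hP0 : P = 0 := by
      refine Polynomial.eq_zero_of_infinite_isRoot P (((Set.finite_singleton (0 : k)).infinite_compl).mono ?_)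
      exact fun t ht => hzero t ht
    have := hP 0
    rw [hP0, Polynomial.eval_zero, zero_smul, add_zero] at this
    exact this.symm

end Groth.SemisimpleLimit
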