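import Mathlib
import Groth.Agent.GitQuot.SemisimpleLimit

/-! Semisimple matrices with equal characteristic polynomials are conjugate. -/

set_option autoImplicit false

universe u

open Matrix

namespace Groth.SemisimpleLimit

variable {k : Type u} [Field k] [IsAlgClosed k] {n : ℕ}

theorem exists_eigenbasis (S : Matrix (Fin n) (Fin n) k) (hS : Module.End.IsSemisimple (toLin' S)) :
    ∃ (b : Module.Basis (Fin n) k (Fin n → k)) (d : Fin n → k), ∀ i, toLin' S (b i) = d i • b i := by
  classical
  let s : Set (Fin n → k) := ⋃ μ : k, (Module.End.eigenspace (toLin' S) μ : Set (Fin n → k))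
  have hs : ⊤ ≤ Submodule.span k s := by
    rw [Submodule.span_iUnion, ← hS.iSup_eigenspace_eq_top]
    exact iSup_mono fun μ => Submodule.subset_span
  let b₀ := Module.Basis.ofSpan hs
  let b := b₀.reindex (b₀.indexEquiv (Pi.basisFun k (Fin n)))
  have hb : ∀ i, ∃ μ : k, toLin' S (b i) = μ • b i := by
    intro i
    obtain ⟨μ, hμ⟩ := Set.mem_iUnion.mp
      ((Module.Basis.ofSpan_subset hs) ⟨(b₀.indexEquiv (Pi.basisFun k (Fin n))).symm i, rfl⟩)
    refine ⟨μ, ?_⟩
    have : b i = b₀ ((b₀.indexEquiv (Pi.basisFun k (Fin n))).symm i) := Module.Basis.reindex_apply ..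
    rw [this]
    exact Module.End.mem_eigenspace_iff.mp hμ
  choose d hd using hb
  exact ⟨b, d, hd⟩

theorem roots_charpoly_eq (S : Matrix (Fin n) (Fin n) k) (b : Module.Basis (Fin n) k (Fin n → k))
    (d : Fin n → k) (h : ∀ i, toLin' S (b i) = d i • b i) :
    S.charpoly.roots = Finset.univ.val.map d := by
  classical
  have h1 : LinearMap.toMatrix b b (toLin' S) = Matrix.diagonal d := by
    ext i j
    rw [LinearMap.toMatrix_apply, h, map_smul, Finsupp.smul_apply, Module.Basis.repr_self,
      Finsupp.single_apply, Matrix.diagonal_apply, smul_eq_mul]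
    rcases eq_or_ne i j with rfl | hij
    · simp
    · simp [hij, Ne.symm hij]
  rw [← Matrix.charpoly_toLin' S, ← LinearMap.charpoly_toMatrix (toLin' S) b, h1, charpoly_diagonal,
    Finset.prod_eq_multiset_prod]
  have := Polynomial.roots_multiset_prod_X_sub_C (Finset.univ.val.map d)
  rw [Multiset.map_map] at this
  exact this

/-- Semisimple matrices with the same characteristic polynomial are conjugate. -/
theorem exists_conj (S₁ S₂ : Matrix (Fin n) (Fin n) k) (h₁ : Module.End.IsSemisimple (toLin' S₁))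
    (h₂ : Module.End.IsSemisimple (toLin' S₂)) (h : S₁.charpoly = S₂.charpoly) :
    ∃ A : Matrix (Fin n) (Fin n) k, IsUnit A.det ∧ A * S₁ * A⁻¹ = S₂ := by
  classical
  obtain ⟨b₁, d₁, hd₁⟩ := exists_eigenbasis S₁ h₁
  obtain ⟨b₂, d₂, hd₂⟩ := exists_eigenbasis S₂ h₂
  have hm : Finset.univ.val.map d₁ = Finset.univ.val.map d₂ := by
    rw [← roots_charpoly_eq S₁ b₁ d₁ hd₁, ← roots_charpoly_eq S₂ b₂ d₂ hd₂, h]
  have hcard : ∀ c, Fintype.card {i // d₁ i = c} = Fintype.card {i // d₂ i = c} := fun c => by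
    have := congrArg (Multiset.count c) hm
    simp only [Multiset.count_map] at this
    rw [Fintype.card_subtype, Fintype.card_subtype]
    simpa [Finset.card_def, Finset.filter_val, eq_comm] using this
  let σ := Equiv.ofFiberEquiv (f := d₁) (g := d₂) fun c => Fintype.equivOfCardEq (hcard c)
  have hσ : ∀ i, d₂ (σ i) = d₁ i := Equiv.ofFiberEquiv_map _
  let T : (Fin n → k) ≃ₗ[k] (Fin n → k) := b₁.equiv b₂ σ
  have hT : ∀ x, T (toLin' S₁ x) = toLin' S₂ (T x) := by
    intro x
    have : (T.toLinearMap ∘ₗ toLin' S₁) = toLin' S₂ ∘ₗ T.toLinearMap := b₁.ext fun i => by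
      simp only [LinearMap.comp_apply, LinearEquiv.coe_coe, hd₁, map_smul, T, Module.Basis.equiv_apply,
        hd₂, hσ]
    exact LinearMap.congr_fun this x
  let A := LinearMap.toMatrix' T.toLinearMap
  have hA : IsUnit A.det := by
    rw [LinearMap.det_toMatrix']
    exact T.isUnit_det'
  refine ⟨A, hA, ?_⟩
  have : A * S₁ = S₂ * A := by
    apply toLin'.injective
    refine LinearMap.ext fun x => ?_
    simp only [toLin'_mul, A, toLin'_toMatrix', LinearMap.comp_apply, LinearEquiv.coe_coe]
    exact hT x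
  rw [this, mul_assoc, Matrix.mul_nonsing_inv A hA, mul_one]

omit [IsAlgClosed k] in
/-- The coefficients of the characteristic polynomial as polynomials in the entries. -/
theorem charpoly_eq_of_eval_eq_zero (B C : Matrix (Fin n) (Fin n) k)
    (h : ∀ F : MvPolynomial (Fin n × Fin n) k,
      (∀ A : Matrix (Fin n) (Fin n) k, IsUnit A.det →
        MvPolynomial.eval (fun p => (A * B * A⁻¹) p.1 p.2) F = 0) →
      MvPolynomial.eval (fun p => C p.1 p.2) F = 0) :
    C.charpoly = B.charpoly := by
  ext j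
  have hev : ∀ M : Matrix (Fin n) (Fin n) k, MvPolynomial.eval (fun p => M p.1 p.2)
      ((Matrix.charpoly.univ k (Fin n)).coeff j) = M.charpoly.coeff j := fun M => by
    exact (Matrix.charpoly.univ_coeff_eval₂Hom (Fin n) (RingHom.id k) (fun p => M p.1 p.2) j)
  have := h ((Matrix.charpoly.univ k (Fin n)).coeff j - MvPolynomial.C (B.charpoly.coeff j)) fun A hA => by
    rw [map_sub, MvPolynomial.eval_C, hev]
    rw [sub_eq_zero]
    let u : (Matrix (Fin n) (Fin n) k)ˣ := (Matrix.isUnit_iff_isUnit_det A).mpr hA |>.unit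
    rw [show A = (u : Matrix (Fin n) (Fin n) k) from rfl, Matrix.charpoly_units_conj]
  rwa [map_sub, MvPolynomial.eval_C, hev, sub_eq_zero] at this

end Groth.SemisimpleLimit
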