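import Mathlib
import Groth.Prelude.Def_GLin
import Groth.Prelude.Def_HopfRep

/-!
# Torus actions with positive grading monoid
-/

set_option autoImplicit false

universe u v w

open TensorProduct AddMonoidAlgebra

noncomputable section

namespace Groth.GitQuot.TorusPos

variable {k : Type u} [Field k] {Λ : Type v} [AddCommGroup Λ]
  {R : Type w} [CommRing R] [Algebra k R]

/-- The coefficient at a weight. -/
def coeffL (a : Λ) : AddMonoidAlgebra k Λ →ₗ[k] k where
  toFun x := x.coeff a
  map_add' x y := by simp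
  map_smul' c x := by simp

theorem coeffL_single (a b : Λ) (c : k) [Decidable (b = a)] :
    coeffL a (AddMonoidAlgebra.single b c) = if b = a then c else 0 := by
  show (AddMonoidAlgebra.single b c).coeff a = _
  rw [AddMonoidAlgebra.coeff_single, Finsupp.single_apply]

theorem exists_sum (t : R ⊗[k] AddMonoidAlgebra k Λ) :
    ∃ f : Λ →₀ R, t = f.sum fun a r => r ⊗ₜ AddMonoidAlgebra.single a (1 : k) := by
  classical
  induction t with
  | zero => exact ⟨0, by simp⟩
  | tmul r x =>
    induction x using AddMonoidAlgebra.induction_linear with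
    | zero => exact ⟨0, by simp⟩
    | add x y hx hy =>
      obtain ⟨f, hf⟩ := hx
      obtain ⟨g, hg⟩ := hy
      exact ⟨f + g, by rw [TensorProduct.tmul_add, hf, hg, Finsupp.sum_add_index'] <;> simp [TensorProduct.add_tmul]⟩
    | single a c =>
      refine ⟨Finsupp.single a (c • r), ?_⟩
      rw [Finsupp.sum_single_index (by simp), TensorProduct.smul_tmul]
      simp
  | add x y hx hy =>
    obtain ⟨f, hf⟩ := hx
    obtain ⟨g, hg⟩ := hy
    exact ⟨f + g, by rw [hf, hg, Finsupp.sum_add_index'] <;> simp [TensorProduct.add_tmul]⟩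

variable [HopfRep.Comod k (AddMonoidAlgebra k Λ) R]

variable (k) in
/-- The projection to a weight space. -/
def proj (a : Λ) : R →ₗ[k] R :=
  (TensorProduct.rid k R).toLinearMap ∘ₗ (coeffL a).lTensor R ∘ₗ
    HopfRep.Comod.coact (k := k) (A := AddMonoidAlgebra k Λ)

theorem mem_eigen_iff {a : Λ} {r : R} :
    r ∈ HopfRep.eigenspace k (AddMonoidAlgebra k Λ) R (AddMonoidAlgebra.single a 1) ↔
      HopfRep.Comod.coact (k := k) (A := AddMonoidAlgebra k Λ) r = r ⊗ₜ AddMonoidAlgebra.single a 1 :=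
  Iff.rfl

theorem proj_of_mem {a b : Λ} [Decidable (a = b)] {r : R}
    (hr : r ∈ HopfRep.eigenspace k (AddMonoidAlgebra k Λ) R (AddMonoidAlgebra.single a 1)) :
    proj k b r = if a = b then r else 0 := by
  simp only [proj, LinearMap.comp_apply, mem_eigen_iff.1 hr, LinearMap.lTensor_tmul, coeffL_single,
    LinearEquiv.coe_coe, TensorProduct.rid_tmul]
  split_ifs <;> simp

theorem exists_decomp (r : R) :
    ∃ f : Λ →₀ R, (∀ a, f a ∈ HopfRep.eigenspace k (AddMonoidAlgebra k Λ) R (AddMonoidAlgebra.single a 1)) ∧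
      r = f.sum fun _ x => x := by
  classical
  obtain ⟨f, hf⟩ := exists_sum (HopfRep.Comod.coact (k := k) (A := AddMonoidAlgebra k Λ) r)
  refine ⟨f, fun a => ?_, ?_⟩
  · have h := LinearMap.congr_fun (HopfRep.Comod.coassoc (k := k) (A := AddMonoidAlgebra k Λ) (V := R)) r
    simp only [LinearMap.comp_apply] at h
    rw [hf] at h
    let L : R ⊗[k] (AddMonoidAlgebra k Λ ⊗[k] AddMonoidAlgebra k Λ) →ₗ[k] R ⊗[k] AddMonoidAlgebra k Λ :=
      ((TensorProduct.rid k (AddMonoidAlgebra k Λ)).toLinearMap ∘ₗ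
        (coeffL a).lTensor (AddMonoidAlgebra k Λ)).lTensor R
    have key : ∀ (y : R ⊗[k] AddMonoidAlgebra k Λ) (b : Λ),
        L (TensorProduct.assoc k R (AddMonoidAlgebra k Λ) (AddMonoidAlgebra k Λ)
            (y ⊗ₜ AddMonoidAlgebra.single b 1)) = if b = a then y else 0 := by
      intro y b
      induction y with
      | zero => simp
      | tmul p q => simp [L, coeffL_single]; split_ifs <;> simp
      | add p q hp hq => simp only [TensorProduct.add_tmul, map_add, hp, hq]; split_ifs <;> simp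
    have key2 : ∀ (p : R) (b : Λ), L (p ⊗ₜ (AddMonoidAlgebra.single b (1 : k) ⊗ₜ AddMonoidAlgebra.single b (1 : k))) =
        if b = a then p ⊗ₜ AddMonoidAlgebra.single b (1 : k) else 0 := by
      intro p b
      simp [L, coeffL_single]
      split_ifs <;> simp
    have h2 := congrArg L h
    simp only [Finsupp.sum, map_sum, LinearMap.rTensor_tmul, LinearMap.lTensor_tmul, LinearEquiv.coe_coe,
      AddMonoidAlgebra.comul_single, CommSemiring.comul_apply, TensorProduct.map_tmul,
      AddMonoidAlgebra.lsingle_apply, key, key2] at h2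
    refine mem_eigen_iff.2 ?_
    rw [Finset.sum_ite_eq', Finset.sum_ite_eq'] at h2
    by_cases ha : a ∈ f.support
    · simpa [ha] using h2
    · simp [Finsupp.notMem_support_iff.1 ha]
  · have h := LinearMap.congr_fun (HopfRep.Comod.counit_comp (k := k) (A := AddMonoidAlgebra k Λ) (V := R)) r
    simp only [LinearMap.comp_apply, hf, map_finsuppSum, LinearMap.lTensor_tmul,
      AddMonoidAlgebra.counit_single, CommSemiring.counit_apply, LinearMap.flip_apply,
      TensorProduct.mk_apply] at h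
    have := congrArg (TensorProduct.rid k R) h
    simpa [map_finsuppSum] using this.symm

variable [GLin.IsCoactAlg k (AddMonoidAlgebra k Λ) R]

theorem mul_mem_eigen {a b : Λ} {r s : R}
    (hr : r ∈ HopfRep.eigenspace k (AddMonoidAlgebra k Λ) R (AddMonoidAlgebra.single a 1))
    (hs : s ∈ HopfRep.eigenspace k (AddMonoidAlgebra k Λ) R (AddMonoidAlgebra.single b 1)) :
    r * s ∈ HopfRep.eigenspace k (AddMonoidAlgebra k Λ) R (AddMonoidAlgebra.single (a + b) 1) := by
  rw [mem_eigen_iff, GLin.IsCoactAlg.coact_mul, mem_eigen_iff.1 hr, mem_eigen_iff.1 hs,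
    Algebra.TensorProduct.tmul_mul_tmul, AddMonoidAlgebra.single_mul_single, one_mul]

variable (k Λ R) in
/-- The ideal generated by the eigenvectors of non-zero weight. -/
def irrIdeal : Ideal R :=
  Ideal.span {f : R | ∃ a : Λ, a ≠ 0 ∧
    f ∈ HopfRep.eigenspace k (AddMonoidAlgebra k Λ) R (AddMonoidAlgebra.single a 1)}

theorem mem_eigen_zero_iff {r : R} :
    r ∈ HopfRep.eigenspace k (AddMonoidAlgebra k Λ) R (AddMonoidAlgebra.single (0 : Λ) 1) ↔
      r ∈ GLin.invariants k (AddMonoidAlgebra k Λ) R := by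
  rw [mem_eigen_iff, GLin.mem_invariants_iff, ← AddMonoidAlgebra.one_def]

theorem exists_zero_add_mem_irr (r : R) :
    ∃ r₀ ∈ HopfRep.eigenspace k (AddMonoidAlgebra k Λ) R (AddMonoidAlgebra.single (0 : Λ) 1),
      r - r₀ ∈ irrIdeal k Λ R := by
  classical
  obtain ⟨f, hf, e⟩ := exists_decomp (k := k) (Λ := Λ) r
  refine ⟨f 0, hf 0, ?_⟩
  rw [e, Finsupp.sum]
  by_cases h0 : (0 : Λ) ∈ f.support
  · rw [← Finset.add_sum_erase _ _ h0, add_sub_cancel_left]
    exact Ideal.sum_mem _ fun a ha => Ideal.subset_span ⟨a, (Finset.mem_erase.1 ha).1, hf a⟩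
  · rw [Finsupp.notMem_support_iff.1 h0, sub_zero]
    exact Ideal.sum_mem _ fun a ha => Ideal.subset_span ⟨a, fun e => h0 (e ▸ ha), hf a⟩

variable (hpos : ∀ a : Λ,
  HopfRep.eigenspace k (AddMonoidAlgebra k Λ) R (AddMonoidAlgebra.single a 1) ≠ ⊥ →
  HopfRep.eigenspace k (AddMonoidAlgebra k Λ) R (AddMonoidAlgebra.single (-a) 1) ≠ ⊥ → a = 0)
include hpos

theorem proj_zero_irr {y : R} (hy : y ∈ irrIdeal k Λ R) : proj k (0 : Λ) y = 0 := by
  classical
  suffices ∀ r : R, proj k (0 : Λ) (r * y) = 0 by simpa using this 1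
  induction hy using Submodule.span_induction with
  | zero => simp
  | add x y _ _ hx hy => intro r; rw [mul_add, map_add, hx, hy, add_zero]
  | smul c x _ hx => intro r; rw [smul_eq_mul, ← mul_assoc]; exact hx _
  | mem x hx =>
    obtain ⟨a, ha, hxa⟩ := hx
    intro r
    obtain ⟨f, hf, rfl⟩ := exists_decomp (k := k) (Λ := Λ) r
    rw [Finsupp.sum, Finset.sum_mul, map_sum]
    refine Finset.sum_eq_zero fun b _ => ?_
    rw [proj_of_mem (mul_mem_eigen (hf b) hxa)]
    split_ifs with hb
    · by_contra hne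
      refine ha (hpos a ?_ ?_)
      · exact (Submodule.ne_bot_iff _).2 ⟨x, hxa, fun e => hne (by rw [e, mul_zero])⟩
      · rw [← eq_neg_of_add_eq_zero_left hb]
        exact (Submodule.ne_bot_iff _).2 ⟨f b, hf b, fun e => hne (by rw [e, zero_mul])⟩
    · rfl

theorem bijective_invariants_to_quotient :
    Function.Bijective ((Ideal.Quotient.mkₐ k (irrIdeal k Λ R)).comp
      (GLin.invariants k (AddMonoidAlgebra k Λ) R).val) := by
  classical
  refine ⟨fun x y hxy => Subtype.ext (sub_eq_zero.1 ?_), fun q => ?_⟩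
  · have hm : (x : R) - y ∈ irrIdeal k Λ R := Ideal.Quotient.eq.1 hxy
    have := proj_zero_irr hpos hm
    rwa [proj_of_mem (a := (0 : Λ)) (mem_eigen_zero_iff.2 (sub_mem x.2 y.2)), if_pos rfl] at this
  · obtain ⟨r, rfl⟩ := Ideal.Quotient.mk_surjective q
    obtain ⟨r₀, h₀, h⟩ := exists_zero_add_mem_irr (k := k) (Λ := Λ) r
    exact ⟨⟨r₀, mem_eigen_zero_iff.1 h₀⟩, (Ideal.Quotient.eq.2 h).symm⟩

omit hpos in
theorem orbitHom_eigen (x : R →ₐ[k] k) {a : Λ} {r : R}
    (hr : r ∈ HopfRep.eigenspace k (AddMonoidAlgebra k Λ) R (AddMonoidAlgebra.single a 1)) :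
    GLin.orbitHom k (AddMonoidAlgebra k Λ) x r = x r • AddMonoidAlgebra.single a (1 : k) := by
  simp [GLin.orbitHom, mem_eigen_iff.1 hr]

theorem isClosedOrbit_iff_isFixedPt (x : R →ₐ[k] k) :
    GLin.IsClosedOrbit k (AddMonoidAlgebra k Λ) x ↔ GLin.IsFixedPt k (AddMonoidAlgebra k Λ) x := by
  classical
  have hmax : (RingHom.ker x).IsMaximal :=
    RingHom.ker_isMaximal_of_surjective x fun c => ⟨algebraMap k R c, by simp⟩
  constructor
  · intro hc
    let y : R → k := fun r => x (proj k (0 : Λ) r)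
    have hy0 : ∀ r₀ ∈ HopfRep.eigenspace k (AddMonoidAlgebra k Λ) R (AddMonoidAlgebra.single (0 : Λ) 1),
        ∀ r, r - r₀ ∈ irrIdeal k Λ R → y r = x r₀ := fun r₀ h₀ r h => by
      have := proj_zero_irr hpos h
      rw [map_sub, proj_of_mem (a := (0 : Λ)) h₀, if_pos rfl, sub_eq_zero] at this
      simp only [y, this]
    let I : Ideal R :=
      { carrier := {r | y r = 0}
        add_mem' := fun {p q} hp hq => by simp only [Set.mem_setOf_eq, y, map_add] at hp hq ⊢; simp [hp, hq]
        zero_mem' := by simp [y]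
        smul_mem' := fun c r hr => by
          obtain ⟨c₀, hc₀, hcm⟩ := exists_zero_add_mem_irr (k := k) (Λ := Λ) c
          obtain ⟨r₀, hr₀, hrm⟩ := exists_zero_add_mem_irr (k := k) (Λ := Λ) r
          have h00 := mul_mem_eigen hc₀ hr₀
          rw [add_zero] at h00
          have hm : c * r - c₀ * r₀ ∈ irrIdeal k Λ R := by
            rw [show c * r - c₀ * r₀ = c * (r - r₀) + r₀ * (c - c₀) by ring]
            exact add_mem (Ideal.mul_mem_left _ _ hrm) (Ideal.mul_mem_left _ _ hcm)
          show y (c * r) = 0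
          rw [hy0 _ h00 _ hm, map_mul, ← hy0 _ hr₀ _ hrm, show y r = 0 from hr, mul_zero] }
    have hker : RingHom.ker (GLin.orbitHom k (AddMonoidAlgebra k Λ) x) ≤ I := fun r hr => by
      obtain ⟨f, hf, rfl⟩ := exists_decomp (k := k) (Λ := Λ) r
      rw [RingHom.mem_ker, Finsupp.sum, map_sum] at hr
      have := congrArg (coeffL (k := k) (0 : Λ)) hr
      simp only [orbitHom_eigen x (hf _), map_sum, map_smul, coeffL_single, smul_eq_mul, map_zero] at this
      show x (proj k (0 : Λ) _) = 0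
      rw [Finsupp.sum, map_sum, map_sum, ← this]
      refine Finset.sum_congr rfl fun a _ => ?_
      rw [proj_of_mem (hf a)]
      split_ifs <;> simp
    have hne : I ≠ ⊤ := (Ideal.ne_top_iff_one I).2 fun h1 => by
      have : y 1 = x 1 := hy0 1 (mem_eigen_zero_iff.2 (one_mem _)) 1 (by simp)
      rw [map_one] at this
      exact one_ne_zero (this.symm.trans h1)
    obtain ⟨M, hM, hIM⟩ := I.exists_le_maximal hne
    let P : PrimeSpectrum R := ⟨M, hM.isPrime⟩
    have hP : P ∈ closure (Set.range (PrimeSpectrum.comap (GLin.orbitHom k (AddMonoidAlgebra k Λ) x).toRingHom)) := by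
      rw [PrimeSpectrum.closure_range_comap]
      exact (PrimeSpectrum.mem_zeroLocus _ _).2 (hker.trans hIM)
    rw [hc.closure_eq] at hP
    obtain ⟨q, hq⟩ := hP
    have hzero : ∀ a : Λ, a ≠ 0 → ∀ f ∈ HopfRep.eigenspace k (AddMonoidAlgebra k Λ) R (AddMonoidAlgebra.single a 1),
        x f = 0 := fun a ha f hf => by
      by_contra hne'
      have hfM : f ∈ M := hIM (show y f = 0 by simp [y, proj_of_mem hf, ha])
      have hfq : GLin.orbitHom k (AddMonoidAlgebra k Λ) x f ∈ q.asIdeal := by
        have : f ∈ (PrimeSpectrum.comap (GLin.orbitHom k (AddMonoidAlgebra k Λ) x).toRingHom q).asIdeal := by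
          rw [hq]; exact hfM
        exact this
      rw [orbitHom_eigen x hf] at hfq
      refine q.isPrime.ne_top (Ideal.eq_top_of_isUnit_mem _ hfq (isUnit_iff_exists_inv.2
        ⟨(x f)⁻¹ • AddMonoidAlgebra.single (-a) (1 : k), ?_⟩))
      rw [smul_mul_smul_comm, mul_inv_cancel₀ hne', one_smul, AddMonoidAlgebra.single_mul_single,
        add_neg_cancel, one_mul, AddMonoidAlgebra.one_def]
    refine AlgHom.ext fun r => ?_
    obtain ⟨f, hf, rfl⟩ := exists_decomp (k := k) (Λ := Λ) r
    simp only [Finsupp.sum, map_sum]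
    refine Finset.sum_congr rfl fun a _ => ?_
    rw [orbitHom_eigen x (hf a)]
    by_cases ha : a = 0
    · subst ha
      rw [← AddMonoidAlgebra.one_def, AlgHom.comp_apply, Algebra.ofId_apply, Algebra.algebraMap_eq_smul_one]
    · rw [hzero a ha _ (hf a)]
      simp [hzero a ha _ (hf a)]
  · intro hfx
    have hr : Set.range (PrimeSpectrum.comap (GLin.orbitHom k (AddMonoidAlgebra k Λ) x).toRingHom) =
        {(⟨RingHom.ker x, hmax.isPrime⟩ : PrimeSpectrum R)} := by
      have key : ∀ q : PrimeSpectrum (AddMonoidAlgebra k Λ),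
          PrimeSpectrum.comap (GLin.orbitHom k (AddMonoidAlgebra k Λ) x).toRingHom q =
            ⟨RingHom.ker x, hmax.isPrime⟩ := fun q => by
        refine PrimeSpectrum.ext (hmax.eq_of_le (Ideal.IsPrime.comap _).ne_top ?_).symm
        intro r hr
        show GLin.orbitHom k (AddMonoidAlgebra k Λ) x r ∈ q.asIdeal
        rw [hfx, AlgHom.comp_apply, RingHom.mem_ker.1 hr, map_zero]
        exact zero_mem _
      obtain ⟨q⟩ : Nonempty (PrimeSpectrum (AddMonoidAlgebra k Λ)) := inferInstance
      exact Set.eq_singleton_iff_unique_mem.2 ⟨⟨q, key q⟩, by rintro _ ⟨p, rfl⟩; exact key p⟩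
    show IsClosed _
    rw [hr]
    exact (PrimeSpectrum.isClosed_singleton_iff_isMaximal _).2 hmax

end Groth.GitQuot.TorusPos
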